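import Cfsg.Agent.Lib.M24Type.Closure

/-!
# No element of odd order centralises an involution of `S/A`

Let `k` normalise `A` and centralise `s` modulo `C = C(A)`.  The elements of `N(A)` with the same
property acting trivially on the factors of `[A,s] ≤ C_A(s) ≤ A` form, modulo `C`, a 2-group
containing a four-group `⟨s, t⟩`; so `k` centralises `t` modulo `C` as well, and an element of odd
order centralising a four-group modulo `C` centralises `A`.
-/

set_option autoImplicit false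
set_option linter.unusedSectionVars false

open Subgroup

universe u

namespace Cfsg.Agent.M24Type

/-- The involutions of a group of order eight with a central involution `s`. -/
theorem eight_cases {Q : Type*} [Group Q] [Finite Q] (hcard : Nat.card Q = 8)
    (hexp : ∃ x : Q, x * x ≠ 1) {s t p q : Q} (hs : s * s = 1) (ht : t * t = 1) (hp : p * p = 1)
    (hq : q * q = 1) (hst : s * t = t * s) (hsp : s * p = p * s) (hs1 : s ≠ 1) (ht1 : t ≠ 1) (hts : t ≠ s)
    (hp1 : p ≠ 1) (hps : p ≠ s) (hpt : p ≠ t) (hpts : p ≠ s * t) :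
    q = 1 ∨ q = s ∨ q = t ∨ q = s * t ∨ q = p ∨ q = s * p := by
  have hst2 : ∀ x : Q, x * x = 1 → s * x = x * s → s * x * (s * x) = 1 := fun x hx hc => by
    rw [mul_assoc, ← mul_assoc x, ← hc, mul_assoc s x, hx, mul_one, hs]
  have hti : t⁻¹ = t := inv_eq_of_mul_eq_one_right ht
  have hsi : s⁻¹ = s := inv_eq_of_mul_eq_one_right hs
  have hpi : p⁻¹ = p := inv_eq_of_mul_eq_one_right hp
  let V : Subgroup Q :=
    { carrier := {x | x = 1 ∨ x = s ∨ x = t ∨ x = s * t}
      one_mem' := Or.inl rfl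
      mul_mem' := by
        intro a b ha hb
        simp only [Set.mem_setOf_eq] at ha hb ⊢
        have e1 : t * s = s * t := hst.symm
        have f1 : ∀ x : Q, s * (s * x) = x := fun x => by rw [← mul_assoc, hs, one_mul]
        have f2 : ∀ x : Q, t * (t * x) = x := fun x => by rw [← mul_assoc, ht, one_mul]
        have f3 : t * (s * t) = s := by rw [← mul_assoc, e1, mul_assoc, ht, mul_one]
        rcases ha with ha | ha | ha | ha <;> rcases hb with hb | hb | hb | hb <;> rw [ha, hb]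
        · simp
        · simp
        · simp
        · simp
        · simp
        · simp [hs]
        · simp
        · simp [f1]
        · simp
        · simp [e1]
        · simp [ht]
        · simp [f3]
        · simp
        · rw [mul_assoc, e1, f1]; simp
        · rw [mul_assoc, ht, mul_one]; simp
        · rw [mul_assoc, f3, hs]; simp
      inv_mem' := by
        intro a ha
        simp only [Set.mem_setOf_eq] at ha ⊢
        rcases ha with ha | ha | ha | ha <;> rw [ha]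
        · simp
        · simp [hsi]
        · simp [hti]
        · rw [mul_inv_rev, hti, hsi, ← hst]; simp }
  have hV4 : Nat.card V = 4 := by
    have hset : (V : Set Q) = {1, s, t, s * t} := by
      ext x; simp [V]
    rw [← SetLike.coe_sort_coe, hset, Nat.card_coe_set_eq]
    have h1 : (1 : Q) ∉ ({s, t, s * t} : Set Q) := by
      simp only [Set.mem_insert_iff, Set.mem_singleton_iff, not_or]
      exact ⟨hs1.symm, ht1.symm, fun e => hts (by rw [← hsi]; exact (inv_eq_of_mul_eq_one_right e.symm).symm)⟩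
    have h2 : s ∉ ({t, s * t} : Set Q) := by
      simp only [Set.mem_insert_iff, Set.mem_singleton_iff, not_or]
      exact ⟨hts.symm, fun e => ht1 (left_eq_mul.1 e)⟩
    have h3 : t ∉ ({s * t} : Set Q) := by
      simp only [Set.mem_singleton_iff]
      exact fun e => hs1 (right_eq_mul.1 e)
    rw [Set.ncard_insert_of_notMem h1, Set.ncard_insert_of_notMem h2, Set.ncard_insert_of_notMem h3,
      Set.ncard_singleton]
  have hV2 : V.index = 2 := by
    have h := V.card_mul_index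
    rw [hV4, hcard] at h
    omega
  have hpV : p ∉ V := fun h => by
    rcases h with h | h | h | h
    exacts [hp1 h, hps h, hpt h, hpts h]
  have hnc : t * p * (t * p) ≠ 1 := by
    intro h
    obtain ⟨x, hx⟩ := hexp
    apply hx
    have hV : ∀ v ∈ V, v * v = 1 ∧ p * v = v * p := by
      have hcom : p * t = t * p := by
        calc p * t = p⁻¹ * t⁻¹ := by rw [hpi, hti]
          _ = p⁻¹ * t⁻¹ * (t * p * (t * p)) := by rw [h, mul_one]
          _ = t * p := by group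
      intro v hv
      rcases hv with hv | hv | hv | hv <;> rw [hv]
      · exact ⟨one_mul 1, by simp⟩
      · exact ⟨hs, hsp.symm⟩
      · exact ⟨ht, hcom⟩
      · exact ⟨hst2 t ht hst, by rw [← mul_assoc, ← hsp, mul_assoc, hcom, ← mul_assoc]⟩
    by_cases hxV : x ∈ V
    · exact (hV x hxV).1
    · have hxp : x * p ∈ V := (Subgroup.mul_mem_iff_of_index_two hV2).2 (iff_of_false hxV hpV)
      obtain ⟨hv, hvp⟩ := hV _ hxp
      have hxe : x = x * p * p := by rw [mul_assoc, hp, mul_one]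
      rw [hxe, mul_assoc (x * p) p, ← mul_assoc p, hvp, mul_assoc (x * p) p p, hp, mul_one, hv]
  by_cases hqV : q ∈ V
  · rcases hqV with h | h | h | h <;> simp [h]
  · have hqp : q * p ∈ V := (Subgroup.mul_mem_iff_of_index_two hV2).2 (iff_of_false hqV hpV)
    have hq' : q = q * p * p := by rw [mul_assoc, hp, mul_one]
    rcases hqp with h | h | h | h
    · exact Or.inr (Or.inr (Or.inr (Or.inr (Or.inl (by rw [hq', h, one_mul])))))
    · exact Or.inr (Or.inr (Or.inr (Or.inr (Or.inr (by rw [hq', h])))))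
    · exact absurd hq (by rw [hq', h]; exact hnc)
    · exfalso
      rw [hq', h, mul_assoc s t p] at hq
      refine hnc ?_
      calc t * p * (t * p) = s * s * (t * p * (t * p)) := by rw [hs, one_mul]
        _ = s * (s * (t * p) * (t * p)) := by group
        _ = s * ((t * p) * s * (t * p)) := by rw [show s * (t * p) = t * p * s by rw [← mul_assoc, hst, mul_assoc, hsp, mul_assoc]]
        _ = s * (t * p) * (s * (t * p)) := by group
        _ = 1 := hq

/-- An element of odd order fixing `x` with its square fixes `x`. -/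
theorem fix_of_sq {G : Type*} [Group G] {n x : G} (hodd : Odd (orderOf n))
    (h : n * (n * x * n⁻¹) * n⁻¹ = x) : n * x * n⁻¹ = x := by
  obtain ⟨m, hm⟩ := hodd
  have h2 : Commute (n ^ 2) x := by
    rw [pow_two, Commute, SemiconjBy]
    conv_rhs => rw [← h]
    group
  have hn : n = (n ^ 2) ^ (m + 1) := by
    rw [← pow_mul, show 2 * (m + 1) = orderOf n + 1 by omega, pow_succ, pow_orderOf_eq_one, one_mul]
  have h3 : Commute n x := by rw [hn]; exact h2.pow_left (m + 1)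
  rw [mul_inv_eq_iff_eq_mul]
  exact h3.eq

variable {G : Type u} [Group G] [Finite G]

/-- An odd element fixing a subgroup of index two pointwise fixes the subgroup pointwise. -/
theorem fix_step {U V : Subgroup G} (hUV : U ≤ V) (h2 : Nat.card ↥V = 2 * Nat.card ↥U) {n : G}
    (hodd : Odd (orderOf n)) (hV : ∀ v ∈ V, n * v * n⁻¹ ∈ V) (hU2 : ∀ u ∈ U, u * u = 1)
    (hU : ∀ u ∈ U, n * u * n⁻¹ = u) :
    ∀ v ∈ V, n * v * n⁻¹ = v := by
  intro v hv
  by_cases hvU : v ∈ U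
  · exact hU v hvU
  · have hnv : n * v * n⁻¹ ∉ U := fun h => hvU (by
      have h1 := hU _ h
      have h2 : n * v * n⁻¹ = v := by
        calc n * v * n⁻¹ = n⁻¹ * (n * (n * v * n⁻¹) * n⁻¹) * n := by group
          _ = n⁻¹ * (n * v * n⁻¹) * n := by rw [h1]
          _ = v := by group
      rwa [h2] at h)
    have hr : (U.subgroupOf V).index = 2 := by
      have h1 := card_mul_index (U.subgroupOf V)
      rw [Nat.card_congr (subgroupOfEquivOfLe hUV).toEquiv, h2, mul_comm 2] at h1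
      exact Nat.eq_of_mul_eq_mul_left Nat.card_pos h1
    have hw : n * v * n⁻¹ * v⁻¹ ∈ U :=
      (Subgroup.mul_mem_iff_of_index_two hr (a := ⟨_, hV v hv⟩) (b := ⟨_, inv_mem hv⟩)).2
        (iff_of_false hnv fun h => hvU (inv_mem_iff.1 h))
    set w := n * v * n⁻¹ * v⁻¹ with hwdef
    have e1 : n * v * n⁻¹ = w * v := by rw [hwdef]; group
    refine fix_of_sq hodd ?_
    calc n * (n * v * n⁻¹) * n⁻¹ = n * (w * v) * n⁻¹ := by rw [e1]
      _ = n * w * n⁻¹ * (n * v * n⁻¹) := by group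
      _ = w * (w * v) := by rw [hU w hw, e1]
      _ = v := by rw [← mul_assoc, hU2 w hw, one_mul]

namespace Data

variable {S A : Subgroup G} (d : Data S A)

include d

/-- `[A, s]` is a subgroup. -/
def csetSub {s : G} (hs : s ∈ S) : Subgroup G := (d.comHom hs).range.map A.subtype

theorem mem_csetSub {s : G} (hs : s ∈ S) {c : G} : c ∈ d.csetSub hs ↔ c ∈ cset A s := by
  constructor
  · rintro ⟨_, ⟨a, rfl⟩, rfl⟩; exact ⟨a, a.2, rfl⟩
  · rintro ⟨a, ha, rfl⟩; exact ⟨_, ⟨⟨a, ha⟩, rfl⟩, rfl⟩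

theorem card_csetSub {s : G} (hs : s ∈ S) (hsA : s ∉ A) (hss : s * s ∈ A) :
    Nat.card ↥(d.csetSub hs) = 4 :=
  (Nat.card_congr (Equiv.subtypeEquivRight fun _ => d.mem_csetSub hs)).trans (d.card_cset hs hsA hss)

/-- Conjugation by an element centralising `s` modulo `C(A)` preserves `[a, s]`. -/
theorem conj_comm_eq {s n : G} (hs : s ∈ S) (hn : n ∈ normalizer (A : Set G))
    (hns : n * s * n⁻¹ * s⁻¹ ∈ centralizer (A : Set G)) {a : G} (ha : a ∈ A) :
    n * (a * s * a⁻¹ * s⁻¹) * n⁻¹ = n * a * n⁻¹ * s * (n * a * n⁻¹)⁻¹ * s⁻¹ := by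
  set z := n * s * n⁻¹ * s⁻¹ with hz
  set a' := n * a * n⁻¹ with ha'
  have ha'A : a' ∈ A := conj_mem hn ha
  have h1 : a' * z = z * a' := mem_centralizer_iff.1 hns a' ha'A
  have hcA : a' * s * a'⁻¹ * s⁻¹ ∈ A := d.cset_le hs ⟨a', ha'A, rfl⟩
  have h2 : (a' * s * a'⁻¹ * s⁻¹) * z = z * (a' * s * a'⁻¹ * s⁻¹) := mem_centralizer_iff.1 hns _ hcA
  calc n * (a * s * a⁻¹ * s⁻¹) * n⁻¹ = a' * (z * s) * a'⁻¹ * (z * s)⁻¹ := by rw [hz, ha']; group
    _ = a' * z * (s * a'⁻¹ * s⁻¹) * z⁻¹ := by group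
    _ = z * (a' * s * a'⁻¹ * s⁻¹) * z⁻¹ := by rw [h1]; group
    _ = a' * s * a'⁻¹ * s⁻¹ := by rw [← h2, mul_inv_cancel_right]

theorem conj_cset {s n : G} (hs : s ∈ S) (hn : n ∈ normalizer (A : Set G))
    (hns : n * s * n⁻¹ * s⁻¹ ∈ centralizer (A : Set G)) {c : G} (hc : c ∈ cset A s) :
    n * c * n⁻¹ ∈ cset A s := by
  obtain ⟨a, ha, rfl⟩ := hc
  exact ⟨_, conj_mem hn ha, (d.conj_comm_eq hs hn hns ha).symm⟩

theorem commutator_eq_one_iff {s a : G} : a * s * a⁻¹ * s⁻¹ = 1 ↔ s * a = a * s := by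
  rw [mul_inv_eq_one, conj_eq_iff, eq_comm]

theorem conj_cent {s n : G} (hs : s ∈ S) (hn : n ∈ normalizer (A : Set G))
    (hns : n * s * n⁻¹ * s⁻¹ ∈ centralizer (A : Set G)) {a : G}
    (ha : a ∈ A ⊓ centralizer ({s} : Set G)) : n * a * n⁻¹ ∈ A ⊓ centralizer ({s} : Set G) := by
  obtain ⟨haA, hsa⟩ := mem_cent.1 ha
  refine mem_cent.2 ⟨conj_mem hn haA, d.commutator_eq_one_iff.1 ?_⟩
  rw [← d.conj_comm_eq hs hn hns haA, d.commutator_eq_one_iff.2 hsa]
  group

/-- An element of odd order centralising a four-group modulo `C(A)` centralises `A`. -/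
theorem four_fix {s t : G} (h : FourPair S A s t) {n : G} (hn : n ∈ normalizer (A : Set G))
    (hodd : Odd (orderOf n)) (hns : n * s * n⁻¹ * s⁻¹ ∈ centralizer (A : Set G))
    (hnt : n * t * n⁻¹ * t⁻¹ ∈ centralizer (A : Set G)) : n ∈ centralizer (A : Set G) := by
  obtain ⟨e, he, hline⟩ := d.fourLine s t h
  obtain ⟨hes, het⟩ := (hline e).2 (Or.inr rfl)
  have heA := d.cset_le h.sS hes
  have hfix : n * e * n⁻¹ = e := by
    rcases (hline _).1 ⟨d.conj_cset h.sS hn hns hes, d.conj_cset h.tS hn hnt het⟩ with h1 | h1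
    · exact absurd (conj_eq_one_iff.1 h1) he
    · exact h1
  have hP : ∀ c ∈ d.csetSub h.sS, n * c * n⁻¹ = c := by
    refine fix_step (U := zpowers e) (zpowers_le.2 ((d.mem_csetSub h.sS).2 hes)) ?_ hodd
      (fun c hc => (d.mem_csetSub h.sS).2 (d.conj_cset h.sS hn hns ((d.mem_csetSub h.sS).1 hc)))
      (fun u hu => d.sqA u ((zpowers_le.2 heA) hu)) fun u hu => ?_
    · rw [d.card_csetSub h.sS h.sA h.ssA, Nat.card_zpowers,
        orderOf_eq_prime (p := 2) (by rw [pow_two]; exact d.sqA e heA) he]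
    · obtain ⟨i, rfl⟩ := mem_zpowers_iff.1 hu
      rw [← conj_zpow, hfix]
  have hPW : d.csetSub h.sS ≤ A ⊓ centralizer ({s} : Set G) ⊓ centralizer ({t} : Set G) := fun c hc => by
    have hc' := (d.mem_csetSub h.sS).1 hc
    exact ⟨mem_cent.2 ⟨d.cset_le h.sS hc', d.cset_comm h.sS h.ssA hc'⟩,
      mem_centralizer_one.2 (d.fourComm s t h c hc').eq.symm⟩
  have hW := fix_step hPW (by rw [d.fourCent s t h, d.card_csetSub h.sS h.sA h.ssA]) hodd
    (fun v hv => ⟨d.conj_cent h.sS hn hns hv.1,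
      (d.conj_cent h.tS hn hnt ⟨hv.1.1, hv.2⟩).2⟩)
    (fun u hu => d.sqA u (d.cset_le h.sS ((d.mem_csetSub h.sS).1 hu))) hP
  have hCs := fix_step (U := A ⊓ centralizer ({s} : Set G) ⊓ centralizer ({t} : Set G)) inf_le_left
    (by rw [d.cent16 s h.sS h.sA h.ssA, d.fourCent s t h]) hodd
    (fun v hv => d.conj_cent h.sS hn hns hv) (fun u hu => d.sqA u hu.1.1) hW
  refine mem_centralizer_iff.2 fun a ha => ?_
  have ha' := conj_mem hn ha
  set w := n * a * n⁻¹ * a⁻¹ with hw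
  have hwA : w ∈ A := mul_mem ha' (inv_mem ha)
  have hwC : w ∈ A ⊓ centralizer ({s} : Set G) := by
    refine mem_cent.2 ⟨hwA, d.commutator_eq_one_iff.1 ?_⟩
    have h1 := hP _ ((d.mem_csetSub h.sS).2 ⟨a, ha, rfl⟩)
    rw [d.conj_comm_eq h.sS hn hns ha] at h1
    have h2 := congrArg Subtype.val ((d.comHom h.sS).map_mul ⟨_, ha'⟩ ⟨a⁻¹, inv_mem ha⟩)
    have h3 := congrArg Subtype.val ((d.comHom h.sS).map_inv ⟨a, ha⟩)
    calc w * s * w⁻¹ * s⁻¹ = (((d.comHom h.sS) ⟨_, ha'⟩ : A) : G) *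
          (((d.comHom h.sS) ⟨a⁻¹, inv_mem ha⟩ : A) : G) := h2
      _ = (((d.comHom h.sS) ⟨a, ha⟩ : A) : G) * (((d.comHom h.sS) ⟨a, ha⟩ : A) : G)⁻¹ := by
        congr 1
      _ = 1 := mul_inv_cancel _
  have e1 : n * a * n⁻¹ = w * a := by rw [hw]; group
  have key : n * a * n⁻¹ = a := fix_of_sq hodd <| by
    calc n * (n * a * n⁻¹) * n⁻¹ = n * (w * a) * n⁻¹ := by rw [e1]
      _ = n * w * n⁻¹ * (n * a * n⁻¹) := by group
      _ = w * (w * a) := by rw [hCs w hwC, e1]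
      _ = a := by rw [← mul_assoc, d.sqA w hwA, one_mul]
  exact (conj_eq_iff.1 key).symm

end Data

/-- Membership in the stabiliser of the series `[A,s] ≤ C_A(s) ≤ A` in `C_{N(A)}(s mod C(A))`. -/
def InStab (A : Subgroup G) (s n : G) : Prop :=
  n ∈ normalizer (A : Set G) ∧ n * s * n⁻¹ * s⁻¹ ∈ centralizer (A : Set G) ∧
    (∀ c ∈ cset A s, n * c * n⁻¹ = c) ∧
    ∀ c ∈ A ⊓ centralizer ({s} : Set G), n * c * n⁻¹ * c⁻¹ ∈ cset A s



/-- The normaliser of `A` normalises `C(A)`. -/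
theorem conj_mem_centralizer {A : Subgroup G} {n z : G} (hn : n ∈ normalizer (A : Set G))
    (hz : z ∈ centralizer (A : Set G)) : n * z * n⁻¹ ∈ centralizer (A : Set G) := by
  refine mem_centralizer_iff.2 fun a ha => ?_
  have h := mem_centralizer_iff.1 hz _ (conj_mem (inv_mem hn) ha)
  calc a * (n * z * n⁻¹) = n * (n⁻¹ * a * n⁻¹⁻¹ * z) * n⁻¹ := by group
    _ = n * (z * (n⁻¹ * a * n⁻¹⁻¹)) * n⁻¹ := by rw [h]
    _ = n * z * n⁻¹ * a := by group

variable {S A : Subgroup G}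

/-- The stabiliser as a subgroup. -/
def stab (d : Data S A) {s : G} (hs : s ∈ S) : Subgroup G where
  carrier := {n | InStab A s n}
  one_mem' := ⟨one_mem _, by simpa using one_mem (centralizer (A : Set G)), fun c _ => by simp,
    fun c _ => by
      rw [show 1 * c * 1⁻¹ * c⁻¹ = 1 by group]
      exact ⟨1, one_mem A, by group⟩⟩
  mul_mem' := by
    rintro m n ⟨hm, hms, hmc, hmd⟩ ⟨hn, hns, hnc, hnd⟩
    refine ⟨mul_mem hm hn, ?_, fun c hc => ?_, fun c hc => ?_⟩
    · rw [show m * n * s * (m * n)⁻¹ * s⁻¹ = m * (n * s * n⁻¹ * s⁻¹) * m⁻¹ * (m * s * m⁻¹ * s⁻¹) by group]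
      exact mul_mem (conj_mem_centralizer hm hns) hms
    · rw [show m * n * c * (m * n)⁻¹ = m * (n * c * n⁻¹) * m⁻¹ by group, hnc c hc, hmc c hc]
    · rw [show m * n * c * (m * n)⁻¹ * c⁻¹ =
        m * (n * c * n⁻¹ * c⁻¹) * m⁻¹ * (m * c * m⁻¹ * c⁻¹) by group, hmc _ (hnd c hc)]
      exact d.cset_mul hs (hnd c hc) (hmd c hc)
  inv_mem' := by
    rintro n ⟨hn, hns, hnc, hnd⟩
    have hfix : ∀ c ∈ cset A s, n⁻¹ * c * n = c := fun c hc => by
      conv_lhs => rw [← hnc c hc]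
      group
    refine ⟨inv_mem hn, ?_, fun c hc => by rw [inv_inv]; exact hfix c hc, fun c hc => ?_⟩
    · rw [show n⁻¹ * s * n⁻¹⁻¹ * s⁻¹ = n⁻¹ * (n * s * n⁻¹ * s⁻¹)⁻¹ * n⁻¹⁻¹ by group]
      exact conj_mem_centralizer (inv_mem hn) (inv_mem hns)
    · rw [show n⁻¹ * c * n⁻¹⁻¹ * c⁻¹ = n⁻¹ * (n * c * n⁻¹ * c⁻¹)⁻¹ * n by group]
      have h1 : (n * c * n⁻¹ * c⁻¹)⁻¹ ∈ cset A s := by
        rw [d.inv_eq (d.cset_le hs (hnd c hc))]; exact hnd c hc
      rw [hfix _ h1]
      exact h1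

theorem mem_stab (d : Data S A) {s : G} (hs : s ∈ S) {n : G} :
    n ∈ stab d hs ↔ InStab A s n := Iff.rfl

/-- Fourth powers of the stabiliser centralise `A`. -/
theorem stab_pow (d : Data S A) {s : G} (hs : s ∈ S) (hss : s * s ∈ A) {n : G} (h : n ∈ stab d hs) :
    n ^ 4 ∈ centralizer (A : Set G) := by
  obtain ⟨hn, hns, hnc, hnd⟩ := h
  refine mem_centralizer_iff.2 fun a ha => ?_
  set a' := n * a * n⁻¹ with ha'def
  have ha' : a' ∈ A := conj_mem hn ha
  set w := a' * a⁻¹ with hw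
  have hwA : w ∈ A := mul_mem ha' (inv_mem ha)
  have hwC : w ∈ A ⊓ centralizer ({s} : Set G) := by
    refine mem_cent.2 ⟨hwA, d.commutator_eq_one_iff.1 ?_⟩
    have h1 := hnc _ ⟨a, ha, rfl⟩
    rw [d.conj_comm_eq hs hn hns ha] at h1
    have h2 := congrArg Subtype.val ((d.comHom hs).map_mul ⟨_, ha'⟩ ⟨a⁻¹, inv_mem ha⟩)
    calc w * s * w⁻¹ * s⁻¹ = (((d.comHom hs) ⟨_, ha'⟩ : A) : G) *
          (((d.comHom hs) ⟨a⁻¹, inv_mem ha⟩ : A) : G) := h2
      _ = (((d.comHom hs) ⟨a, ha⟩ : A) : G) * (((d.comHom hs) ⟨a, ha⟩ : A) : G)⁻¹ := by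
        congr 1
        exact congrArg Subtype.val ((d.comHom hs).map_inv ⟨a, ha⟩)
      _ = 1 := mul_inv_cancel _
  set v := n * w * n⁻¹ * w⁻¹ with hv
  have hvP : v ∈ cset A s := hnd w hwC
  have hvA := d.cset_le hs hvP
  have e1 : n * a * n⁻¹ = w * a := by rw [hw, ← ha'def]; group
  have e2 : n * w * n⁻¹ = v * w := by rw [hv]; group
  have e3 : n * (n * a * n⁻¹) * n⁻¹ = v * a := by
    calc n * (n * a * n⁻¹) * n⁻¹ = n * (w * a) * n⁻¹ := by rw [e1]
      _ = n * w * n⁻¹ * (n * a * n⁻¹) := by group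
      _ = v * (w * w) * a := by rw [e2, e1]; group
      _ = v * a := by rw [d.sqA w hwA, mul_one]
  have e4 : n ^ 4 * a * (n ^ 4)⁻¹ = a := by
    calc n ^ 4 * a * (n ^ 4)⁻¹ = n * (n * (n * (n * a * n⁻¹) * n⁻¹) * n⁻¹) * n⁻¹ := by
          rw [show n ^ 4 = n * n * n * n by simp only [pow_succ, pow_zero, one_mul]]; group
      _ = n * (n * (v * a) * n⁻¹) * n⁻¹ := by rw [e3]
      _ = n * (n * v * n⁻¹) * n⁻¹ * (n * (n * a * n⁻¹) * n⁻¹) := by group
      _ = v * (v * a) := by rw [hnc v hvP, hnc v hvP, e3]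
      _ = a := by rw [← mul_assoc, d.sqA v hvA, one_mul]
  exact (conj_eq_iff.1 e4).symm

/-- Congruence modulo `C(A)`. -/
def Cong (A : Subgroup G) (x y : G) : Prop := x * y⁻¹ ∈ centralizer (A : Set G)

theorem Cong.symm {A : Subgroup G} {x y : G} (h : Cong A x y) : Cong A y x := by
  have := inv_mem h
  simpa [Cong] using this

theorem Cong.trans {A : Subgroup G} {x y z : G} (h : Cong A x y) (h' : Cong A y z) : Cong A x z := by
  have := mul_mem h h'
  simpa [Cong, mul_assoc] using this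

theorem Cong.conj {A : Subgroup G} {g x y : G} (hg : g ∈ normalizer (A : Set G)) (h : Cong A x y) :
    Cong A (g * x * g⁻¹) (g * y * g⁻¹) := by
  rw [Cong, show g * x * g⁻¹ * (g * y * g⁻¹)⁻¹ = g * (x * y⁻¹) * g⁻¹ by group]
  exact conj_mem_centralizer hg h

/-- An element of odd order fixing `s` and permuting `{t, s * t}` modulo `C(A)` centralises `A`. -/
theorem pair_fix (d : Data S A) {s t : G} (h : FourPair S A s t) {k : G}
    (hk : k ∈ normalizer (A : Set G)) (hodd : Odd (orderOf k)) (hks : Cong A (k * s * k⁻¹) s)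
    (ht : Cong A (k * t * k⁻¹) t ∨ Cong A (k * t * k⁻¹) (s * t)) : k ∈ centralizer (A : Set G) := by
  rcases ht with ht | ht
  · exact d.four_fix h hk hodd hks ht
  · have hAC : A ≤ centralizer (A : Set G) :=
      fun a ha => mem_centralizer_iff.2 fun b hb => d.comm hb ha
    have hk2 : k * k ∈ normalizer (A : Set G) := mul_mem hk hk
    have e2 : ∀ x, k * k * x * (k * k)⁻¹ = k * (k * x * k⁻¹) * k⁻¹ := fun x => by group
    have hs2 : Cong A (k * k * s * (k * k)⁻¹) s := by rw [e2]; exact (hks.conj hk).trans hks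
    have h1 : Cong A (k * (s * t) * k⁻¹) (s * (s * t)) := by
      rw [Cong, show k * (s * t) * k⁻¹ * (s * (s * t))⁻¹ =
        (k * s * k⁻¹ * s⁻¹) * (s * (k * t * k⁻¹ * (s * t)⁻¹) * s⁻¹) by group]
      exact mul_mem hks (conj_mem_centralizer (d.normal h.sS) ht)
    have h2 : Cong A (s * (s * t)) t := by
      rw [Cong, show s * (s * t) * t⁻¹ = s * s by group]
      exact hAC h.ssA
    have ht2 : Cong A (k * k * t * (k * k)⁻¹) t := by
      rw [e2]; exact (ht.conj hk).trans (h1.trans h2)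
    have hodd2 : Odd (orderOf (k * k)) :=
      hodd.of_dvd_nat (by rw [← pow_two]; exact orderOf_pow_dvd 2)
    have hc := d.four_fix h hk2 hodd2 hs2 ht2
    obtain ⟨m, hm⟩ := hodd
    have hkk : k = (k * k) ^ (m + 1) := by
      rw [← pow_two, ← pow_mul, show 2 * (m + 1) = orderOf k + 1 by omega, pow_succ,
        pow_orderOf_eq_one, one_mul]
    rw [hkk]
    exact pow_mem hc _

/-- **The centraliser part of the automiser fact.** -/
theorem cent_fact (S : Sylow 2 G) (A : Subgroup G) (d : Data (S : Subgroup G) A) {s : G}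
    (hs : s ∈ (S : Subgroup G)) (hsA : s ∉ A) (hss : s * s ∈ A) {k : G}
    (hk : k ∈ normalizer (A : Set G)) (hodd : Odd (orderOf k))
    (hks : k * s * k⁻¹ * s⁻¹ ∈ centralizer (A : Set G)) : k ∈ centralizer (A : Set G) := by
  have : Fact (Nat.Prime 2) := ⟨Nat.prime_two⟩
  obtain ⟨t, h⟩ := d.covered s hs hsA hss
  set M := stab d hs with hM
  set C := centralizer (A : Set G) with hC
  have hAC : A ≤ C := fun a ha => mem_centralizer_iff.2 fun b hb => d.comm hb ha
  -- `A`, `s`, `t` lie in the stabiliser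
  have hCM : C ⊓ normalizer (A : Set G) ≤ M := by
    rintro z ⟨hz, hzN⟩
    refine ⟨hzN, ?_, fun c hc => ?_, fun c hc => ?_⟩
    · rw [show z * s * z⁻¹ * s⁻¹ = z * (s * z⁻¹ * s⁻¹) by group]
      exact mul_mem hz (conj_mem_centralizer (d.normal hs) (inv_mem hz))
    · rw [conj_eq_iff]
      exact (mem_centralizer_iff.1 hz c (d.cset_le hs hc)).symm
    · rw [show z * c * z⁻¹ * c⁻¹ = 1 by
        rw [conj_eq_iff.2 (mem_centralizer_iff.1 hz c hc.1).symm, mul_inv_cancel]]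
      exact ⟨1, one_mem A, by group⟩
  have hAM : A ≤ M := fun a ha => hCM ⟨hAC ha, le_normalizer ha⟩
  have hsM : s ∈ M := by
    refine ⟨d.normal hs, by simpa using one_mem C, fun c hc => conj_eq_iff.2 (d.cset_comm hs hss hc),
      fun c hc => ?_⟩
    rw [conj_eq_iff.2 (mem_cent.1 hc).2, mul_inv_cancel]
    exact ⟨1, one_mem A, by group⟩
  have htM : t ∈ M := by
    refine ⟨d.normal h.tS, ?_, fun c hc => conj_eq_iff.2 (d.fourComm s t h c hc).eq.symm,
      fun c hc => ?_⟩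
    · have := h.commA
      rw [show t * s * t⁻¹ * s⁻¹ = (s * t * s⁻¹ * t⁻¹)⁻¹ by group]
      exact hAC (inv_mem this)
    · obtain ⟨hcA, hcs⟩ := mem_cent.1 hc
      have h1 := d.fourMid s t h c hcA hcs.symm
      have h2 : t * c * t⁻¹ * c⁻¹ = (c * t * c⁻¹ * t⁻¹)⁻¹ := by group
      rw [h2, d.inv_eq (d.cset_le hs h1)]
      exact h1
  -- a Sylow subgroup of the stabiliser through `A`, `s`, `t`
  set R0 := A ⊔ closure ({s, t} : Set G)
  have hR0S : R0 ≤ (S : Subgroup G) := sup_le d.le ((closure_le _).2 (by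
    rintro x (rfl | rfl); exacts [hs, h.tS]))
  have hR0M : R0 ≤ M := sup_le hAM ((closure_le _).2 (by
    rintro x (rfl | rfl); exacts [hsM, htM]))
  obtain ⟨R, hR0R, hR⟩ := exists_isSylIn hR0M (S.2.to_le hR0S)
  obtain ⟨S', hRS, d'⟩ := d.exists_data_self hR.isP (le_sup_left.trans hR0R)
  have hsR : s ∈ R := hR0R (mem_sup_right (subset_closure (by simp)))
  have htR : t ∈ R := hR0R (mem_sup_right (subset_closure (by simp)))
  have hcover : ∀ x ∈ M, ∃ p ∈ R, x * p⁻¹ ∈ C ⊓ normalizer (A : Set G) := by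
    intro x hx
    obtain ⟨p, hp, c, hc, e⟩ := exists_mul_of_pow hCM (fun y hy => mem_normalizer_of_conj fun z hz =>
        ⟨conj_mem_centralizer hy.1 hz.1, (normalizer (A : Set G)).mul_mem ((normalizer (A : Set G)).mul_mem hy.1 hz.2)
          ((normalizer (A : Set G)).inv_mem hy.1)⟩)
      (fun y hy => ⟨2, ⟨stab_pow d hs hss hy, pow_mem hy.1 _⟩⟩) hR x hx
    exact ⟨p, hp, by rw [e, mul_inv_cancel_right]; exact hc⟩
  -- `k` normalises the stabiliser
  have hkM : ∀ x ∈ M, k * x * k⁻¹ ∈ M := by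
    rintro x ⟨hx, hxs, hxc, hxd⟩
    have hki := inv_mem hk
    have hkis : k⁻¹ * s * k⁻¹⁻¹ * s⁻¹ ∈ C := by
      rw [show k⁻¹ * s * k⁻¹⁻¹ * s⁻¹ = k⁻¹ * (k * s * k⁻¹ * s⁻¹)⁻¹ * k⁻¹⁻¹ by group]
      exact conj_mem_centralizer hki (inv_mem hks)
    refine ⟨mul_mem (mul_mem hk hx) hki, ?_, fun c hc => ?_, fun c hc => ?_⟩
    · have e : k * x * k⁻¹ * s * (k * x * k⁻¹)⁻¹ * s⁻¹ = k * (x * (k⁻¹ * s * k⁻¹⁻¹ * s⁻¹) * x⁻¹ *
          (x * s * x⁻¹ * s⁻¹)) * k⁻¹ * (k * s * k⁻¹ * s⁻¹) := by group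
      rw [e]
      exact mul_mem (conj_mem_centralizer hk (mul_mem (conj_mem_centralizer hx hkis) hxs)) hks
    · have h1 := hxc _ (d.conj_cset hs hki hkis hc)
      calc k * x * k⁻¹ * c * (k * x * k⁻¹)⁻¹ = k * (x * (k⁻¹ * c * k⁻¹⁻¹) * x⁻¹) * k⁻¹ := by group
        _ = c := by rw [h1]; group
    · have h1 := d.conj_cset hs hk hks (hxd _ (d.conj_cent hs hki hkis hc))
      convert h1 using 1
      group
  -- the quotient of `S'` by `A`
  have hSA : (S' : Subgroup G) ≤ normalizer (A : Set G) := d'.normal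
  have : (A.subgroupOf (S' : Subgroup G)).Normal := normal_subgroupOf_of_le_normalizer hSA
  let π := QuotientGroup.mk' (A.subgroupOf (S' : Subgroup G))
  have hπ : ∀ x y : ↥(S' : Subgroup G), π x = π y ↔ (x : G) * (y : G)⁻¹ ∈ A := by
    intro x y
    rw [← mul_inv_eq_one, ← map_inv, ← map_mul]
    exact (QuotientGroup.eq_one_iff _).trans Iff.rfl
  have hπ1 : ∀ x : ↥(S' : Subgroup G), π x = 1 ↔ (x : G) ∈ A := fun x => by
    rw [← map_one π, hπ]; simp
  have hcardQ : Nat.card (↥(S' : Subgroup G) ⧸ A.subgroupOf (S' : Subgroup G)) = 8 := by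
    have h1 := card_eq_card_quotient_mul_card_subgroup (A.subgroupOf (S' : Subgroup G))
    rw [Nat.card_congr (subgroupOfEquivOfLe d'.le).toEquiv, d'.cardA, d'.cardS] at h1
    omega
  have hexp : ∃ x : ↥(S' : Subgroup G) ⧸ A.subgroupOf (S' : Subgroup G), x * x ≠ 1 := by
    obtain ⟨u, hu, hu2⟩ := d'.square
    exact ⟨π ⟨u, hu⟩, fun e => hu2 ((hπ1 (⟨u, hu⟩ * ⟨u, hu⟩)).1 (by rw [map_mul]; exact e))⟩
  have hCS : ∀ x ∈ C, x ∈ (S' : Subgroup G) → x ∈ A := fun x hx hxS =>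
    d'.mem_of_centralizes hxS fun a ha => (mem_centralizer_iff.1 hx a ha).symm
  -- congruences modulo `C`
  have lift : ∀ {x y : G} (hx : x ∈ (S' : Subgroup G)) (hy : y ∈ (S' : Subgroup G)),
      π ⟨x, hx⟩ = π ⟨y, hy⟩ → Cong A x y := fun {x y} hx hy e => hAC ((hπ _ _).1 e)
  have hone : ∀ {x : G} (hx : x ∈ (S' : Subgroup G)), x * x ∈ A → π ⟨x, hx⟩ * π ⟨x, hx⟩ = 1 :=
    fun {x} hx h1 => by rw [← map_mul]; exact (hπ1 _).2 h1
  have hcom : ∀ {x : G} (hx : x ∈ R), x * s * x⁻¹ * s⁻¹ ∈ C →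
      π ⟨s, hRS hsR⟩ * π ⟨x, hRS hx⟩ = π ⟨x, hRS hx⟩ * π ⟨s, hRS hsR⟩ := by
    intro x hx h1
    rw [← map_mul, ← map_mul, hπ]
    refine hCS _ ?_ (mul_mem (mul_mem (hRS hsR) (hRS hx)) (inv_mem (mul_mem (hRS hx) (hRS hsR))))
    show s * x * (x * s)⁻¹ ∈ C
    rw [show s * x * (x * s)⁻¹ = (x * s * x⁻¹ * s⁻¹)⁻¹ by group]
    exact inv_mem h1
  have hsq : ∀ x ∈ M, x * x ∈ C → ∀ p ∈ R, x * p⁻¹ ∈ C → p * p ∈ A := by
    intro x hx hxx p hp hxp
    refine hCS _ ?_ (hRS (mul_mem hp hp))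
    have h1 := conj_mem_centralizer (hSA (hRS hp)) hxp
    have e : p * p = (p * (x * p⁻¹) * p⁻¹)⁻¹ * (x * p⁻¹)⁻¹ * (x * x) := by simp [mul_assoc]
    rw [e]
    exact mul_mem (mul_mem (inv_mem h1) (inv_mem hxp)) hxx
  have hkNi := inv_mem hk
  set t1 := k * t * k⁻¹ with ht1
  set t2 := k * t1 * k⁻¹ with ht2
  have ht1M : t1 ∈ M := hkM t htM
  have ht2M : t2 ∈ M := hkM _ ht1M
  have ht1t : t1 * t1 ∈ C := by
    rw [show t1 * t1 = k * (t * t) * k⁻¹ by rw [ht1]; group]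
    exact conj_mem_centralizer hk (hAC h.ttA)
  have ht2t : t2 * t2 ∈ C := by
    rw [show t2 * t2 = k * (t1 * t1) * k⁻¹ by rw [ht2]; group]
    exact conj_mem_centralizer hk ht1t
  obtain ⟨p, hpR, hpx⟩ := hcover t1 ht1M
  obtain ⟨q, hqR, hqx⟩ := hcover t2 ht2M
  have hp1' : Cong A t1 p := hpx.1
  have hq1' : Cong A t2 q := hqx.1
  set sQ := π ⟨s, hRS hsR⟩ with hsQ
  set tQ := π ⟨t, hRS htR⟩ with htQ
  set pQ := π ⟨p, hRS hpR⟩ with hpQ
  set qQ := π ⟨q, hRS hqR⟩ with hqQ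
  have hstS : s * t ∈ (S' : Subgroup G) := mul_mem (hRS hsR) (hRS htR)
  -- congruences with `t` that cannot occur
  have hnt1 : ¬ Cong A t 1 := fun h1 => h.tA (hCS t (by simpa [Cong] using h1) (hRS htR))
  have hnts : ¬ Cong A t s := fun h1 => h.stA (by
    have h3 := hCS _ h1 (mul_mem (hRS htR) (inv_mem (hRS hsR)))
    rw [show s * t = s * (t * s⁻¹) * s⁻¹ * (s * s) by group]
    exact mul_mem (conj_mem (d.normal hs) h3) hss)
  have down : ∀ {x y : G}, Cong A (k * x * k⁻¹) (k * y * k⁻¹) → Cong A x y := fun {x y} h1 => by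
    have h2 := h1.conj hkNi
    rwa [show k⁻¹ * (k * x * k⁻¹) * k⁻¹⁻¹ = x by group,
      show k⁻¹ * (k * y * k⁻¹) * k⁻¹⁻¹ = y by group] at h2
  have down1 : ∀ {x : G}, Cong A (k * x * k⁻¹) 1 → Cong A x 1 := fun {x} h1 =>
    down (by rwa [mul_one, mul_inv_cancel])
  have downs : ∀ {x : G}, Cong A (k * x * k⁻¹) s → Cong A x s := fun {x} h1 =>
    down (h1.trans (show Cong A (k * s * k⁻¹) s from hks).symm)
  have hks2 : Cong A (k * k * s * (k * k)⁻¹) s := by
    rw [show k * k * s * (k * k)⁻¹ = k * (k * s * k⁻¹) * k⁻¹ by group]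
    exact ((show Cong A (k * s * k⁻¹) s from hks).conj hk).trans hks
  by_cases hpV : pQ = 1 ∨ pQ = sQ ∨ pQ = tQ ∨ pQ = sQ * tQ
  · rcases hpV with e | e | e | e
    · exact absurd (down1 (hp1'.trans (by simpa [Cong] using hAC ((hπ1 _).1 e)))) hnt1
    · exact absurd (downs (hp1'.trans (lift _ _ e))) hnts
    · exact pair_fix d h hk hodd hks (Or.inl (hp1'.trans (lift _ _ e)))
    · exact pair_fix d h hk hodd hks (Or.inr (hp1'.trans (lift _ hstS e)))
  · simp only [not_or] at hpV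
    obtain ⟨hp1, hps, hpt, hpst⟩ := hpV
    have hpM : p * s * p⁻¹ * s⁻¹ ∈ C := (hR.le hpR).2.1
    have hcase := eight_cases hcardQ hexp (hone (hRS hsR) hss) (hone (hRS htR) h.ttA)
      (hone (hRS hpR) (hsq t1 ht1M ht1t p hpR hpx.1)) (hone (hRS hqR) (hsq t2 ht2M ht2t q hqR hqx.1))
      (hcom htR htM.2.1) (hcom hpR hpM) (fun e => hsA ((hπ1 _).1 e)) (fun e => h.tA ((hπ1 _).1 e))
      (fun e => hnts (lift _ _ e)) hp1 hps hpt hpst
    rcases hcase with e | e | e | e | e | e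
    · exact absurd (down1 (down1 (hq1'.trans (by simpa [Cong] using hAC ((hπ1 _).1 e))))) hnt1
    · exact absurd (downs (downs (hq1'.trans (lift _ _ e)))) hnts
    · have hc := pair_fix d h (mul_mem hk hk)
        (hodd.of_dvd_nat (by rw [← pow_two]; exact orderOf_pow_dvd 2)) hks2
        (Or.inl (by
          rw [show k * k * t * (k * k)⁻¹ = t2 by rw [ht2, ht1]; group]
          exact hq1'.trans (lift _ _ e)))
      obtain ⟨m, hm⟩ := hodd
      rw [show k = (k * k) ^ (m + 1) by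
        rw [← pow_two, ← pow_mul, show 2 * (m + 1) = orderOf k + 1 by omega, pow_succ,
          pow_orderOf_eq_one, one_mul]]
      exact pow_mem hc _
    · have hc := pair_fix d h (mul_mem hk hk)
        (hodd.of_dvd_nat (by rw [← pow_two]; exact orderOf_pow_dvd 2)) hks2
        (Or.inr (by
          rw [show k * k * t * (k * k)⁻¹ = t2 by rw [ht2, ht1]; group]
          exact hq1'.trans (lift _ hstS e)))
      obtain ⟨m, hm⟩ := hodd
      rw [show k = (k * k) ^ (m + 1) by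
        rw [← pow_two, ← pow_mul, show 2 * (m + 1) = orderOf k + 1 by omega, pow_succ,
          pow_orderOf_eq_one, one_mul]]
      exact pow_mem hc _
    · refine pair_fix d h hk hodd hks (Or.inl (down ?_))
      exact hq1'.trans ((lift _ _ e).trans hp1'.symm)
    · refine pair_fix d h hk hodd hks (Or.inr (down ?_))
      refine hq1'.trans ((lift _ (mul_mem (hRS hsR) (hRS hpR)) e).trans ?_)
      show s * p * (k * (s * t) * k⁻¹)⁻¹ ∈ C
      rw [show s * p * (k * (s * t) * k⁻¹)⁻¹ =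
        s * (p * t1⁻¹) * s⁻¹ * (s * k * s⁻¹ * k⁻¹) by rw [ht1]; group]
      refine mul_mem (conj_mem_centralizer (d.normal hs) hp1'.symm) ?_
      rw [show s * k * s⁻¹ * k⁻¹ = (k * s * k⁻¹ * s⁻¹)⁻¹ by group]
      exact inv_mem hks

end Cfsg.Agent.M24Type
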