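import Cfsg.Agent.Lib.M24Type.AutTrans

/-!
# The automiser fact

The automiser `N(A)/C(A)` acts faithfully on `A`; the image of `S` is dihedral of order 8 and satisfies the
hypotheses of `AutTrans.Act`.
-/

set_option autoImplicit false
set_option linter.style.haveILetI false
set_option linter.unusedSectionVars false

open Subgroup

universe u

namespace Cfsg.Agent.M24Type

namespace AutTrans

variable {K : Type u} [Group K] [Finite K] {M : Type u} [Group M] [Finite M] {ρ : K →* MulAut M}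

/-- Two four-groups with different lines do not fit into an abelian group of order 8 and exponent four. -/
theorem Act.nc {T : Subgroup K} (X : Act T ρ) (hT : Nat.card ↥T = 8) {u : K} (hu : u ∈ T) (huu : u * u ≠ 1) :
    ∃ a ∈ T, ∃ b ∈ T, a * b ≠ b * a := by
  by_contra hcon
  push Not at hcon
  obtain ⟨p, q, p', q', e, e', hf, hf', hl, hl', hne⟩ := X.twoFours
  obtain ⟨V, hV4, hpV, hqV, hVm⟩ := exists_kl hf.p1 hf.q1 hf.ne hf.pp hf.qq hf.comm
  let V0 : Subgroup K :=
    { carrier := {x | x ∈ T ∧ x * x = 1}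
      one_mem' := ⟨one_mem T, one_mul 1⟩
      mul_mem' := by
        rintro a b ⟨ha, haa⟩ ⟨hb, hbb⟩
        refine ⟨mul_mem ha hb, ?_⟩
        rw [mul_assoc, ← mul_assoc b a b, hcon b hb a ha, mul_assoc a b b, hbb, mul_one, haa]
      inv_mem' := by
        rintro a ⟨ha, haa⟩
        exact ⟨inv_mem ha, by rw [← mul_inv_rev, haa, inv_one]⟩ }
  have hle : V ≤ V0 := fun k hk => by
    rcases hVm k hk with rfl | rfl | rfl | rfl
    · exact one_mem _
    · exact ⟨hf.pT, hf.pp⟩
    · exact ⟨hf.qT, hf.qq⟩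
    · exact mul_mem (⟨hf.pT, hf.pp⟩ : p ∈ V0) ⟨hf.qT, hf.qq⟩
  have hV0T : V0 ≤ T := fun k hk => hk.1
  have hne8 : Nat.card ↥V0 ≠ 8 := fun h => huu
    ((eq_of_le_of_card_ge hV0T (by rw [h, hT])).ge hu).2
  obtain ⟨i, hi, hc⟩ := (Nat.dvd_prime_pow Nat.prime_two).1
    (show Nat.card ↥V0 ∣ 2 ^ 3 from (card_dvd_of_le hV0T).trans (dvd_of_eq hT))
  have hVV0 : V = V0 := eq_of_le_of_card_ge hle (by
    have := card_le_of_le hle
    rw [hc] at this hne8 ⊢
    interval_cases i <;> omega)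
  have hset : ∀ v, v ∈ T → v * v = 1 → v ≠ 1 → InSet p q v := fun v hv hvv hv1 =>
    (hVm v (hVV0.symm ▸ (⟨hv, hvv⟩ : v ∈ V0))).resolve_left hv1
  exact hne (X.line_eq hf hl (hset p' hf'.pT hf'.pp hf'.p1) (hset q' hf'.qT hf'.qq hf'.q1) hl')

end AutTrans

variable {G : Type u} [Group G] [Finite G]

theorem normalizerMonoidHom_eq_one {A : Subgroup G} (n : ↥(normalizer (A : Set G))) :
    A.normalizerMonoidHom n = 1 ↔ (n : G) ∈ centralizer (A : Set G) := by
  rw [← MonoidHom.mem_ker, normalizerMonoidHom_ker, mem_subgroupOf]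

/-- **The automiser fact.** -/
theorem aut_fact : AutFact.{u} := by
  intro G _ _ S A d
  haveI : Fact (Nat.Prime 2) := ⟨Nat.prime_two⟩
  refine ⟨fun s hs hsA hss k hk hodd hks => cent_fact S A d hs hsA hss hk hodd hks, ?_⟩
  intro J hJ hodd B hBA h4 hfix htr
  set φ := A.normalizerMonoidHom with hφ
  let K := φ.range
  let ρ : ↥K →* MulAut ↥A := K.subtype
  let ι : ↥(S : Subgroup G) →* ↥K := φ.rangeRestrict.comp (inclusion d.normal)
  let T : Sylow 2 ↥K := (S.subtype d.normal).mapSurjective φ.rangeRestrict_surjective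
  have hT : (T : Subgroup ↥K) = ι.range := by
    ext x
    rw [Sylow.coe_mapSurjective, Sylow.coe_subtype, Subgroup.mem_map]
    constructor
    · rintro ⟨⟨n, hn⟩, hnS, rfl⟩
      exact ⟨⟨n, hnS⟩, rfl⟩
    · rintro ⟨s, rfl⟩
      exact ⟨inclusion d.normal s, s.2, rfl⟩
  have hval : ∀ (s : ↥(S : Subgroup G)) (a : ↥A), ((ρ (ι s) a : ↥A) : G) = (s : G) * a * (s : G)⁻¹ :=
    fun _ _ => rfl
  have hone : ∀ s : ↥(S : Subgroup G), ι s = 1 ↔ (s : G) ∈ A := by
    intro s
    rw [← show ρ (ι s) = 1 ↔ ι s = 1 from map_eq_one_iff ρ K.subtype_injective]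
    rw [show ρ (ι s) = φ (inclusion d.normal s) from rfl, hφ, normalizerMonoidHom_eq_one]
    exact ⟨fun h => d.mem_of_centralizes s.2 fun a ha => (mem_centralizer_iff.1 h a ha).symm,
      fun h => mem_centralizer_iff.2 fun a ha => d.comm ha h⟩
  have hmemT : ∀ {x : ↥K}, x ∈ (T : Subgroup ↥K) → ∃ s, ι s = x := fun hx => by rwa [hT] at hx
  have hιT : ∀ s, ι s ∈ (T : Subgroup ↥K) := fun s => hT ▸ ⟨s, rfl⟩
  have hcardT : Nat.card ↥(T : Subgroup ↥K) = 8 := by
    rw [hT, ← index_ker]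
    have h := ι.ker.card_mul_index
    rw [d.cardS, show ι.ker = A.subgroupOf (S : Subgroup G) from Subgroup.ext fun s => hone s,
      Nat.card_congr (subgroupOfEquivOfLe d.le).toEquiv, d.cardA] at h
    rw [show ι.ker = A.subgroupOf (S : Subgroup G) from Subgroup.ext fun s => hone s]
    omega
  -- the four-groups of the image
  have hfour : ∀ {p q : ↥K}, AutTrans.IsFour (T : Subgroup ↥K) p q →
      ∃ s t : ↥(S : Subgroup G), ι s = p ∧ ι t = q ∧ FourPair (S : Subgroup G) A s t := by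
    intro p q hf
    obtain ⟨s, rfl⟩ := hmemT hf.pT
    obtain ⟨t, rfl⟩ := hmemT hf.qT
    have h : ∀ v, ι v = 1 → (v : G) ∈ A := fun v => (hone v).1
    refine ⟨s, t, rfl, rfl, s.2, t.2, fun h' => hf.p1 ((hone s).2 h'), fun h' => hf.q1 ((hone t).2 h'),
      fun h' => hf.ne ?_, h (s * s) (by rw [map_mul, hf.pp]), h (t * t) (by rw [map_mul, hf.qq]),
      h (s * t * s⁻¹ * t⁻¹) (by rw [map_mul, map_mul, map_mul, map_inv, map_inv, hf.comm]; group)⟩
    have := (hone (s * t)).2 h'
    rw [map_mul, ← hf.qq] at this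
    exact mul_right_cancel this
  have hfour' : ∀ {s t : G}, (h : FourPair (S : Subgroup G) A s t) →
      AutTrans.IsFour (T : Subgroup ↥K) (ι ⟨s, h.sS⟩) (ι ⟨t, h.tS⟩) := by
    intro s t h
    have h1 : ∀ v : ↥(S : Subgroup G), (v : G) ∈ A → ι v = 1 := fun v => (hone v).2
    refine ⟨hιT _, hιT _, fun e => h.sA ((hone _).1 e), fun e => h.tA ((hone _).1 e), fun e => h.stA ?_,
      by rw [← map_mul]; exact h1 _ h.ssA, by rw [← map_mul]; exact h1 _ h.ttA, ?_⟩
    · refine (hone (⟨s, h.sS⟩ * ⟨t, h.tS⟩)).1 ?_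
      rw [map_mul, e, ← map_mul]
      exact h1 _ h.ttA
    · have := h1 (⟨s, h.sS⟩ * ⟨t, h.tS⟩ * (⟨s, h.sS⟩ : ↥(S : Subgroup G))⁻¹ * (⟨t, h.tS⟩ : ↥(S : Subgroup G))⁻¹)
        h.commA
      rwa [map_mul, map_mul, map_mul, map_inv, map_inv, mul_inv_eq_one, mul_inv_eq_iff_eq_mul] at this
  have him : ∀ (s : ↥(S : Subgroup G)) (c : ↥A), AutTrans.Im ρ (ι s) c ↔ (c : G) ∈ cset A s := by
    intro s c
    have key : ∀ a : ↥A, ((a * ρ (ι s) a : ↥A) : G) = (a : G) * s * (a : G)⁻¹ * (s : G)⁻¹ := fun a => by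
      rw [Subgroup.coe_mul, hval]
      conv_rhs => rw [d.inv_eq a.2]
      group
    exact ⟨fun ⟨a, ha⟩ => ⟨a, a.2, by rw [← key a, ha]⟩,
      fun ⟨a, haA, ha⟩ => ⟨⟨a, haA⟩, Subtype.ext ((key ⟨a, haA⟩).trans ha)⟩⟩
  have hfixm : ∀ (s : ↥(S : Subgroup G)) (a : ↥A),
      ρ (ι s) a = a ↔ (a : G) ∈ centralizer ({(s : G)} : Set G) := fun s a => by
    rw [mem_centralizer_one, ← conj_eq_iff, ← hval]
    exact Subtype.ext_iff
  have hline : ∀ {s t : ↥(S : Subgroup G)} {e : G}, IsLine A s t e →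
      ∃ e' : ↥A, (e' : G) = e ∧ AutTrans.Line ρ (ι s) (ι t) e' := by
    intro s t e he
    refine ⟨⟨e, d.cset_le s.2 ((he.2 e).2 (Or.inr rfl)).1⟩, rfl, fun h => he.1 (congrArg Subtype.val h),
      fun c => ?_⟩
    rw [him, him, he.2]
    exact or_congr ⟨fun h => Subtype.ext h, fun h => congrArg Subtype.val h⟩
      ⟨fun h => Subtype.ext h, fun h => congrArg Subtype.val h⟩
  have X : AutTrans.Act (T : Subgroup ↥K) ρ :=
    { inj := K.subtype_injective
      cardM := d.cardA
      sq := fun a => Subtype.ext (d.sqA a a.2)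
      fixT := by
        intro x hx hxx hx1
        obtain ⟨s, rfl⟩ := hmemT hx
        rw [← d.cent16 s s.2 (fun h => hx1 ((hone s).2 h)) ((hone (s * s)).1 (by rw [map_mul, hxx]))]
        exact Nat.card_congr
          { toFun := fun a => ⟨(a : ↥A), (a : ↥A).2, (hfixm s a).1 a.2⟩
            invFun := fun a => ⟨⟨a, a.2.1⟩, (hfixm s ⟨a, a.2.1⟩).2 a.2.2⟩
            left_inv := fun a => rfl
            right_inv := fun a => rfl }
      fourCard := by
        intro p q hf
        obtain ⟨s, t, rfl, rfl, h⟩ := hfour hf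
        rw [← d.fourCent s t h]
        exact Nat.card_congr
          { toFun := fun a => ⟨(a : ↥A), ⟨(a : ↥A).2, (hfixm s a).1 a.2.1⟩, (hfixm t a).1 a.2.2⟩
            invFun := fun a => ⟨⟨a, a.2.1.1⟩, (hfixm s ⟨a, a.2.1.1⟩).2 a.2.1.2,
              (hfixm t ⟨a, a.2.1.1⟩).2 a.2.2⟩
            left_inv := fun a => rfl
            right_inv := fun a => rfl }
      fourComm := by
        intro p q hf c hc
        obtain ⟨s, t, rfl, rfl, h⟩ := hfour hf
        exact (hfixm t c).2 (mem_centralizer_one.2 (d.fourComm s t h c ((him s c).1 hc)).eq.symm)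
      mid := by
        intro p q hf c hc
        obtain ⟨s, t, rfl, rfl, h⟩ := hfour hf
        rw [him]
        have h1 := d.fourMid s t h c c.2 (mem_centralizer_one.1 ((hfixm s c).1 hc)).symm
        convert h1 using 1
        rw [Subgroup.coe_mul, hval]
        conv_rhs => rw [d.inv_eq c.2]
        group
      line := by
        intro p q hf
        obtain ⟨s, t, rfl, rfl, h⟩ := hfour hf
        obtain ⟨e, he⟩ := d.fourLine s t h
        obtain ⟨e', -, he'⟩ := hline he
        exact ⟨e', he'⟩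
      twoFours := by
        obtain ⟨s, t, s', t', e, e', h, h', hl, hl', hne⟩ := d.twoFours
        obtain ⟨a, ha, hla⟩ := hline (s := ⟨s, h.sS⟩) (t := ⟨t, h.tS⟩) hl
        obtain ⟨a', ha', hla'⟩ := hline (s := ⟨s', h'.sS⟩) (t := ⟨t', h'.tS⟩) hl'
        exact ⟨_, _, _, _, a, a', hfour' h, hfour' h', hla, hla', fun h => hne (by rw [← ha, ← ha', h])⟩ }
  have L : AutTrans.Local T :=
    { card := hcardT
      nc := by
        obtain ⟨u, hu, hu2⟩ := d.square
        exact X.nc hcardT (hιT ⟨u, hu⟩) fun h => hu2 ((hone (⟨u, hu⟩ * ⟨u, hu⟩)).1 (by rw [map_mul]; exact h))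
      four := by
        obtain ⟨p, q, -, -, -, -, hf, -⟩ := X.twoFours
        exact ⟨p, q, hf⟩
      two := by
        intro x k hx1 hxx hk hc
        obtain ⟨T', hT'⟩ :=
          (Agent.SEAbelian.isPGroup_zpowers (x := x) (k := 1) (by rw [pow_one, pow_two, hxx])).exists_le_sylow
        obtain ⟨c, rfl⟩ := MulAction.exists_smul_eq ↥K T T'
        have hmem := hT' (mem_zpowers x)
        rw [Sylow.coe_subgroup_smul] at hmem
        obtain ⟨s, hs⟩ := hmemT (mem_cj.1 hmem)
        obtain ⟨n, hn⟩ := φ.rangeRestrict_surjective (c⁻¹ * k * c)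
        obtain ⟨j, m, hm, hjm⟩ := Agent.SEAbelian.exists_parts n
        set n' := n ^ 2 ^ j with hn'
        have hodd' : Odd (orderOf (n' : G)) := by
          rw [orderOf_coe]
          exact Agent.SEAbelian.odd_orderOf_of_pow hm (by rw [hn', ← pow_mul, hjm])
        have hn2 : φ.rangeRestrict n' = c⁻¹ * k ^ 2 ^ j * c := by
          rw [hn', map_pow, hn]
          simpa using (map_pow (MulAut.conj c⁻¹) k (2 ^ j)).symm
        have hcomm : φ.rangeRestrict n' * ι s = ι s * φ.rangeRestrict n' := by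
          rw [hn2, hs]
          have h1 : k ^ 2 ^ j * x = x * k ^ 2 ^ j := (Commute.pow_left (show Commute k x from hc) _).eq
          calc c⁻¹ * k ^ 2 ^ j * c * (c⁻¹ * x * c) = c⁻¹ * (k ^ 2 ^ j * x) * c := by group
            _ = c⁻¹ * x * c * (c⁻¹ * k ^ 2 ^ j * c) := by rw [h1]; group
        have hsA : (s : G) ∉ A := fun h => hx1 (by
          have e := (hone s).2 h
          rw [hs, mul_assoc, inv_mul_eq_one] at e
          exact mul_eq_right.1 e.symm)
        have hss : (s : G) * s ∈ A := (hone (s * s)).1 (by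
          rw [map_mul, hs]
          calc c⁻¹ * x * c * (c⁻¹ * x * c) = c⁻¹ * (x * x) * c := by group
            _ = 1 := by rw [hxx]; group)
        have hC : (n' : G) ∈ centralizer (A : Set G) := by
          refine cent_fact S A d s.2 hsA hss n'.2 hodd' ?_
          refine (normalizerMonoidHom_eq_one (n' * inclusion d.normal s * n'⁻¹ * (inclusion d.normal s)⁻¹)).1 ?_
          have e : φ.rangeRestrict (n' * inclusion d.normal s * n'⁻¹ * (inclusion d.normal s)⁻¹) = 1 := by
            rw [map_mul, map_mul, map_mul, map_inv, map_inv]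
            show φ.rangeRestrict n' * ι s * (φ.rangeRestrict n')⁻¹ * (ι s)⁻¹ = 1
            rw [hcomm]; group
          exact congrArg Subtype.val e
        have hone' : φ.rangeRestrict n' = 1 := Subtype.ext ((normalizerMonoidHom_eq_one n').2 hC)
        rw [hn2, mul_assoc, inv_mul_eq_one] at hone'
        have hk2 : k ^ 2 ^ j = 1 := mul_eq_right.1 hone'.symm
        exact orderOf_eq_one_iff.1 (Nat.eq_one_of_dvd_coprimes
          ((Nat.coprime_pow_left_iff (n := j + 1) (Nat.succ_pos j) 2 _).2 (Nat.coprime_two_left.2 hk))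
          ((orderOf_dvd_of_pow_eq_one hk2).trans (pow_dvd_pow 2 (Nat.le_succ j))) dvd_rfl) }
  -- the image of `J`
  let χ : ↥J →* ↥K := φ.rangeRestrict.comp (inclusion hJ)
  have hker : χ.ker = (centralizer (A : Set G)).subgroupOf J := Subgroup.ext fun k => by
    rw [MonoidHom.mem_ker, mem_subgroupOf, Subtype.ext_iff]
    exact normalizerMonoidHom_eq_one (inclusion hJ k)
  have hcardJ : Nat.card ↥χ.range = (centralizer (A : Set G)).relIndex J := by rw [← index_ker, hker]; rfl
  refine X.trans_false L (J := χ.range) (B := B.subgroupOf A) (hcardJ ▸ hodd)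
    (by rwa [Nat.card_congr (subgroupOfEquivOfLe hBA).toEquiv]) ?_ ?_
  · rintro _ ⟨k, rfl⟩ b hb
    exact Subtype.ext (hfix k k.2 b hb)
  · intro a ha b hb
    obtain ⟨k, hk, h⟩ := htr a a.2 ha b b.2 hb
    exact ⟨χ ⟨k, hk⟩, ⟨_, rfl⟩, h⟩

end Cfsg.Agent.M24Type
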