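import Cfsg.Agent.Lib.M24Type.AutTransK
import Cfsg.Agent.Lib.M24Type.AutCent
import Cfsg.Agent.Lib.SmallSimple.Order360

/-!
# The automiser of `A` is not transitive on the nonidentity elements of a large quotient of `A`

`K` is the automiser acting on `M = A`, with Sylow 2-subgroup `T` the image of `S`.  Every four-group of `T` has a
line `e`; an element of order three fusing the four-group fixes `e` and at most four elements in all.
-/

set_option autoImplicit false
set_option linter.style.haveILetI false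
set_option linter.unusedSectionVars false

open Subgroup

universe u

namespace Cfsg.Agent.M24Type.AutTrans

open Cfsg.Agent.SmallSimple

variable {K : Type u} [Group K] [Finite K] {M : Type u} [Group M] [Finite M] {ρ : K →* MulAut M}

/-- The elements fixed by `x`. -/
def fixSub (ρ : K →* MulAut M) (x : K) : Subgroup M :=
  (ρ x).toMonoidHom.eqLocus (MonoidHom.id M)

theorem mem_fixSub {x : K} {a : M} : a ∈ fixSub ρ x ↔ ρ x a = a := Iff.rfl

theorem app (ρ : K →* MulAut M) (x y : K) (a : M) : ρ (x * y) a = ρ x (ρ y a) := by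
  rw [map_mul, MulAut.mul_apply]

/-- The elements fixing `a`. -/
def stabSub (ρ : K →* MulAut M) (a : M) : Subgroup K where
  carrier := {k | ρ k a = a}
  one_mem' := by simp
  mul_mem' := by
    intro x y hx hy
    show ρ (x * y) a = a
    rw [app, show ρ y a = a from hy, show ρ x a = a from hx]
  inv_mem' := by
    intro x hx
    show ρ x⁻¹ a = a
    conv_lhs => rw [← show ρ x a = a from hx]
    rw [← app, inv_mul_cancel, map_one, MulAut.one_apply]

theorem fix_le {x y : K} (h : x ∈ zpowers y) : fixSub ρ y ≤ fixSub ρ x := fun a ha =>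
  (zpowers_le (H := stabSub ρ a)).2 (show y ∈ stabSub ρ a from ha) h

theorem card_fix_conj (c x : K) : Nat.card ↥(fixSub ρ (c * x * c⁻¹)) = Nat.card ↥(fixSub ρ x) := by
  have h : fixSub ρ (c * x * c⁻¹) = (fixSub ρ x).map (ρ c).toMonoidHom := by
    ext a
    obtain ⟨b, rfl⟩ := (ρ c).surjective a
    rw [Subgroup.mem_map_equiv, MulEquiv.symm_apply_apply, mem_fixSub, mem_fixSub, ← app, inv_mul_cancel_right,
      app]
    exact (ρ c).injective.eq_iff
  rw [h]
  exact (Nat.card_congr (equivMapOfInjective _ _ (ρ c).injective).toEquiv).symm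

/-- `c` is a commutator of an element with `p`. -/
def Im (ρ : K →* MulAut M) (p : K) (c : M) : Prop := ∃ a, a * ρ p a = c

theorem im_conj {g p : K} {c : M} (h : Im ρ p c) : Im ρ (g * p * g⁻¹) (ρ g c) := by
  obtain ⟨a, rfl⟩ := h
  exact ⟨ρ g a, by rw [← app, inv_mul_cancel_right, app, ← map_mul]⟩

/-- `e` is the line of the four-group generated by `p` and `q`. -/
def Line (ρ : K →* MulAut M) (p q : K) (e : M) : Prop :=
  e ≠ 1 ∧ ∀ c : M, (Im ρ p c ∧ Im ρ q c) ↔ (c = 1 ∨ c = e)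

/-- `v` is one of the three involutions. -/
def InSet (p q v : K) : Prop := v = p ∨ v = q ∨ v = p * q

/-- The properties of the action of `K` on `M` seen by `T`. -/
structure Act (T : Subgroup K) (ρ : K →* MulAut M) : Prop where
  inj : Function.Injective ρ
  cardM : Nat.card M = 64
  sq : ∀ a : M, a * a = 1
  fixT : ∀ x ∈ T, x * x = 1 → x ≠ 1 → Nat.card ↥(fixSub ρ x) = 16
  fourCard : ∀ p q, IsFour T p q → Nat.card ↥(fixSub ρ p ⊓ fixSub ρ q) = 8
  fourComm : ∀ p q, IsFour T p q → ∀ c, Im ρ p c → ρ q c = c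
  mid : ∀ p q, IsFour T p q → ∀ c, ρ p c = c → Im ρ p (c * ρ q c)
  line : ∀ p q, IsFour T p q → ∃ e, Line ρ p q e
  twoFours : ∃ p q p' q' e e', IsFour T p q ∧ IsFour T p' q' ∧ Line ρ p q e ∧ Line ρ p' q' e' ∧ e ≠ e'

namespace Act

variable {T : Subgroup K} (X : Act T ρ)

include X

theorem comm (a b : M) : a * b = b * a := by
  calc a * b = a * (a * b * (a * b)) * b := by rw [X.sq, mul_one]
    _ = a * a * (b * a) * (b * b) := by group
    _ = b * a := by rw [X.sq a, X.sq b, one_mul, mul_one]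

theorem inv_eq (a : M) : a⁻¹ = a := inv_eq_of_mul_eq_one_right (X.sq a)

theorem card_mul {B : Subgroup M} : Nat.card ↥B * B.index = 64 := by rw [card_mul_index, X.cardM]

theorem tri {p q : K} (hf : IsFour T p q) {e : M} (hl : Line ρ p q e) : Im ρ (p * q) e := by
  obtain ⟨w, hw, hwq⟩ : ∃ w, ρ p w = w ∧ ρ q w ≠ w := by
    by_contra hcon
    push Not at hcon
    have h := card_le_of_le (show fixSub ρ p ≤ fixSub ρ p ⊓ fixSub ρ q from fun a ha => ⟨ha, hcon a ha⟩)
    rw [X.fixT p hf.pT hf.pp hf.p1, X.fourCard p q hf] at h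
    omega
  have hx1 : w * ρ q w ≠ 1 := fun h => hwq (by
    rw [← inv_eq_of_mul_eq_one_right h, X.inv_eq])
  have hxe : w * ρ q w = e := ((hl.2 _).1 ⟨X.mid p q hf w hw, w, rfl⟩).resolve_left hx1
  exact ⟨w, by rw [hf.comm, app, hw, hxe]⟩

theorem im_set {p q : K} (hf : IsFour T p q) {e : M} (hl : Line ρ p q e) {v : K} (hv : InSet p q v) :
    Im ρ v e := by
  rcases hv with rfl | rfl | rfl
  · exact ((hl.2 e).2 (Or.inr rfl)).1
  · exact ((hl.2 e).2 (Or.inr rfl)).2
  · exact X.tri hf hl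

theorem line_eq {p q p' q' : K} {e e' : M} (hf : IsFour T p q) (hl : Line ρ p q e) (hp : InSet p q p')
    (hq : InSet p q q') (hl' : Line ρ p' q' e') : e = e' :=
  ((hl'.2 e).1 ⟨X.im_set hf hl hp, X.im_set hf hl hq⟩).resolve_left hl.1

theorem fix_line {p q : K} (hf : IsFour T p q) {e : M} (hl : Line ρ p q e) : ρ p e = e ∧ ρ q e = e := by
  obtain ⟨a, ha⟩ := ((hl.2 e).2 (Or.inr rfl)).1
  refine ⟨?_, X.fourComm p q hf e ⟨a, ha⟩⟩
  rw [← ha, map_mul, ← app, hf.pp, map_one, MulAut.one_apply, X.comm]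

/-- The line is fixed by what permutes the three involutions. -/
theorem fix_of_perm {p q g : K} (hf : IsFour T p q) {e : M} (hl : Line ρ p q e)
    (hp : InSet p q (g * p * g⁻¹)) (hq : InSet p q (g * q * g⁻¹)) : ρ g e = e := by
  have hppq : p * (p * q) = q := by rw [← mul_assoc, hf.pp, one_mul]
  have hpqp : p * q * p = q := by rw [hf.comm, mul_assoc, hf.pp, mul_one]
  have hqpq : q * (p * q) = p := by rw [hf.comm, ← mul_assoc, hf.qq, one_mul]
  have hpqq : p * q * q = p := by rw [mul_assoc, hf.qq, mul_one]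
  have h3 : g * (p * q) * g⁻¹ = g * p * g⁻¹ * (g * q * g⁻¹) := by group
  have hne : g * p * g⁻¹ ≠ g * q * g⁻¹ := fun h => hf.ne ((MulAut.conj g).injective h)
  have hcases : (g * p * g⁻¹ = p ∨ g * q * g⁻¹ = p ∨ g * (p * q) * g⁻¹ = p) ∧
      (g * p * g⁻¹ = q ∨ g * q * g⁻¹ = q ∨ g * (p * q) * g⁻¹ = q) := by
    rw [h3]
    rcases hp with a | a | a <;> rcases hq with b | b | b <;>
      first
        | exact absurd (a.trans b.symm) hne
        | (rw [a, b]; simp only [hppq, hpqp, hqpq, hpqq, hf.comm.symm, true_or, or_true, and_self])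
  have himg : ∀ v, InSet p q v → Im ρ (g * v * g⁻¹) (ρ g e) := fun v hv => im_conj (X.im_set hf hl hv)
  have key : ∀ w : K, (g * p * g⁻¹ = w ∨ g * q * g⁻¹ = w ∨ g * (p * q) * g⁻¹ = w) → Im ρ w (ρ g e) := by
    rintro w (rfl | rfl | rfl)
    · exact himg p (Or.inl rfl)
    · exact himg q (Or.inr (Or.inl rfl))
    · exact himg _ (Or.inr (Or.inr rfl))
  exact ((hl.2 _).1 ⟨key p hcases.1, key q hcases.2⟩).resolve_left
    fun h => hl.1 ((ρ g).injective (h.trans (map_one (ρ g)).symm))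

/-- The commutators with `p` are more than two. -/
theorem exists_im {p : K} (hp : p ∈ T) (hpp : p * p = 1) (hp1 : p ≠ 1) (e : M) :
    ∃ c, Im ρ p c ∧ c ≠ 1 ∧ c ≠ e := by
  classical
  by_contra hcon
  push Not at hcon
  let f : M →* M := MonoidHom.mk' (fun a => a * ρ p a) fun a b => by
    rw [map_mul, mul_assoc, mul_assoc, ← mul_assoc b, X.comm b (ρ p a), mul_assoc]
  have hk : f.ker = fixSub ρ p := by
    ext a
    show a * ρ p a = 1 ↔ ρ p a = a
    exact ⟨fun h => by rw [← inv_eq_of_mul_eq_one_right h, X.inv_eq], fun h => by rw [h, X.sq]⟩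
  have h1 := X.card_mul (B := fixSub ρ p)
  rw [X.fixT p hp hpp hp1, ← hk, index_ker] at h1
  haveI := Fintype.ofFinite ↥f.range
  have h2 : Finset.univ.image (fun c : ↥f.range => (c : M)) ⊆ {1, e} := by
    intro c hc
    simp only [Finset.mem_image, Finset.mem_univ, true_and] at hc
    obtain ⟨⟨_, a, rfl⟩, rfl⟩ := hc
    simp only [Finset.mem_insert, Finset.mem_singleton]
    by_cases h : f a = 1
    · exact Or.inl h
    · exact Or.inr (hcon _ ⟨a, rfl⟩ h)
  have h3 := Finset.card_le_card h2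
  rw [Finset.card_image_of_injective _ Subtype.val_injective, Finset.card_univ, ← Nat.card_eq_fintype_card] at h3
  have h4 := h3.trans Finset.card_le_two
  omega

theorem fix_mod_three {h : K} (h3 : orderOf h = 3) (V : Subgroup M) (hV : ∀ v ∈ V, ρ h v ∈ V) :
    Nat.card ↥(fixSub ρ h ⊓ V) % 3 = Nat.card ↥V % 3 := by
  classical
  haveI : Fact (Nat.Prime 3) := ⟨Nat.prime_three⟩
  haveI := Fintype.ofFinite ↥V
  let f : Function.End ↥V := fun v => ⟨ρ h v, hV v v.2⟩
  have hf : f ^ 3 ^ 1 = 1 := by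
    rw [pow_one, pow_succ, pow_succ, pow_one]
    funext v
    refine Subtype.ext ?_
    show ρ h (ρ h (ρ h (v : M))) = v
    rw [← app, ← app, show h * h * h = h ^ 3 by rw [pow_succ, pow_two], ← h3, pow_orderOf_eq_one, map_one,
      MulAut.one_apply]
  have hmod := Equiv.Perm.card_fixedPoints_modEq hf
  rw [← Nat.card_eq_fintype_card, ← Nat.card_eq_fintype_card] at hmod
  rw [hmod]
  refine congrArg (· % 3) (Nat.card_congr
    { toFun := fun a => ⟨⟨a, a.2.2⟩, Subtype.ext a.2.1⟩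
      invFun := fun v => ⟨(v : ↥V), congrArg Subtype.val v.2, (v : ↥V).2⟩
      left_inv := fun a => rfl
      right_inv := fun v => rfl })

/-- A fusing element fixes the line, and little else. -/
theorem fused_facts {p q h : K} (hf : IsFour T p q) (h3 : orderOf h = 3) (hp : h * p * h⁻¹ = q)
    (hq : h * q * h⁻¹ = p * q) {e : M} (hl : Line ρ p q e) :
    ρ h e = e ∧ Nat.card ↥(fixSub ρ h) ≤ 4 ∧ ∀ f, ρ p f = f → ρ q f = f → ρ h f = f → f = 1 ∨ f = e := by
  have he : ρ h e = e := X.fix_of_perm hf hl (Or.inr (Or.inl hp)) (Or.inr (Or.inr hq))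
  set U := fixSub ρ p ⊓ fixSub ρ q with hU
  have hhp : h * p = q * h := by rw [← hp, inv_mul_cancel_right]
  have hhq : h * q = p * q * h := by rw [← hq, inv_mul_cancel_right]
  have hUi : ∀ v ∈ U, ρ h v ∈ U := by
    rintro v ⟨h1, h2⟩
    have e1 : ρ q (ρ h v) = ρ h v := by rw [← app, ← hhp, app, mem_fixSub.1 h1]
    refine ⟨?_, e1⟩
    show ρ p (ρ h v) = ρ h v
    conv_lhs => rw [← e1]
    rw [← app, ← app, ← hhq, app, mem_fixSub.1 h2]
  have hUc : Nat.card ↥U = 8 := X.fourCard p q hf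
  set W := fixSub ρ h ⊓ U with hW
  have hmod := X.fix_mod_three h3 U hUi
  rw [hUc, ← hW] at hmod
  obtain ⟨i, hi, hWc⟩ := (Nat.dvd_prime_pow Nat.prime_two).1
    (show Nat.card ↥W ∣ 2 ^ 3 from (card_dvd_of_le (inf_le_right : W ≤ U)).trans (dvd_of_eq hUc))
  have hW2 : Nat.card ↥W = 2 := by
    interval_cases i
    · omega
    · simpa using hWc
    · omega
    · exfalso
      have hUW : W = U := eq_of_le_of_card_ge inf_le_right (by rw [hWc, hUc]; norm_num)
      obtain ⟨c, hc, hc1, hce⟩ := X.exists_im hf.pT hf.pp hf.p1 e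
      have hcW : c ∈ W := by
        rw [hUW]
        refine ⟨?_, X.fourComm p q hf c hc⟩
        obtain ⟨a, rfl⟩ := hc
        show ρ p (a * ρ p a) = a * ρ p a
        rw [map_mul, ← app, hf.pp, map_one, MulAut.one_apply, X.comm]
      have hcq := im_conj (g := h) hc
      rw [hp, mem_fixSub.1 hcW.1] at hcq
      rcases (hl.2 c).1 ⟨hc, hcq⟩ with h' | h'
      · exact hc1 h'
      · exact hce h'
  have hWe : ∀ f ∈ W, f = 1 ∨ f = e := by
    intro f hf'
    have heW : e ∈ W := ⟨he, (X.fix_line hf hl).1, (X.fix_line hf hl).2⟩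
    have hz : zpowers e = W := eq_of_le_of_card_ge (zpowers_le.2 heW)
      (by rw [hW2, Nat.card_zpowers, orderOf_eq_prime (p := 2) (by rw [pow_two]; exact X.sq e) hl.1])
    rw [← hz, mem_zpowers_iff] at hf'
    obtain ⟨j, rfl⟩ := hf'
    rcases Int.even_or_odd j with ⟨l, rfl⟩ | ⟨l, rfl⟩
    · left; rw [← two_mul, zpow_mul, zpow_two, X.sq, one_zpow]
    · right; rw [zpow_add, zpow_mul, zpow_two, X.sq, one_zpow, one_mul, zpow_one]
  refine ⟨he, ?_, fun f h1 h2 h3' => hWe f ⟨h3', h1, h2⟩⟩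
  -- at most eight, and congruent to one modulo three
  have hle : Nat.card ↥(fixSub ρ h ⊓ fixSub ρ p) ≤ 2 := by
    rw [← hW2]
    refine card_le_of_le ?_
    rintro a ⟨h1, h2⟩
    refine ⟨h1, h2, ?_⟩
    show ρ q a = a
    rw [← hp, app, app, mem_fixSub.1 (fix_le (inv_mem (mem_zpowers h)) h1), mem_fixSub.1 h2, mem_fixSub.1 h1]
  have i1 := X.card_mul (B := fixSub ρ p)
  rw [X.fixT p hf.pT hf.pp hf.p1] at i1
  have i2 := X.card_mul (B := fixSub ρ h)
  have i3 := X.card_mul (B := fixSub ρ h ⊓ fixSub ρ p)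
  have i4 : (fixSub ρ h ⊓ fixSub ρ p).index ≤ (fixSub ρ h).index * (fixSub ρ p).index := index_inf_le
  have hm := X.fix_mod_three h3 ⊤ fun v _ => mem_top _
  rw [inf_top_eq, card_top, X.cardM] at hm
  have i5 : 32 ≤ (fixSub ρ h ⊓ fixSub ρ p).index := by
    by_contra hlt
    have := Nat.mul_le_mul hle (le_of_lt (not_le.1 hlt))
    have := Nat.mul_lt_mul_of_le_of_lt hle (not_le.1 hlt) two_pos
    omega
  rw [show (fixSub ρ p).index = 4 by omega] at i4
  have hdvd : Nat.card ↥(fixSub ρ h) ∣ 2 ^ 6 := ⟨_, (i2.trans (by norm_num)).symm⟩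
  obtain ⟨j, hj, hjc⟩ := (Nat.dvd_prime_pow Nat.prime_two).1 hdvd
  rw [hjc] at i2 hm ⊢
  interval_cases j <;> omega

end Act

theorem eq_top_of_index [IsSimpleGroup K] {H : Subgroup K} (h : ¬ Nat.card K ∣ H.index.factorial) : H = ⊤ := by
  by_contra hH
  have hd := card_dvd_of_injective _ (Basic.toPermHom_injective H hH)
  rw [Nat.card_perm, ← index_eq_card] at hd
  exact h hd

namespace Act

variable {T : Sylow 2 K} (X : Act (T : Subgroup K) ρ) (L : Local T)

include X L

/-- A line is fixed by `T`. -/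
theorem fix_T {p q : K} (hf : IsFour (T : Subgroup K) p q) {e : M} (hl : Line ρ p q e) {t : K}
    (ht : t ∈ (T : Subgroup K)) : ρ t e = e := by
  obtain ⟨z, hz⟩ := L.exists_center
  obtain ⟨V, -, hpV, hqV, hVm⟩ := exists_kl hf.p1 hf.q1 hf.ne hf.pp hf.qq hf.comm
  have hzV : z ∈ V := by
    rcases hz.inFour p q hf with rfl | rfl | rfl
    · exact hpV
    · exact hqV
    · exact mul_mem hpV hqV
  have key : ∀ v ∈ V, v ∈ (T : Subgroup K) → v ≠ 1 → InSet p q (t * v * t⁻¹) := by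
    intro v hv hvT hv1
    have hin : t * v * t⁻¹ ∈ V := by
      rcases hz.derived t ht v hvT with h | h
      · rw [mul_inv_eq_one.1 h]; exact hv
      · rw [mul_inv_eq_iff_eq_mul.1 h]; exact mul_mem hzV hv
    exact (hVm _ hin).resolve_left fun h =>
      hv1 ((MulAut.conj t).injective (h.trans (map_one (MulAut.conj t)).symm))
  exact X.fix_of_perm hf hl (key p hpV hf.pT hf.p1) (key q hqV hf.qT hf.q1)

/-- In a group without subgroups of index two each line belongs to a fusing element. -/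
theorem fused_data (hno : ∀ H : Subgroup K, H.index ≠ 2) {p q : K} (hf : IsFour (T : Subgroup K) p q) {e : M}
    (hl : Line ρ p q e) :
    ∃ h : K, orderOf h = 3 ∧ ρ h e = e ∧ Nat.card ↥(fixSub ρ h) ≤ 4 ∧
      ∀ f, (∀ k, ρ k f = f) → f = 1 ∨ f = e := by
  obtain ⟨p', q', ⟨hf', h, h3, hp, hq⟩, hset⟩ := (L.of_perfect hno).2.2 p q hf
  obtain ⟨e', hl'⟩ := X.line p' q' hf'
  obtain rfl := X.line_eq hf hl ((hset p').1 (Or.inl rfl)) ((hset q').1 (Or.inr (Or.inl rfl))) hl'
  obtain ⟨h1, h2, h4⟩ := X.fused_facts hf' h3 hp hq hl'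
  exact ⟨h, h3, h1, h2, fun f hk => h4 f (hk p') (hk q') (hk h)⟩

/-- Then nothing but 1 is fixed by the whole group. -/
theorem eq_one_of_fixed (hno : ∀ H : Subgroup K, H.index ≠ 2) {f : M} (hk : ∀ k, ρ k f = f) : f = 1 := by
  obtain ⟨p, q, p', q', e, e', hf, hf', hl, hl', hne⟩ := X.twoFours
  obtain ⟨_, -, -, -, h1⟩ := X.fused_data L hno hf hl
  obtain ⟨_, -, -, -, h2⟩ := X.fused_data L hno hf' hl'
  rcases h1 f hk with h | h
  · exact h
  rcases h2 f hk with h' | h'
  · exact h'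
  exact absurd (h.symm.trans h') hne

omit L in
/-- Transitivity of a subgroup on the nonidentity elements of `M/B`. -/
theorem index_sub_one_dvd {J : Subgroup K} {B : Subgroup M} (hfix : ∀ k ∈ J, ∀ b ∈ B, ρ k b = b)
    (htr : ∀ a, a ∉ B → ∀ b, b ∉ B → ∃ k ∈ J, ρ k a * b⁻¹ ∈ B) (hB : B ≠ ⊤) :
    B.index - 1 ∣ Nat.card ↥J := by
  classical
  haveI : B.Normal := ⟨fun b hb g => by rw [X.comm g b, mul_inv_cancel_right]; exact hb⟩
  obtain ⟨a0, ha0⟩ : ∃ a, a ∉ B := by
    by_contra h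
    push Not at h
    exact hB (eq_top_iff.2 fun a _ => h a)
  let St : Subgroup ↥J :=
    { carrier := {k | ρ (k : K) a0 * a0 ∈ B}
      one_mem' := by simp [X.sq]
      mul_mem' := by
        intro k l hk hl
        show ρ ((k : K) * (l : K)) a0 * a0 ∈ B
        have h1 := hfix k k.2 _ hl
        rw [map_mul, ← app] at h1
        have h2 : ρ ((k : K) * (l : K)) a0 * a0 =
            (ρ ((k : K) * (l : K)) a0 * ρ (k : K) a0) * (ρ (k : K) a0 * a0) := by
          rw [mul_assoc, ← mul_assoc (ρ (k : K) a0), X.sq, one_mul]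
        rw [h2]
        exact mul_mem (h1.symm ▸ hl) hk
      inv_mem' := by
        intro k hk
        show ρ (k : K)⁻¹ a0 * a0 ∈ B
        have h1 := hfix _ (inv_mem k.2) _ hk
        rw [map_mul, ← app, inv_mul_cancel, map_one, MulAut.one_apply] at h1
        rw [X.comm]
        exact h1.symm ▸ hk }
  have hout : ∀ k : ↥J, ρ (k : K) a0 ∉ B := fun k h => by
    apply ha0
    have h1 := hfix _ (inv_mem k.2) _ h
    rw [← app, inv_mul_cancel, map_one, MulAut.one_apply] at h1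
    exact h1.symm ▸ h
  let f : ↥J ⧸ St → {x : M ⧸ B // x ≠ 1} := Quotient.lift
    (fun k : ↥J => ⟨(ρ (k : K) a0 : M ⧸ B), fun h => hout k ((QuotientGroup.eq_one_iff _).1 h)⟩)
    fun x y hxy => by
      refine Subtype.ext (QuotientGroup.eq.2 ?_)
      have hxy' : ρ ((x : K)⁻¹ * (y : K)) a0 * a0 ∈ B := QuotientGroup.leftRel_apply.1 hxy
      have h1 := hfix _ x.2 _ hxy'
      rw [map_mul, ← app, mul_inv_cancel_left] at h1
      rw [X.inv_eq, X.comm, h1]
      exact hxy'
  have hf : Function.Bijective f := by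
    refine ⟨fun x y => ?_, fun ⟨x, hx⟩ => ?_⟩
    · induction x using Quotient.inductionOn with
      | h x =>
        induction y using Quotient.inductionOn with
        | h y =>
          intro h
          refine Quotient.sound (QuotientGroup.leftRel_apply.2 ?_)
          show ρ ((x : K)⁻¹ * (y : K)) a0 * a0 ∈ B
          have hm : (ρ (x : K) a0)⁻¹ * ρ (y : K) a0 ∈ B := QuotientGroup.eq.1 (congrArg Subtype.val h)
          rw [X.inv_eq] at hm
          have h1 := hfix _ (inv_mem x.2) _ hm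
          rw [map_mul, ← app, ← app, inv_mul_cancel, map_one, MulAut.one_apply, X.comm] at h1
          exact h1.symm ▸ hm
    · obtain ⟨b, rfl⟩ := QuotientGroup.mk_surjective x
      obtain ⟨k, hk, hkb⟩ := htr a0 ha0 b fun h => hx ((QuotientGroup.eq_one_iff b).2 h)
      refine ⟨QuotientGroup.mk (⟨k, hk⟩ : ↥J), Subtype.ext (QuotientGroup.eq.2 ?_)⟩
      rw [X.inv_eq] at hkb ⊢
      exact hkb
  have hcard := Nat.card_eq_of_bijective f hf
  haveI := Fintype.ofFinite (M ⧸ B)
  have hsub : Nat.card {x : M ⧸ B // x ≠ 1} = B.index - 1 := by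
    rw [index_eq_card, Nat.card_eq_fintype_card, Nat.card_eq_fintype_card, Fintype.card_subtype_compl,
      Fintype.card_subtype_eq]
  rw [← hsub, ← hcard]
  exact card_quotient_dvd_card St

omit X L in
theorem conj_mem_zpowers {g h : K} (h9 : ¬ 9 ∣ Nat.card K) (hg : orderOf g = 3) (hh : orderOf h = 3) :
    ∃ c : K, c * g * c⁻¹ ∈ zpowers h := by
  haveI : Fact (Nat.Prime 3) := ⟨Nat.prime_three⟩
  have hp : ∀ x : K, orderOf x = 3 → IsPGroup 3 ↥(zpowers x) := fun x hx =>
    IsPGroup.of_card (n := 1) (by rw [Nat.card_zpowers, hx, pow_one])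
  obtain ⟨Q, hQ⟩ := (hp g hg).exists_le_sylow
  obtain ⟨Q', hQ'⟩ := (hp h hh).exists_le_sylow
  obtain ⟨k, hk⟩ := Q'.2.exists_card_eq
  have hk1 : k ≤ 1 := by
    by_contra hk2
    exact h9 ((pow_dvd_pow 3 (show 2 ≤ k by omega)).trans (hk ▸ card_subgroup_dvd_card _))
  have e : zpowers h = (Q' : Subgroup K) := eq_of_le_of_card_ge hQ' (by
    rw [hk, Nat.card_zpowers, hh]
    exact (Nat.pow_le_pow_right (by norm_num) hk1).trans (by norm_num))
  obtain ⟨c, rfl⟩ := MulAction.exists_smul_eq K Q Q'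
  refine ⟨c, e ▸ ?_⟩
  rw [Sylow.coe_subgroup_smul]
  exact conj_mem_cj (hQ (mem_zpowers g))

omit L in
theorem conj_false {g h : K} (h9 : ¬ 9 ∣ Nat.card K) (hg : orderOf g = 3) (hh : orderOf h = 3)
    (hg16 : 16 ≤ Nat.card ↥(fixSub ρ g)) (hh4 : Nat.card ↥(fixSub ρ h) ≤ 4) : False := by
  obtain ⟨c, hc⟩ := conj_mem_zpowers h9 hg hh
  have e : zpowers (c * g * c⁻¹) = zpowers h := eq_of_le_of_card_ge (zpowers_le.2 hc)
    (by rw [Nat.card_zpowers, Nat.card_zpowers, hh, ← MulAut.conj_apply, MulEquiv.orderOf_eq, hg])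
  have := card_le_of_le (fix_le (ρ := ρ) (e.symm ▸ mem_zpowers h : h ∈ zpowers (c * g * c⁻¹)))
  rw [card_fix_conj] at this
  omega

/-- The case `|B| = 8`. -/
theorem seven_false [IsSimpleGroup K] (hno : ∀ H : Subgroup K, H.index ≠ 2) (hK : Nat.card K = 168) {g : K}
    (hg : orderOf g = 7) {B : Subgroup M} (hB : Nat.card ↥B = 8) (hgB : ∀ b ∈ B, ρ g b = b) : False := by
  haveI : Fact (Nat.Prime 7) := ⟨by norm_num⟩
  obtain ⟨z, hz⟩ := L.exists_center
  have i1 := X.card_mul (B := B)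
  have i2 := X.card_mul (B := fixSub ρ z)
  have i3 := X.card_mul (B := B ⊓ fixSub ρ z)
  rw [X.fixT z hz.zT hz.zz hz.z1] at i2
  rw [hB] at i1
  have i4 : (B ⊓ fixSub ρ z).index ≤ B.index * (fixSub ρ z).index := index_inf_le
  rw [show B.index = 8 by omega, show (fixSub ρ z).index = 4 by omega] at i4
  obtain ⟨f, hf, hf1⟩ : ∃ f ∈ B ⊓ fixSub ρ z, f ≠ 1 := by
    by_contra h
    push Not at h
    rw [show B ⊓ fixSub ρ z = ⊥ from eq_bot_iff.2 fun a ha => mem_bot.2 (h a ha)] at i3 i4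
    rw [card_bot] at i3
    omega
  set H := stabSub ρ f
  have hgH : g ∈ H := hgB f hf.1
  have hzH : z ∈ H := hf.2
  have h14 : 14 ∣ Nat.card ↥H := Nat.Coprime.mul_dvd_of_dvd_of_dvd (m := 2) (n := 7) (by norm_num)
    ((orderOf_eq_prime (by rw [pow_two]; exact hz.zz) hz.z1).symm ▸ H.orderOf_dvd_natCard hzH)
    (hg ▸ H.orderOf_dvd_natCard hgH)
  have hidx := H.card_mul_index
  rw [hK] at hidx
  obtain ⟨m, hm⟩ := h14
  rw [hm] at hidx
  by_cases hsix : H.index ≤ 6
  · refine hf1 (X.eq_one_of_fixed L hno fun k => ?_)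
    have : H = ⊤ := eq_top_of_index (by
      rw [hK]
      intro hd
      have h7 : 7 ∣ H.index.factorial := (show 7 ∣ 168 by norm_num).trans hd
      rw [(show Nat.Prime 7 by norm_num).dvd_factorial] at h7
      omega)
    exact (this.ge (mem_top k) : k ∈ H)
  have hm1 : m = 1 := by
    have hmd : m ∣ 12 := ⟨H.index, by rw [mul_assoc] at hidx; omega⟩
    have := Nat.le_of_dvd (by norm_num) hmd
    interval_cases m <;> omega
  have hg7 : Nat.card ↥(zpowers g) = 7 := by rw [Nat.card_zpowers, hg]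
  have hgle : zpowers g ≤ H := zpowers_le.2 hgH
  have hrel : ((zpowers g).subgroupOf H).index = 2 := by
    have h := ((zpowers g).subgroupOf H).card_mul_index
    rw [Nat.card_congr (subgroupOfEquivOfLe hgle).toEquiv, hg7, hm] at h
    omega
  haveI := normal_of_index_eq_two hrel
  have hzn : z ∈ normalizer (zpowers g : Set K) := mem_normalizer_of_conj fun x hx =>
    (inferInstance : ((zpowers g).subgroupOf H).Normal).conj_mem ⟨x, hgle hx⟩ hx ⟨z, hzH⟩
  obtain ⟨P, hP⟩ := (IsPGroup.of_card (n := 1) (by rw [hg7, pow_one]) :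
    IsPGroup 7 ↥(zpowers g)).exists_le_sylow
  have hG : ¬ IsMulCommutative K := Basic.not_comm_of_not_prime (by rw [hK]; norm_num)
  have hP7 : Nat.card ↥(P : Subgroup K) = 7 := by
    simpa using Basic.card_sylow_eq_pow (a := 1) (m := 24) (by rw [hK]; norm_num) (by norm_num) P
  have e : zpowers g = (P : Subgroup K) := eq_of_le_of_card_ge hP (by rw [hP7, hg7])
  obtain ⟨hd, hmod, hgt, -⟩ := Basic.sylow_count (p := 7) hG (by rw [hK]; norm_num) (a := 1) (m := 24)
    (by rw [hK]; norm_num) (by norm_num)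
  have hN := Basic.card_normalizer_mul P
  have key : ∀ n ∈ Nat.divisors 24, n % 7 = 1 → 1 < n → n = 8 := by decide
  rw [key _ (Nat.mem_divisors.2 ⟨hd, by norm_num⟩) hmod hgt, hK, ← e] at hN
  have := (normalizer (zpowers g : Set K)).orderOf_dvd_natCard hzn
  rw [orderOf_eq_prime (by rw [pow_two]; exact hz.zz) hz.z1] at this
  omega

omit X L in
/-- The case `|B| = 4`: a group of order 15 or 45 has an element of order 15. -/
theorem fifteen_false [IsSimpleGroup K] (hK : Nat.card K = 360) {J : Subgroup K} (hJ : Odd (Nat.card ↥J))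
    (h15 : 15 ∣ Nat.card ↥J) : False := by
  haveI : Fact (Nat.Prime 5) := ⟨by norm_num⟩
  haveI : Fact (Nat.Prime 3) := ⟨Nat.prime_three⟩
  have h45 : Nat.card ↥J ∣ 45 := (Nat.Coprime.dvd_of_dvd_mul_left
    (by exact (Nat.coprime_pow_right_iff (n := 3) (by norm_num) _ 2).2 (Nat.coprime_two_right.2 hJ))
    (show Nat.card ↥J ∣ 2 ^ 3 * 45 by rw [show 2 ^ 3 * 45 = 360 by norm_num, ← hK]; exact card_subgroup_dvd_card J))
  obtain ⟨x, hx⟩ := exists_prime_orderOf_dvd_card' 5 ((show 5 ∣ 15 by norm_num).trans h15)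
  obtain ⟨y, hy⟩ := exists_prime_orderOf_dvd_card' 3 ((show 3 ∣ 15 by norm_num).trans h15)
  obtain ⟨P, hP⟩ := (IsPGroup.of_card (n := 1) (by rw [Nat.card_zpowers, hx, pow_one]) :
    IsPGroup 5 ↥(zpowers x)).exists_le_sylow
  obtain ⟨k, hk⟩ := P.2.exists_card_eq
  have hk1 : k ≤ 1 := by
    by_contra hk2
    have := ((pow_dvd_pow 5 (show 2 ≤ k by omega)).trans (hk ▸ card_subgroup_dvd_card _)).trans h45
    norm_num at this
  have e : zpowers x = (P : Subgroup ↥J) := eq_of_le_of_card_ge hP (by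
    rw [hk, Nat.card_zpowers, hx]
    exact (Nat.pow_le_pow_right (by norm_num) hk1).trans (by norm_num))
  have hP5 : Nat.card ↥(P : Subgroup ↥J) = 5 := by rw [← e, Nat.card_zpowers, hx]
  have hidx9 : (P : Subgroup ↥J).index ∣ 9 := by
    have h := card_mul_index (P : Subgroup ↥J)
    rw [hP5] at h
    refine (Nat.mul_dvd_mul_iff_left (show 0 < 5 by norm_num)).1 ?_
    rw [h]
    exact h45
  have hn : Nat.card (Sylow 5 ↥J) = 1 := by
    have hmod : Nat.card (Sylow 5 ↥J) % 5 = 1 := card_sylow_modEq_one 5 ↥J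
    have key : ∀ n ∈ Nat.divisors 9, n % 5 = 1 → n = 1 := by decide
    exact key _ (Nat.mem_divisors.2 ⟨P.card_dvd_index.trans hidx9, by norm_num⟩) hmod
  haveI : Subsingleton (Sylow 5 ↥J) := (Nat.card_eq_one_iff_unique.1 hn).1
  have hnorm : (zpowers x).Normal := e ▸ P.normal_of_subsingleton
  classical
  have hm := hnorm.conj_mem x (mem_zpowers x) y
  rw [mem_zpowers_iff_mem_range_orderOf, hx, Finset.mem_image] at hm
  obtain ⟨i, hi, he⟩ := hm
  rw [Finset.mem_range] at hi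
  have hit : ∀ n : ℕ, y ^ n * x * (y ^ n)⁻¹ = x ^ (i ^ n) := by
    intro n
    induction n with
    | zero => simp
    | succ n ih =>
      calc y ^ (n + 1) * x * (y ^ (n + 1))⁻¹ = y * (y ^ n * x * (y ^ n)⁻¹) * y⁻¹ := by
            rw [pow_succ']; group
        _ = (y * x * y⁻¹) ^ (i ^ n) := by rw [ih, conj_pow]
        _ = x ^ (i ^ (n + 1)) := by rw [← he, ← pow_mul, pow_succ']
  have h3 := hit 3
  rw [← hy, pow_orderOf_eq_one, one_mul, inv_one, mul_one, hy] at h3
  have hi3 : i ^ 3 % 5 = 1 := by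
    have h := pow_eq_pow_iff_modEq.1 (h3.symm.trans (pow_one x).symm)
    rw [hx] at h
    exact h
  have hcomm : Commute y x := by
    have hi1 : i = 1 := by interval_cases i <;> omega
    rw [hi1, pow_one] at he
    exact conj_eq_iff.1 he.symm
  have h := hcomm.orderOf_mul_eq_mul_orderOf_of_coprime (by rw [hx, hy]; norm_num)
  rw [hx, hy, ← Subgroup.orderOf_coe] at h
  have h5 := (Order360.centralizers hK).2.2 _ (h.symm ▸ by norm_num : 5 ∣ orderOf ((y * x : ↥J) : K))
  omega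

/-- The case `|B| = 16` in a simple group of order 360. -/
theorem sixteen_false [IsSimpleGroup K] (hno : ∀ H : Subgroup K, H.index ≠ 2) (hK : Nat.card K = 360) {g : K}
    (hg : orderOf g = 3) (hg16 : 16 ≤ Nat.card ↥(fixSub ρ g)) : False := by
  haveI : Fact (Nat.Prime 2) := ⟨Nat.prime_two⟩
  haveI : Fact (Nat.Prime 3) := ⟨Nat.prime_three⟩
  have hG : ¬ IsMulCommutative K := Basic.not_comm_of_not_prime (by rw [hK]; norm_num)
  obtain ⟨p, q, -, -, e, -, hf, -, hl, -, -⟩ := X.twoFours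
  obtain ⟨h, hh, hhe, hh4, -⟩ := X.fused_data L hno hf hl
  obtain ⟨Q, hQ⟩ := (IsPGroup.of_card (n := 1) (by rw [Nat.card_zpowers, hg, pow_one]) :
    IsPGroup 3 ↥(zpowers g)).exists_le_sylow
  obtain ⟨P, hP⟩ := (IsPGroup.of_card (n := 1) (by rw [Nat.card_zpowers, hh, pow_one]) :
    IsPGroup 3 ↥(zpowers h)).exists_le_sylow
  have hhP : h ∈ (P : Subgroup K) := hP (mem_zpowers h)
  have hP9 : Nat.card ↥(P : Subgroup K) = 9 :=
    Basic.card_sylow_eq_pow (a := 2) (m := 40) (by rw [hK]; norm_num) (by norm_num) P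
  have hPc : ∀ a ∈ (P : Subgroup K), ∀ b ∈ (P : Subgroup K), a * b = b * a := fun a ha b hb => by
    haveI := IsPGroup.isMulCommutative_of_card_eq_prime_sq (p := 3) (G := ↥(P : Subgroup K))
      (by rw [hP9]; norm_num)
    exact congrArg Subtype.val (mul_comm' (⟨a, ha⟩ : ↥(P : Subgroup K)) ⟨b, hb⟩)
  obtain ⟨g1, hg1P, hg1, hg116⟩ : ∃ g1 ∈ (P : Subgroup K), orderOf g1 = 3 ∧ 16 ≤ Nat.card ↥(fixSub ρ g1) := by
    obtain ⟨c, hc⟩ := MulAction.exists_smul_eq K Q P
    refine ⟨c * g * c⁻¹, ?_, by rw [← MulAut.conj_apply, MulEquiv.orderOf_eq, hg], by rwa [card_fix_conj]⟩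
    rw [← hc, Sylow.coe_subgroup_smul]
    exact conj_mem_cj (hQ (mem_zpowers g))
  set N := normalizer ((P : Subgroup K) : Set K)
  -- four divides the order of the normaliser
  have h36 : 2 ^ 2 ∣ Nat.card ↥N := by
    obtain ⟨hd, hmod, hgt, hfac⟩ := Basic.sylow_count (p := 3) hG (by rw [hK]; norm_num) (a := 2) (m := 40)
      (by rw [hK]; norm_num) (by norm_num)
    have hN : Nat.card ↥N * Nat.card (Sylow 3 K) = Nat.card K := Basic.card_normalizer_mul P
    rw [hK] at hN hfac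
    have key : ∀ n ∈ Nat.divisors 40, n % 3 = 1 → 1 < n → n = 4 ∨ n = 10 ∨ n = 40 := by decide
    rcases key _ (Nat.mem_divisors.2 ⟨hd, by norm_num⟩) hmod hgt with h' | h' | h' <;> rw [h'] at hN hfac
    · norm_num [Nat.factorial] at hfac
    · exact ⟨9, by omega⟩
    · exfalso
      refine Basic.not_normalizer_le_centralizer hG (by rw [hK]; norm_num) P fun n hn =>
        mem_centralizer_iff.2 fun a ha => hPc a ha n ?_
      have hNP : N = (P : Subgroup K) := (eq_of_le_of_card_ge le_normalizer ((show Nat.card ↥N ≤ 9 by omega).trans hP9.ge)).symm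
      exact hNP ▸ hn
  obtain ⟨R, hR⟩ := Sylow.exists_subgroup_card_pow_prime 2 h36
  -- involutions of the normaliser invert `P`
  have hinv : ∀ τ ∈ N, τ * τ = 1 → τ ≠ 1 → ∀ a ∈ (P : Subgroup K), τ * a * τ⁻¹ = a⁻¹ := by
    intro τ hτ hττ hτ1 a ha
    have hta : τ * a * τ⁻¹ ∈ (P : Subgroup K) := conj_mem hτ ha
    have hb : a * (τ * a * τ⁻¹) ∈ (P : Subgroup K) := mul_mem ha hta
    have hodd : Odd (orderOf (a * (τ * a * τ⁻¹))) :=
      (by decide : Odd 9).of_dvd_nat (hP9 ▸ (P : Subgroup K).orderOf_dvd_natCard hb)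
    refine eq_inv_of_mul_eq_one_right (L.two τ _ hτ1 hττ hodd ?_)
    have hτi : τ⁻¹ = τ := inv_eq_of_mul_eq_one_right hττ
    calc a * (τ * a * τ⁻¹) * τ = τ * a * τ⁻¹ * a * τ := by rw [hPc a ha _ hta]
      _ = τ * (a * (τ * a * τ⁻¹)) := by rw [hτi]; group
  -- an element of order four
  obtain ⟨u, hu, huu⟩ : ∃ u : ↥N, u ∈ R ∧ u * u ≠ 1 := by
    by_contra hcon
    push Not at hcon
    obtain ⟨r, hr, hr1⟩ : ∃ r ∈ R, r ≠ 1 := by
      by_contra h'
      push Not at h'
      rw [show R = ⊥ from eq_bot_iff.2 fun a ha => mem_bot.2 (h' a ha), card_bot] at hR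
      norm_num at hR
    have hle : R ≤ zpowers r := by
      intro s hs
      by_cases hs1 : s = 1
      · rw [hs1]; exact one_mem _
      have es := hinv s s.2 (congrArg Subtype.val (hcon s hs)) (fun h' => hs1 (Subtype.ext h')) h hhP
      have er := hinv r r.2 (congrArg Subtype.val (hcon r hr)) (fun h' => hr1 (Subtype.ext h')) h hhP
      have hsr : (((r⁻¹ * s : ↥N) : K)) ∈ centralizer ({h} : Set K) := mem_centralizer_one.2 (by
        have h1 : (s : K) * h * (s : K)⁻¹ = (r : K) * h * (r : K)⁻¹ := es.trans er.symm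
        calc h * ((r : K)⁻¹ * (s : K)) = (r : K)⁻¹ * ((r : K) * h * (r : K)⁻¹) * (s : K) := by group
          _ = (r : K)⁻¹ * ((s : K) * h * (s : K)⁻¹) * (s : K) := by rw [h1]
          _ = (r : K)⁻¹ * (s : K) * h := by group)
      rw [(Order360.centralizers hK).2.1 h hh P hhP] at hsr
      have h9 := (P : Subgroup K).orderOf_dvd_natCard hsr
      rw [hP9, orderOf_coe] at h9
      have h4 := R.orderOf_dvd_natCard (mul_mem (inv_mem hr) hs)
      rw [hR] at h4
      have h1 := Nat.dvd_gcd h4 h9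
      rw [show Nat.gcd (2 ^ 2) 9 = 1 by norm_num, Nat.dvd_one, orderOf_eq_one_iff, inv_mul_eq_one] at h1
      rw [← h1]
      exact mem_zpowers r
    have := card_le_of_le hle
    rw [hR, Nat.card_zpowers] at this
    have h2 : orderOf r ≤ 2 := orderOf_le_of_pow_eq_one two_pos (by rw [pow_two]; exact hcon r hr)
    omega
  have hu4 : u * u * (u * u) = 1 := by
    have h := R.orderOf_dvd_natCard hu
    rw [hR, orderOf_dvd_iff_pow_eq_one] at h
    rw [← h, show 2 ^ 2 = 4 by norm_num, pow_succ, pow_succ, pow_succ, pow_one, mul_assoc (u * u)]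
  set g2 := (u : K) * g1 * (u : K)⁻¹ with hg2
  have hg2P : g2 ∈ (P : Subgroup K) := conj_mem u.2 hg1P
  have hg2n : g2 ∉ zpowers g1 := by
    intro hm
    classical
    rw [mem_zpowers_iff_mem_range_orderOf, hg1, Finset.mem_image] at hm
    obtain ⟨i, hi, he⟩ := hm
    rw [Finset.mem_range] at hi
    have hτ := hinv ((u * u : ↥N) : K) (u * u).2 (congrArg Subtype.val hu4) (fun h' => huu (Subtype.ext h')) g1 hg1P
    have h1 : ((u * u : ↥N) : K) * g1 * ((u * u : ↥N) : K)⁻¹ = g1 ^ (i * i) := by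
      rw [show ((u * u : ↥N) : K) * g1 * ((u * u : ↥N) : K)⁻¹ = (u : K) * g2 * (u : K)⁻¹ by
        rw [hg2]; simp [mul_assoc], ← he, ← conj_pow, ← hg2, ← he, ← pow_mul]
    rw [h1, eq_inv_iff_mul_eq_one, ← pow_succ, ← orderOf_dvd_iff_pow_eq_one, hg1] at hτ
    interval_cases i <;> omega
  set F := fixSub ρ g1 ⊓ fixSub ρ g2
  have hPF : ∀ a ∈ F, ∀ k ∈ (P : Subgroup K), ρ k a = a := by
    rintro a ⟨h1, h2⟩ k hk
    set S0 := stabSub ρ a ⊓ (P : Subgroup K)
    have hz1 : zpowers g1 ≤ S0 := zpowers_le.2 ⟨h1, hg1P⟩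
    have hlt : 3 < Nat.card ↥S0 := by
      refine lt_of_le_of_ne (by simpa [Nat.card_zpowers, hg1] using card_le_of_le hz1) fun e' => hg2n ?_
      have := eq_of_le_of_card_ge hz1 (by rw [← e', Nat.card_zpowers, hg1])
      exact this.symm ▸ (⟨h2, hg2P⟩ : g2 ∈ S0)
    obtain ⟨i, hi, hc⟩ := (Nat.dvd_prime_pow Nat.prime_three).1
      (show Nat.card ↥S0 ∣ 3 ^ 2 from (card_dvd_of_le inf_le_right).trans (dvd_of_eq hP9))
    have hi2 : i = 2 := by interval_cases i <;> omega
    have := eq_of_le_of_card_ge (inf_le_right : S0 ≤ _) (by rw [hc, hi2, hP9]; norm_num)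
    exact (this.ge hk).1
  have hFe : ρ h e = e ∧ ∀ k ∈ (P : Subgroup K), ρ k e = e := by
    refine ⟨hhe, fun k hk => hPF e ?_ k hk⟩
    have hle : F ≤ fixSub ρ h := fun a ha => hPF a ha h hhP
    have hF4 : 4 ≤ Nat.card ↥F := by
      have i1 := X.card_mul (B := fixSub ρ g1)
      have i2 := X.card_mul (B := fixSub ρ g2)
      have i3 := X.card_mul (B := F)
      have i4 : F.index ≤ (fixSub ρ g1).index * (fixSub ρ g2).index := index_inf_le
      rw [hg2, card_fix_conj] at i2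
      rw [← hg2] at i2
      have j1 : (fixSub ρ g1).index ≤ 4 := by
        by_contra hj
        have := Nat.mul_le_mul hg116 (show 5 ≤ (fixSub ρ g1).index by omega)
        omega
      have j2 : (fixSub ρ g2).index ≤ 4 := by
        by_contra hj
        have := Nat.mul_le_mul hg116 (show 5 ≤ (fixSub ρ g2).index by omega)
        omega
      have j3 := i4.trans (Nat.mul_le_mul j1 j2)
      by_contra hj
      have := Nat.mul_le_mul (show Nat.card ↥F ≤ 3 by omega) j3
      omega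
    exact (eq_of_le_of_card_ge hle (hh4.trans hF4)).ge hhe
  refine hl.1 (X.eq_one_of_fixed L hno fun k => ?_)
  set H := stabSub ρ e
  have h72 : 72 ∣ Nat.card ↥H := Nat.Coprime.mul_dvd_of_dvd_of_dvd (m := 8) (n := 9) (by norm_num)
    (L.card ▸ card_dvd_of_le (fun t ht => X.fix_T L hf hl ht : (T : Subgroup K) ≤ H))
    (hP9 ▸ card_dvd_of_le (hFe.2 : (P : Subgroup K) ≤ H))
  have hi5 : H.index ≤ 5 := by
    have h := H.card_mul_index
    rw [hK] at h
    obtain ⟨m, hm⟩ := h72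
    rw [hm, mul_assoc] at h
    exact Nat.le_of_dvd (by norm_num) ⟨m, by rw [mul_comm]; omega⟩
  have : H = ⊤ := eq_top_of_index (by
    rw [hK]
    intro hd
    have := Nat.le_of_dvd (Nat.factorial_pos _) hd
    have h2 := Nat.factorial_le hi5
    norm_num [Nat.factorial] at h2
    omega)
  exact (this.ge (mem_top k) : k ∈ H)

/-- **No odd subgroup is transitive.** -/
theorem trans_false {J : Subgroup K} (hJ : Odd (Nat.card ↥J)) {B : Subgroup M} (h4 : 4 * Nat.card ↥B ≤ 64)
    (hfix : ∀ k ∈ J, ∀ b ∈ B, ρ k b = b) (htr : ∀ a, a ∉ B → ∀ b, b ∉ B → ∃ k ∈ J, ρ k a * b⁻¹ ∈ B) :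
    False := by
  have hB : B ≠ ⊤ := fun h => by rw [h, card_top, X.cardM] at h4; omega
  have hd := X.index_sub_one_dvd hfix htr hB
  have hdK : B.index - 1 ∣ Nat.card K := hd.trans (card_subgroup_dvd_card J)
  have hmul := X.card_mul (B := B)
  obtain ⟨i, hi, hBc⟩ := (Nat.dvd_prime_pow Nat.prime_two).1
    (show Nat.card ↥B ∣ 2 ^ 6 from ⟨_, (hmul.trans (by norm_num)).symm⟩)
  have hcases : (B.index = 4 ∧ Nat.card ↥B = 16) ∨ (B.index = 8 ∧ Nat.card ↥B = 8) ∨ B.index = 16 ∨
      B.index = 32 ∨ B.index = 64 := by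
    rw [hBc] at hmul h4 ⊢
    interval_cases i <;> omega
  have hg16 : Nat.card ↥B = 16 → ∀ g ∈ J, 16 ≤ Nat.card ↥(fixSub ρ g) := fun h g hg =>
    h.ge.trans (card_le_of_le (show B ≤ fixSub ρ g from fun b hb => hfix g hg b hb))
  have hthree : B.index = 4 → ∃ g ∈ J, orderOf g = 3 := fun h => by
    haveI : Fact (Nat.Prime 3) := ⟨Nat.prime_three⟩
    rw [h] at hd
    obtain ⟨g, hg⟩ := exists_prime_orderOf_dvd_card' 3 hd
    exact ⟨g, g.2, (orderOf_coe g).trans hg⟩
  by_cases h2 : ∃ H : Subgroup K, H.index = 2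
  · obtain ⟨H, hH⟩ := h2
    rcases L.card_of_index_two hH with h8 | ⟨h24, p, q, hf, h, h3, hp, hq⟩
    · rcases hcases with ⟨e, -⟩ | ⟨e, -⟩ | e | e | e <;> rw [e, h8] at hdK <;> norm_num at hdK
    · rcases hcases with ⟨e, hB16⟩ | ⟨e, -⟩ | e | e | e <;> rw [e, h24] at hdK <;> norm_num at hdK
      obtain ⟨l, hl⟩ := X.line p q hf
      obtain ⟨g, hgJ, hg⟩ := hthree e
      exact X.conj_false (by rw [h24]; norm_num) hg h3 (hg16 hB16 g hgJ) (X.fused_facts hf h3 hp hq hl).2.1
  push Not at h2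
  obtain ⟨hsimp, hcard, -⟩ := L.of_perfect h2
  haveI := hsimp
  obtain ⟨p, q, -, -, l, -, hf, -, hl, -, -⟩ := X.twoFours
  obtain ⟨h, hh, -, hh4, -⟩ := X.fused_data L h2 hf hl
  rcases hcases with ⟨e, hB16⟩ | ⟨e, hB8⟩ | e | e | e
  · obtain ⟨g, hgJ, hg⟩ := hthree e
    rcases hcard with hc | hc
    · exact X.conj_false (by rw [hc]; norm_num) hg hh (hg16 hB16 g hgJ) hh4
    · exact X.sixteen_false L h2 hc hg (hg16 hB16 g hgJ)
  · haveI : Fact (Nat.Prime 7) := ⟨by norm_num⟩
    rw [e] at hd hdK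
    rcases hcard with hc | hc
    · obtain ⟨g, hg⟩ := exists_prime_orderOf_dvd_card' 7 hd
      exact X.seven_false L h2 hc ((orderOf_coe g).trans hg) hB8 (hfix g g.2)
    · rw [hc] at hdK; norm_num at hdK
  · rw [e] at hd hdK
    rcases hcard with hc | hc
    · rw [hc] at hdK; norm_num at hdK
    · exact fifteen_false hc hJ hd
  · rcases hcard with hc | hc <;> rw [e, hc] at hdK <;> norm_num at hdK
  · rcases hcard with hc | hc <;> rw [e, hc] at hdK <;> norm_num at hdK

end Act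

end Cfsg.Agent.M24Type.AutTrans
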