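import Cfsg.Agent.Lib.M24Type.Tools
import Cfsg.Agent.Lib.Classical.CyclicExt
import Cfsg.Agent.Lib.Involutions.OrderFormula
import Cfsg.Agent.Lib.Involutions.ThompsonTransfer
import Cfsg.Agent.Lib.Coprime.Generation
import Cfsg.Agent.S0848

/-!
# Groups with dihedral Sylow 2-subgroups of order 8 and 2-groups as centralizers of involutions

Such a group has order 8, 24 (Thompson order formula), or is simple of order 168 or 360 (S0848); in the last two
cases every four-group has an automiser of order divisible by three.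
-/

set_option autoImplicit false
set_option linter.style.haveILetI false
set_option linter.unusedSectionVars false

open Subgroup

universe u

namespace Cfsg.Agent.M24Type.AutTrans

variable {K : Type u} [Group K] [Finite K]

/-- `p` and `q` generate a four-group of `T`. -/
structure IsFour (T : Subgroup K) (p q : K) : Prop where
  pT : p ∈ T
  qT : q ∈ T
  p1 : p ≠ 1
  q1 : q ≠ 1
  ne : p ≠ q
  pp : p * p = 1
  qq : q * q = 1
  comm : p * q = q * p

/-- The hypotheses. -/
structure Local (T : Sylow 2 K) : Prop where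
  card : Nat.card ↥(T : Subgroup K) = 8
  nc : ∃ a ∈ (T : Subgroup K), ∃ b ∈ (T : Subgroup K), a * b ≠ b * a
  four : ∃ p q, IsFour (T : Subgroup K) p q
  two : ∀ x k : K, x ≠ 1 → x * x = 1 → Odd (orderOf k) → k * x = x * k → k = 1

/-- The consequences of `T` being dihedral of order 8, with `z` its central involution. -/
structure IsCenter (T : Subgroup K) (z : K) : Prop where
  zT : z ∈ T
  z1 : z ≠ 1
  zz : z * z = 1
  comm : ∀ a ∈ T, a * z = z * a
  derived : ∀ a ∈ T, ∀ b ∈ T, a * b * a⁻¹ * b⁻¹ = 1 ∨ a * b * a⁻¹ * b⁻¹ = z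
  uniq : ∀ a ∈ T, (∀ b ∈ T, a * b = b * a) → a = 1 ∨ a = z
  inFour : ∀ p q, IsFour T p q → z = p ∨ z = q ∨ z = p * q
  other : ∀ p ∈ T, p * p = 1 → p ≠ 1 → p ≠ z → ∃ q ∈ T, q * q = 1 ∧ q ≠ 1 ∧ q ≠ z ∧ q ≠ p ∧ q ≠ p * z ∧
    p * q * p⁻¹ = q * z ∧ ∀ r ∈ T, r * r = 1 → r = 1 ∨ r = z ∨ r = p ∨ r = p * z ∨ r = q ∨ r = q * z

theorem dihedral_facts :
    (∀ a b : DihedralGroup 4, a * b * a⁻¹ * b⁻¹ = 1 ∨ a * b * a⁻¹ * b⁻¹ = .r 2) ∧
    (∀ a : DihedralGroup 4, (∀ b, a * b = b * a) → a = 1 ∨ a = .r 2) ∧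
    (∀ p q : DihedralGroup 4, p ≠ 1 → q ≠ 1 → p ≠ q → p * p = 1 → q * q = 1 → p * q = q * p →
      .r 2 = p ∨ .r 2 = q ∨ .r 2 = p * q) ∧
    (∀ p : DihedralGroup 4, p * p = 1 → p ≠ 1 → p ≠ .r 2 → ∃ q, q * q = 1 ∧ q ≠ 1 ∧ q ≠ .r 2 ∧ q ≠ p ∧
      q ≠ p * .r 2 ∧ p * q * p⁻¹ = q * .r 2 ∧ ∀ r : DihedralGroup 4, r * r = 1 →
        r = 1 ∨ r = .r 2 ∨ r = p ∨ r = p * .r 2 ∨ r = q ∨ r = q * .r 2) ∧
    (DihedralGroup.r 2 : DihedralGroup 4) ≠ 1 ∧ (.r 2 * .r 2 : DihedralGroup 4) = 1 ∧
    (∀ a : DihedralGroup 4, a * .r 2 = .r 2 * a) := by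
  refine ⟨?_, ?_, ?_, ?_, ?_, ?_, ?_⟩ <;> decide +kernel

namespace Local

variable {T : Sylow 2 K} (L : Local T)

include L

theorem equiv_dihedral : Nonempty (↥(T : Subgroup K) ≃* DihedralGroup 4) := by
  haveI : Fact (Nat.Prime 2) := ⟨Nat.prime_two⟩
  obtain ⟨a0, ha0, b0, hb0, hab⟩ := L.nc
  obtain ⟨p, q, hf⟩ := L.four
  -- an element of order four
  obtain ⟨u, huu⟩ : ∃ u : ↥(T : Subgroup K), u * u ≠ 1 := by
    by_contra h
    push Not at h
    have hinv : ∀ a : ↥(T : Subgroup K), a⁻¹ = a := fun a => inv_eq_of_mul_eq_one_right (h a)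
    refine hab (congrArg Subtype.val (show (⟨a0, ha0⟩ : ↥(T : Subgroup K)) * ⟨b0, hb0⟩ = ⟨b0, hb0⟩ * ⟨a0, ha0⟩ from ?_))
    rw [← hinv (⟨a0, ha0⟩ * ⟨b0, hb0⟩), mul_inv_rev, hinv, hinv]
  have hdvd : orderOf u ∣ 2 ^ 3 := by
    have := orderOf_dvd_natCard u
    rwa [L.card] at this
  obtain ⟨i, hi, hou⟩ := (Nat.dvd_prime_pow Nat.prime_two).1 hdvd
  have hi2 : i = 2 := by
    interval_cases i
    · exfalso; apply huu; rw [pow_zero, orderOf_eq_one_iff] at hou; rw [hou, one_mul]
    · exfalso; apply huu; rw [pow_one] at hou; rw [← pow_two]; exact orderOf_dvd_iff_pow_eq_one.1 hou.dvd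
    · rfl
    · exfalso
      apply hab
      have htop : zpowers u = ⊤ := eq_top_of_card_eq _ (by rw [Nat.card_zpowers, hou, L.card]; norm_num)
      obtain ⟨j, hj⟩ := mem_zpowers_iff.1 (htop ▸ mem_top (⟨a0, ha0⟩ : ↥(T : Subgroup K)))
      obtain ⟨l, hl⟩ := mem_zpowers_iff.1 (htop ▸ mem_top (⟨b0, hb0⟩ : ↥(T : Subgroup K)))
      have h : (⟨a0, ha0⟩ : ↥(T : Subgroup K)) * ⟨b0, hb0⟩ = ⟨b0, hb0⟩ * ⟨a0, ha0⟩ := by
        rw [← hj, ← hl, ← zpow_add, ← zpow_add, add_comm]
      exact congrArg Subtype.val h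
  subst hi2
  have hou4 : orderOf u = 4 := by rw [hou]; norm_num
  -- an involution outside `⟨u⟩`
  have hinv2 : ∀ x : ↥(T : Subgroup K), x * x = 1 → x ∈ zpowers u → x = 1 ∨ x = u ^ 2 := by
    intro x hx hxu
    classical
    rw [mem_zpowers_iff_mem_range_orderOf, hou4, Finset.mem_image] at hxu
    obtain ⟨j, hj, rfl⟩ := hxu
    rw [Finset.mem_range] at hj
    interval_cases j
    · left; exact pow_zero u
    · exact absurd (by simpa using hx) huu
    · right; rfl
    · exfalso
      apply huu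
      have h4 : u ^ 4 = 1 := hou4 ▸ pow_orderOf_eq_one u
      calc u * u = u ^ 2 := (pow_two u).symm
        _ = u ^ 3 * u ^ 3 * (u ^ 4)⁻¹ := by group
        _ = 1 := by rw [hx, h4]; simp
  obtain ⟨x, hxx, hxu⟩ : ∃ x : ↥(T : Subgroup K), x * x = 1 ∧ x ∉ zpowers u := by
    by_contra h
    push Not at h
    have h1 := hinv2 ⟨p, hf.pT⟩ (Subtype.ext hf.pp) (h _ (Subtype.ext hf.pp))
    have h2 := hinv2 ⟨q, hf.qT⟩ (Subtype.ext hf.qq) (h _ (Subtype.ext hf.qq))
    rcases h1 with h1 | h1
    · exact hf.p1 (congrArg Subtype.val h1)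
    rcases h2 with h2 | h2
    · exact hf.q1 (congrArg Subtype.val h2)
    exact hf.ne (congrArg Subtype.val (h1.trans h2.symm))
  have hcard4 : Nat.card ↥(zpowers u) = 4 := by rw [Nat.card_zpowers, hou4]
  have hidx : (zpowers u).index = 2 := by
    have := card_mul_index (zpowers u)
    rw [hcard4, L.card] at this
    omega
  haveI : (zpowers u).Normal := normal_of_index_eq_two hidx
  have hxux : x * u * x⁻¹ = u⁻¹ := by
    have hm : x * u * x⁻¹ ∈ zpowers u := (inferInstance : (zpowers u).Normal).conj_mem u (mem_zpowers u) x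
    classical
    rw [mem_zpowers_iff_mem_range_orderOf, hou4, Finset.mem_image] at hm
    obtain ⟨j, hj, he⟩ := hm
    rw [Finset.mem_range] at hj
    have ho : orderOf (u ^ j) = 4 := by rw [he, ← MulAut.conj_apply, MulEquiv.orderOf_eq]; exact hou4
    interval_cases j
    · simp at ho
    · exfalso
      rw [pow_one] at he
      have hcomm : Commute x u := by
        rw [commute_iff_eq]
        calc x * u = x * u * x⁻¹ * x := by group
          _ = u * x := by rw [← he]
      have hall : ∀ a : ↥(T : Subgroup K), ∃ j : ℤ, a = u ^ j ∨ a = u ^ j * x := by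
        intro a
        by_cases ha : a ∈ zpowers u
        · obtain ⟨j, hj⟩ := mem_zpowers_iff.1 ha; exact ⟨j, Or.inl hj.symm⟩
        · have := (mul_mem_iff_of_index_two hidx (a := a) (b := x)).2 (by simp [ha, hxu])
          obtain ⟨j, hj⟩ := mem_zpowers_iff.1 this
          exact ⟨j, Or.inr (by rw [hj, mul_assoc, hxx, mul_one])⟩
      have hc : ∀ a b : ↥(T : Subgroup K), Commute a b := by
        intro a b
        obtain ⟨j, hj⟩ := hall a
        obtain ⟨l, hl⟩ := hall b
        have h1 : Commute (u ^ j) x := (hcomm.symm.zpow_left j)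
        have h2 : Commute (u ^ l) x := (hcomm.symm.zpow_left l)
        have h3 : Commute (u ^ j) (u ^ l) := Commute.zpow_zpow_self u j l
        rcases hj with rfl | rfl <;> rcases hl with rfl | rfl
        · exact h3
        · exact h3.mul_right h1
        · exact h3.mul_left h2.symm
        · exact (h3.mul_right h1).mul_left (h2.symm.mul_right (Commute.refl x))
      exact hab (congrArg Subtype.val (hc ⟨a0, ha0⟩ ⟨b0, hb0⟩).eq)
    · have h2 : (u ^ 2) ^ 2 = 1 := by rw [← pow_mul, show 2 * 2 = orderOf u by rw [hou4]]; exact pow_orderOf_eq_one u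
      have := orderOf_dvd_of_pow_eq_one h2
      rw [ho] at this
      omega
    · rw [← he]
      exact eq_inv_of_mul_eq_one_left (by rw [← pow_succ, show 3 + 1 = orderOf u by rw [hou4]]; exact pow_orderOf_eq_one u)
  obtain ⟨f, hf', -, -⟩ := Classical.CyclicExt.exists_dihedral_hom u x hou4 hxx hxux hxu
  have hbij : Function.Bijective f :=
    (Nat.bijective_iff_injective_and_card f).mpr ⟨hf', by rw [DihedralGroup.nat_card, L.card]⟩
  exact ⟨(MulEquiv.ofBijective f hbij).symm⟩

theorem exists_center : ∃ z, IsCenter (T : Subgroup K) z := by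
  obtain ⟨e⟩ := L.equiv_dihedral
  obtain ⟨h1, h2, h3, h4, h5, h6, h7⟩ := dihedral_facts
  set zt := e.symm (.r 2) with hzt
  have ez : e zt = .r 2 := e.apply_symm_apply _
  refine ⟨zt, zt.2, fun h => h5 ?_, ?_, fun a ha => ?_, fun a ha b hb => ?_, fun a ha hab => ?_,
    fun p q hf => ?_, fun p hp hpp hp1 hpz => ?_⟩
  · rw [← ez, show zt = 1 from Subtype.ext h, map_one]
  · exact congrArg Subtype.val (e.injective (show e (zt * zt) = e 1 by rw [map_mul, ez, h6, map_one]))
  · exact congrArg Subtype.val (e.injective (show e (⟨a, ha⟩ * zt) = e (zt * ⟨a, ha⟩) by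
      rw [map_mul, map_mul, ez, h7]))
  · set w : ↥(T : Subgroup K) := ⟨a, ha⟩ * ⟨b, hb⟩ * (⟨a, ha⟩ : ↥(T : Subgroup K))⁻¹ * (⟨b, hb⟩ : ↥(T : Subgroup K))⁻¹
    have hw : e w = e ⟨a, ha⟩ * e ⟨b, hb⟩ * (e ⟨a, ha⟩)⁻¹ * (e ⟨b, hb⟩)⁻¹ := by simp only [w, map_mul, map_inv]
    rcases h1 (e ⟨a, ha⟩) (e ⟨b, hb⟩) with h | h
    · exact Or.inl (congrArg Subtype.val (e.injective (hw.trans (h.trans (map_one e).symm)) : w = 1))
    · exact Or.inr (congrArg Subtype.val (e.injective (hw.trans (h.trans ez.symm)) : w = zt))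
  · rcases h2 (e ⟨a, ha⟩) (fun b => e.symm.injective (Subtype.ext (by simpa using hab _ (e.symm b).2))) with h | h
    · exact Or.inl (congrArg Subtype.val (e.injective (h.trans (map_one e).symm)))
    · exact Or.inr (congrArg Subtype.val (e.injective (h.trans ez.symm)))
  · have h := h3 (e ⟨p, hf.pT⟩) (e ⟨q, hf.qT⟩)
      (fun h => hf.p1 (congrArg Subtype.val ((MulEquiv.map_eq_one_iff e).1 h)))
      (fun h => hf.q1 (congrArg Subtype.val ((MulEquiv.map_eq_one_iff e).1 h)))
      (fun h => hf.ne (congrArg Subtype.val (e.injective h)))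
      (by rw [← map_mul, MulEquiv.map_eq_one_iff]; exact Subtype.ext hf.pp)
      (by rw [← map_mul, MulEquiv.map_eq_one_iff]; exact Subtype.ext hf.qq)
      (by rw [← map_mul, ← map_mul]; exact congrArg e (Subtype.ext hf.comm))
    rw [← ez, ← map_mul] at h
    rcases h with h | h | h
    · exact Or.inl (congrArg Subtype.val (e.injective h))
    · exact Or.inr (Or.inl (congrArg Subtype.val (e.injective h)))
    · exact Or.inr (Or.inr (congrArg Subtype.val (e.injective h)))
  · set p' : ↥(T : Subgroup K) := ⟨p, hp⟩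
    obtain ⟨q0, a1, a2, a3, a4, a5, a6, a7⟩ := h4 (e p')
      (by rw [← map_mul, MulEquiv.map_eq_one_iff]; exact Subtype.ext hpp)
      (fun h => hp1 (congrArg Subtype.val ((MulEquiv.map_eq_one_iff e).1 h)))
      (fun h => hpz (congrArg Subtype.val (e.injective (h.trans ez.symm))))
    obtain ⟨q, rfl⟩ := e.surjective q0
    rw [← ez] at a3 a5 a6 a7
    simp only [← map_mul, ← map_inv, MulEquiv.map_eq_one_iff, e.injective.eq_iff, ne_eq] at a1 a2 a3 a4 a5 a6
    refine ⟨q, q.2, congrArg Subtype.val a1, fun h => a2 (Subtype.ext h), fun h => a3 (Subtype.ext h),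
      fun h => a4 (Subtype.ext h), fun h => a5 (Subtype.ext h), congrArg Subtype.val a6, fun r hr hrr => ?_⟩
    have hr2 : e ⟨r, hr⟩ * e ⟨r, hr⟩ = 1 := by
      rw [← map_mul, MulEquiv.map_eq_one_iff]; exact Subtype.ext hrr
    have a8 := a7 _ hr2
    simp only [← map_mul, MulEquiv.map_eq_one_iff, e.injective.eq_iff] at a8
    rcases a8 with a8 | a8 | a8 | a8 | a8 | a8
    · exact Or.inl (congrArg Subtype.val a8)
    · exact Or.inr (Or.inl (congrArg Subtype.val a8))
    · exact Or.inr (Or.inr (Or.inl (congrArg Subtype.val a8)))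
    · exact Or.inr (Or.inr (Or.inr (Or.inl (congrArg Subtype.val a8))))
    · exact Or.inr (Or.inr (Or.inr (Or.inr (Or.inl (congrArg Subtype.val a8)))))
    · exact Or.inr (Or.inr (Or.inr (Or.inr (Or.inr (congrArg Subtype.val a8)))))

theorem pow_parts (k : K) : ∃ j, ∀ x, x ≠ 1 → x * x = 1 → k * x = x * k → k ^ 2 ^ j = 1 := by
  obtain ⟨j, m, hm, h⟩ := Agent.SEAbelian.exists_parts k
  refine ⟨j, fun x hx1 hxx hc => L.two x _ hx1 hxx
    (Agent.SEAbelian.odd_orderOf_of_pow hm (by rw [← pow_mul, h])) ?_⟩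
  exact (Commute.pow_left (show Commute k x from hc) _).eq

/-- Centralizers of involutions are 2-groups. -/
theorem isPGroup_cent {x : K} (hx1 : x ≠ 1) (hxx : x * x = 1) :
    IsPGroup 2 ↥(centralizer ({x} : Set K)) := fun k => by
  obtain ⟨j, hj⟩ := L.pow_parts (k : K)
  exact ⟨j, Subtype.ext (hj x hx1 hxx (mem_centralizer_one.1 k.2).symm)⟩

theorem card_le_eight {Q : Subgroup K} (hQ : IsPGroup 2 Q) : Nat.card ↥Q ∣ 8 := by
  haveI : Fact (Nat.Prime 2) := ⟨Nat.prime_two⟩
  obtain ⟨T', hT'⟩ := hQ.exists_le_sylow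
  rw [← L.card, ← Nat.card_congr (T'.equiv T).toEquiv]
  exact card_dvd_of_le hT'

theorem cent_center {z : K} (hz : IsCenter (T : Subgroup K) z) :
    centralizer ({z} : Set K) = (T : Subgroup K) :=
  (eq_of_le_of_card_ge (fun t ht => mem_centralizer_one.2 (hz.comm t ht).symm)
    (L.card ▸ Nat.le_of_dvd (by norm_num) (L.card_le_eight (L.isPGroup_cent hz.z1 hz.zz)))).symm

/-- An element of odd order permuting a four-group. -/
theorem rot {p q h : K} (hf : p ≠ 1 ∧ q ≠ 1 ∧ p ≠ q ∧ p * p = 1 ∧ q * q = 1 ∧ p * q = q * p)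
    (hh : h ≠ 1) (ho : Odd (orderOf h))
    (hperm : ∀ v, (v = p ∨ v = q ∨ v = p * q) →
      h * v * h⁻¹ = p ∨ h * v * h⁻¹ = q ∨ h * v * h⁻¹ = p * q) :
    orderOf h = 3 ∧ ((h * p * h⁻¹ = q ∧ h * q * h⁻¹ = p * q) ∨
      (h * p * h⁻¹ = p * q ∧ h * (p * q) * h⁻¹ = q)) := by
  obtain ⟨hp1, hq1, hpq, hpp, hqq, hc⟩ := hf
  have hpq1 : p * q ≠ 1 := fun e => hpq (by rw [← inv_eq_of_mul_eq_one_right hpp,
    ← inv_eq_of_mul_eq_one_right e])
  have hpqq : p * q * (p * q) = 1 := by
    rw [mul_assoc, ← mul_assoc q p q, ← hc, mul_assoc p q q, hqq, mul_one, hpp]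
  have fixfree : ∀ v, (v = p ∨ v = q ∨ v = p * q) → h * v * h⁻¹ ≠ v := by
    intro v hv e
    refine hh (L.two v h ?_ ?_ ho (conj_eq_iff.1 e))
    · rcases hv with rfl | rfl | rfl <;> assumption
    · rcases hv with rfl | rfl | rfl <;> assumption
  have inj : ∀ v w, h * v * h⁻¹ = h * w * h⁻¹ → v = w := fun v w e => (MulAut.conj h).injective e
  have n1 : p ≠ p * q := fun e => hq1 (mul_eq_left.1 e.symm)
  have n2 : q ≠ p * q := fun e => hp1 (mul_eq_right.1 e.symm)
  have hcube : ∀ v w r, h * v * h⁻¹ = w → h * w * h⁻¹ = r → h * r * h⁻¹ = v → v ≠ 1 → v * v = 1 →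
      orderOf h = 3 := by
    intro v w r e1 e2 e3 hv1 hvv
    have hfix : h ^ 3 * v * (h ^ 3)⁻¹ = v := by
      rw [show h ^ 3 = h * h * h by simp [pow_succ], show h * h * h * v * (h * h * h)⁻¹ = h * (h * (h * v * h⁻¹) * h⁻¹) * h⁻¹ by group, e1, e2, e3]
    have h3 : h ^ 3 = 1 := L.two v _ hv1 hvv (ho.of_dvd_nat (orderOf_pow_dvd (x := h) 3)) (conj_eq_iff.1 hfix)
    exact ((Nat.dvd_prime Nat.prime_three).1 (orderOf_dvd_of_pow_eq_one h3)).resolve_left
      fun e => hh (orderOf_eq_one_iff.1 e)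
  have hP := hperm p (Or.inl rfl)
  have hQ := hperm q (Or.inr (Or.inl rfl))
  have hR := hperm (p * q) (Or.inr (Or.inr rfl))
  have fp := fixfree p (Or.inl rfl)
  have fq := fixfree q (Or.inr (Or.inl rfl))
  have fr := fixfree (p * q) (Or.inr (Or.inr rfl))
  rcases hP with eP | eP | eP
  · exact absurd eP fp
  · -- `p ↦ q`
    have eQ : h * q * h⁻¹ = p * q := by
      rcases hQ with e | e | e
      · exfalso
        rcases hR with e' | e' | e'
        · exact n2 (inj _ _ (e.trans e'.symm))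
        · exact n1 (inj _ _ (eP.trans e'.symm))
        · exact fr e'
      · exact absurd e fq
      · exact e
    refine ⟨hcube p q (p * q) eP eQ ?_ hp1 hpp, Or.inl ⟨eP, eQ⟩⟩
    rcases hR with e' | e' | e'
    · exact e'
    · exact absurd (inj _ _ (eP.trans e'.symm)) n1
    · exact absurd e' fr
  · -- `p ↦ p q`
    have eR : h * (p * q) * h⁻¹ = q := by
      rcases hR with e | e | e
      · exfalso
        rcases hQ with e' | e' | e'
        · exact n2 (inj _ _ (e'.trans e.symm))
        · exact fq e'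
        · exact hpq (inj _ _ (eP.trans e'.symm))
      · exact e
      · exact absurd e fr
    refine ⟨hcube p (p * q) q eP eR ?_ hp1 hpp, Or.inr ⟨eP, eR⟩⟩
    rcases hQ with e' | e' | e'
    · exact e'
    · exact absurd e' fq
    · exact absurd (inj _ _ (eP.trans e'.symm)) hpq

end Local

/-- `p` and `q` generate a four-group of `T` normalized by an element of order three. -/
def Fused (T : Subgroup K) (p q : K) : Prop :=
  IsFour T p q ∧ ∃ h : K, orderOf h = 3 ∧ h * p * h⁻¹ = q ∧ h * q * h⁻¹ = p * q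

/-- The subgroup `⟨v, w⟩` of two commuting involutions. -/
theorem exists_kl {v w : K} (hv1 : v ≠ 1) (hw1 : w ≠ 1) (hne : v ≠ w) (hvv : v * v = 1) (hww : w * w = 1)
    (hc : v * w = w * v) :
    ∃ V : Subgroup K, Nat.card ↥V = 4 ∧ v ∈ V ∧ w ∈ V ∧ ∀ k, k ∈ V → k = 1 ∨ k = v ∨ k = w ∨ k = v * w := by
  have hn : v ∈ normalizer ((⊥ : Subgroup K) : Set K) :=
    mem_normalizer_of_conj fun x hx => by rw [mem_bot] at hx ⊢; simp [hx]
  set Q := adj ⊥ v (by rw [hvv]; exact one_mem _) hn
  have hQ : ∀ k ∈ Q, k = 1 ∨ k = v := fun k hk => hk.elim (fun h => Or.inl (mem_bot.1 h)) fun h =>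
    Or.inr (by rw [← inv_eq_of_mul_eq_one_left (mem_bot.1 h), inv_eq_of_mul_eq_one_right hvv])
  have hwn : w ∈ normalizer (Q : Set K) := mem_normalizer_of_conj fun k hk => by
    rcases hQ k hk with rfl | rfl
    · simp
    · rwa [conj_eq_iff.2 hc.symm]
  have hwQ : w ∉ Q := fun h => (hQ w h).elim hw1 fun e => hne e.symm
  have hvQ : v ∈ Q := self_mem_adj
  refine ⟨adj Q w (by rw [hww]; exact one_mem _) hwn, ?_, le_adj hvQ, self_mem_adj, fun k hk => ?_⟩
  · rw [card_adj hwQ, card_adj (fun h => hv1 (mem_bot.1 h)), card_bot]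
  · have hkw : k = k * w * w := by rw [mul_assoc, hww, mul_one]
    rcases hk with h | h
    · rcases hQ k h with h | h <;> simp [h]
    · rcases hQ _ h with h | h
      · rw [h, one_mul] at hkw; simp [hkw]
      · rw [h] at hkw; simp [hkw]

namespace Local

variable {T : Sylow 2 K} (L : Local T)

include L

theorem eq_bot_of_odd (N : Subgroup K) [hN : N.Normal] (hodd : Odd (Nat.card ↥N)) : N = ⊥ := by
  obtain ⟨p, q, hf⟩ := L.four
  obtain ⟨V, hV4, hpV, hqV, hVm⟩ := exists_kl hf.p1 hf.q1 hf.ne hf.pp hf.qq hf.comm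
  have hV2 : ∀ k ∈ V, k * k = 1 := fun k hk => by
    rcases hVm k hk with rfl | rfl | rfl | rfl
    · exact one_mul 1
    · exact hf.pp
    · exact hf.qq
    · rw [mul_assoc, ← mul_assoc q p q, ← hf.comm, mul_assoc p q q, hf.qq, mul_one, hf.pp]
  haveI : IsMulCommutative ↥V := ⟨⟨fun a b => Subtype.ext (by
    have h := hV2 _ (mul_mem a.2 b.2)
    calc (a : K) * b = ((a : K) * b)⁻¹ := (inv_eq_of_mul_eq_one_right h).symm
      _ = b * a := by
        rw [mul_inv_rev, inv_eq_of_mul_eq_one_right (hV2 _ a.2), inv_eq_of_mul_eq_one_right (hV2 _ b.2)])⟩⟩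
  have hnc : ¬ IsCyclic ↥V := fun hc => by
    obtain ⟨g, hg⟩ := hc.exists_generator
    have htop : zpowers g = ⊤ := eq_top_iff.2 fun x _ => hg x
    have h := Nat.card_zpowers g
    rw [htop, card_top, hV4] at h
    have h2 : orderOf g ∣ 2 := orderOf_dvd_of_pow_eq_one (Subtype.ext (by
      simp only [pow_two, Subgroup.coe_one]; exact hV2 _ g.2))
    have := Nat.le_of_dvd (by norm_num) h2
    omega
  refine eq_bot_iff.2 ((Coprime.fixedGen_eq (A := V) hnc
    (fun v _ => by rw [normalizer_eq_top_iff.2 hN]; exact mem_top v)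
    (hV4 ▸ (Nat.coprime_pow_left_iff (n := 2) (by norm_num) 2 _).2 (Nat.coprime_two_left.2 hodd))).ge.trans
    (iSup₂_le fun v hv k hk => mem_bot.2 (L.two v k hv.2 (hV2 v hv.1)
      (hodd.of_dvd_nat (N.orderOf_dvd_natCard hk.1)) (mem_centralizer_one.1 hk.2).symm)))

/-- The Sylow subgroup is self-normalizing. -/
theorem mem_of_normalizer {n : K} (hn : n ∈ normalizer ((T : Subgroup K) : Set K)) : n ∈ (T : Subgroup K) := by
  obtain ⟨z, hz⟩ := L.exists_center
  have hfix : n * z * n⁻¹ = z := by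
    rcases hz.uniq _ (conj_mem hn hz.zT) (fun b hb => by
      have hb' : n⁻¹ * b * n⁻¹⁻¹ ∈ (T : Subgroup K) := conj_mem (inv_mem hn) hb
      have h := hz.comm _ hb'
      calc n * z * n⁻¹ * b = n * (z * (n⁻¹ * b * n⁻¹⁻¹)) * n⁻¹ := by group
        _ = b * (n * z * n⁻¹) := by rw [← h]; group) with h | h
    · exact absurd ((MulAut.conj n).injective (h.trans (map_one (MulAut.conj n)).symm)) hz.z1
    · exact h
  rw [← L.cent_center hz]
  exact mem_centralizer_one.2 (conj_eq_iff.1 hfix).symm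

/-- There is a subgroup of index two, or the group is perfect. -/
theorem perfect (hno : ∀ H : Subgroup K, H.index ≠ 2) : _root_.commutator K = ⊤ := by
  haveI : Fact (Nat.Prime 2) := ⟨Nat.prime_two⟩
  by_contra hne
  set D := _root_.commutator K
  haveI hn : (D ⊔ (T : Subgroup K)).Normal := Normal.of_commutator_le _ le_sup_left
  have htop : D ⊔ (T : Subgroup K) = ⊤ := by
    have hle : (T : Subgroup K) ≤ D ⊔ (T : Subgroup K) := le_sup_right
    have h := Sylow.normalizer_sup_eq_top (T.subtype hle)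
    rw [Sylow.coe_subtype, map_subgroupOf_eq_of_le hle] at h
    refine eq_top_iff.2 (h.ge.trans (sup_le (fun n hn => hle (L.mem_of_normalizer hn)) le_rfl))
  haveI : D.Normal := inferInstance
  have hq : IsPGroup 2 (K ⧸ D) := by
    intro x
    obtain ⟨k, rfl⟩ := QuotientGroup.mk'_surjective D x
    obtain ⟨d, hd, t, ht, rfl⟩ := (Coprime.mem_sup_of_le_normalizer (N := D) (H := (T : Subgroup K))
      (by rw [normalizer_eq_top_iff.2 (inferInstance : D.Normal)]; exact le_top)).1 (htop ▸ mem_top k)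
    refine ⟨3, ?_⟩
    rw [map_mul, (show QuotientGroup.mk' D d = 1 from (QuotientGroup.eq_one_iff d).2 hd), one_mul, ← map_pow]
    have : t ^ 2 ^ 3 = 1 := by
      have := (T : Subgroup K).orderOf_dvd_natCard ht
      rw [L.card] at this
      exact orderOf_dvd_iff_pow_eq_one.1 this
    rw [this, map_one]
  obtain ⟨n, hn2⟩ := hq.exists_card_eq
  have hn0 : n ≠ 0 := fun h => hne (index_eq_one.1 (by rw [index_eq_card, hn2, h, pow_zero]))
  obtain ⟨m, rfl⟩ := Nat.exists_eq_succ_of_ne_zero hn0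
  obtain ⟨H, hH⟩ := Sylow.exists_subgroup_card_pow_prime (G := K ⧸ D) 2 (n := m) (by
    rw [hn2]; exact pow_dvd_pow 2 (Nat.le_succ m))
  refine hno (H.comap (QuotientGroup.mk' D)) ?_
  rw [index_comap_of_surjective _ (QuotientGroup.mk'_surjective D)]
  have h := H.card_mul_index
  rw [hH, hn2, pow_succ] at h
  exact Nat.eq_of_mul_eq_mul_left (by positivity) h

/-- With a subgroup of index two the order is 8 or 24. -/
theorem card_of_index_two {K1 : Subgroup K} (hK1 : K1.index = 2) :
    Nat.card K = 8 ∨ (Nat.card K = 24 ∧ ∃ p q, Fused (T : Subgroup K) p q) := by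
  haveI : Fact (Nat.Prime 2) := ⟨Nat.prime_two⟩
  haveI hK1n : K1.Normal := normal_of_index_eq_two hK1
  obtain ⟨z, hz⟩ := L.exists_center
  set T1 := (T : Subgroup K) ⊓ K1
  have hrel : K1.relIndex (T : Subgroup K) = 2 := by
    have h1 : K1.relIndex (T : Subgroup K) ∣ 2 := (relIndex_dvd_index_of_normal K1 (T : Subgroup K)).trans (dvd_of_eq hK1)
    refine ((Nat.dvd_prime Nat.prime_two).1 h1).resolve_left fun h => ?_
    have h' := relIndex_eq_one.1 h
    have h2 : 2 ∣ (T : Subgroup K).index := (dvd_of_eq hK1.symm).trans (index_dvd_of_le h')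
    exact T.not_dvd_index h2
  have hT1c : Nat.card ↥T1 = 4 := by
    have h := card_mul_index (K1.subgroupOf (T : Subgroup K))
    rw [show (K1.subgroupOf (T : Subgroup K)).index = 2 from hrel, L.card] at h
    rw [show Nat.card ↥(K1.subgroupOf (T : Subgroup K)) = Nat.card ↥T1 from
      Nat.card_congr ((equivMapOfInjective _ _ (T : Subgroup K).subtype_injective).trans
        (MulEquiv.subgroupCongr (subgroupOf_map_subtype K1 (T : Subgroup K) |>.trans (inf_comm _ _)))).toEquiv] at h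
    omega
  have hsyl : IsSylIn T1 K1 := by
    refine ⟨inf_le_right, T.2.to_le inf_le_left, ?_⟩
    have h1 : Odd (T : Subgroup K).index := Nat.odd_iff.2 (Nat.two_dvd_ne_zero.1 T.not_dvd_index)
    have h := relIndex_mul_index (show T1 ≤ K1 from inf_le_right)
    have h3 := relIndex_mul_index (show T1 ≤ (T : Subgroup K) from inf_le_left)
    have h4 : T1.relIndex (T : Subgroup K) = 2 := by rw [inf_relIndex_left]; exact hrel
    rw [hK1] at h
    rw [h4] at h3
    have : T1.relIndex K1 = (T : Subgroup K).index := by omega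
    rwa [this]
  by_cases hh : ∃ h ∈ K1, h ∈ normalizer (T1 : Set K) ∧ Odd (orderOf h) ∧ h ≠ 1
  swap
  · left
    push Not at hh
    have hN : ∀ n ∈ K1, n ∈ normalizer (T1 : Set K) → ∀ a ∈ T1, n * a = a * n := by
      intro n hn hnn a ha
      obtain ⟨j, m, hm, hjm⟩ := Agent.SEAbelian.exists_parts n
      have h1 : n ^ 2 ^ j = 1 := hh _ (pow_mem hn _) (pow_mem hnn _)
        (Agent.SEAbelian.odd_orderOf_of_pow hm (by rw [← pow_mul, hjm]))
      haveI : IsMulCommutative ↥T1 := IsPGroup.isMulCommutative_of_card_eq_prime_sq (p := 2) (by rw [hT1c]; norm_num)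
      exact congrArg Subtype.val (IsMulCommutative.is_comm.comm
        (⟨n, hsyl.mem_of_normalizer hn hnn h1⟩ : ↥T1) ⟨a, ha⟩)
    haveI : (Walter.Core.coreOf K1).Normal := ⟨fun o ho g => conj_core_le (X := K1) (X' := K1) (fun k => by
      refine ⟨fun h => hK1n.conj_mem k h g, fun h => ?_⟩
      have := hK1n.conj_mem _ h g⁻¹
      simpa [mul_assoc] using this) o ho⟩
    have hO := L.eq_bot_of_odd (Walter.Core.coreOf K1) (Walter.Core.odd_coreOf K1)
    have hle : K1 ≤ T1 := fun k hk => by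
      obtain ⟨o, ho, t, ht, rfl⟩ := burnside hsyl hN hk
      rw [hO, mem_bot] at ho
      simpa [ho] using ht
    have h := K1.card_mul_index
    rw [hK1, le_antisymm hle inf_le_right, hT1c] at h
    omega
  right
  obtain ⟨h, hhK, hhn, hho, hh1⟩ := hh
  -- `T1` is a four-group containing `z`
  have hzT1 : z ∈ T1 := by
    refine ⟨hz.zT, ?_⟩
    by_contra hzK
    obtain ⟨p, q, hf⟩ := L.four
    have hex : ∃ a ∈ (T : Subgroup K), ∃ b ∈ (T : Subgroup K), a * b * a⁻¹ * b⁻¹ = z := by
      obtain ⟨a, ha, b, hb, hab⟩ := L.nc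
      exact ⟨a, ha, b, hb, (hz.derived a ha b hb).resolve_left fun e => hab (by
        rw [mul_inv_eq_one, mul_inv_eq_iff_eq_mul] at e; exact e)⟩
    obtain ⟨a, ha, b, hb, hab⟩ := hex
    refine hzK ?_
    rw [← hab]
    have hin : ∀ x y : K, x * y * x⁻¹ * y⁻¹ ∈ K1 := fun x y => by
      have h1 := Subgroup.mul_mem_iff_of_index_two hK1 (a := x) (b := y)
      have h2 := Subgroup.mul_mem_iff_of_index_two hK1 (a := x * y) (b := x⁻¹)
      have h3 := Subgroup.mul_mem_iff_of_index_two hK1 (a := x * y * x⁻¹) (b := y⁻¹)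
      rw [inv_mem_iff] at h2 h3
      rw [h3, h2, h1]
      tauto
    exact hin a b
  have hp : h * z * h⁻¹ ∈ T1 := conj_mem hhn hzT1
  set p := h * z * h⁻¹ with hpdef
  have hpp : p * p = 1 := by
    rw [hpdef, show h * z * h⁻¹ * (h * z * h⁻¹) = h * (z * z) * h⁻¹ by group, hz.zz]; group
  have hp1 : p ≠ 1 := fun e => hz.z1 ((MulAut.conj h).injective (e.trans (map_one (MulAut.conj h)).symm))
  have hpz : p ≠ z := fun e => hh1 (L.two z h hz.z1 hz.zz hho (conj_eq_iff.1 e))
  have hzp : z * p = p * z := (hz.comm p hp.1).symm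
  obtain ⟨V, hV4, hzV, hpV, hVm⟩ := exists_kl hz.z1 hp1 (Ne.symm hpz) hz.zz hpp hzp
  have hVT : V = T1 := eq_of_le_of_card_ge (fun k hk => by
    rcases hVm k hk with rfl | rfl | rfl | rfl
    · exact one_mem _
    · exact hzT1
    · exact hp
    · exact mul_mem hzT1 hp) (by rw [hV4, hT1c])
  have hfzp : IsFour (T : Subgroup K) z p := ⟨hz.zT, hp.1, hz.z1, hp1, Ne.symm hpz, hz.zz, hpp, hzp⟩
  have hperm : ∀ v, (v = z ∨ v = p ∨ v = z * p) →
      h * v * h⁻¹ = z ∨ h * v * h⁻¹ = p ∨ h * v * h⁻¹ = z * p := by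
    intro v hv
    have hvT : v ∈ T1 := by rcases hv with rfl | rfl | rfl <;> first | assumption | exact mul_mem hzT1 hp
    refine (hVm _ (hVT.symm ▸ conj_mem hhn hvT)).resolve_left fun e => ?_
    have hv1 : v = 1 := (MulAut.conj h).injective (e.trans (map_one (MulAut.conj h)).symm)
    rcases hv with rfl | rfl | rfl
    · exact hz.z1 hv1
    · exact hp1 hv1
    · exact hpz (by rw [← inv_eq_of_mul_eq_one_right hv1, inv_eq_of_mul_eq_one_right hz.zz])
  obtain ⟨ho3, hrot⟩ := L.rot ⟨hz.z1, hp1, Ne.symm hpz, hz.zz, hpp, hzp⟩ hh1 hho hperm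
  have hq : h * p * h⁻¹ = z * p := by
    rcases hrot with ⟨_, e⟩ | ⟨e, _⟩
    · exact e
    · exact absurd (show p = z * p from e) fun e' => hz.z1 (mul_eq_right.1 e'.symm)
  refine ⟨?_, z, p, hfzp, h, ho3, rfl, hq⟩
  -- the involution outside `K1`
  obtain ⟨x, hxT, hxx, hx1, hxz, hxp, hxpz, hpxp, hall⟩ := hz.other p hp.1 hpp hp1 hpz
  have hxK : x ∉ K1 := fun hx => by
    rcases hVm x (hVT.symm ▸ ⟨hxT, hx⟩) with e | e | e | e
    · exact hx1 e
    · exact hxz e
    · exact hxp e
    · exact hxpz (e.trans hzp)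
  have ho : ∀ v : K, v ≠ 1 → v * v = 1 → orderOf v = 2 := fun v h1 h2 =>
    orderOf_eq_prime (by rw [pow_two]; exact h2) h1
  have hnc : ¬ IsConj x z := fun hc => by
    obtain ⟨c, e⟩ := isConj_iff.1 hc
    have := hK1n.conj_mem z hzT1.2 c⁻¹
    rw [← e] at this
    exact hxK (by simpa [mul_assoc] using this)
  have hxzc : IsConj x (x * z) := isConj_iff.2 ⟨p, hpxp⟩
  have hzpc : IsConj z p := isConj_iff.2 ⟨h, rfl⟩
  have hzzp : IsConj z (z * p) := hzpc.trans (isConj_iff.2 ⟨h, hq⟩)
  have hall' : ∀ t : K, orderOf t = 2 → IsConj x t ∨ IsConj z t := by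
    intro t ht
    have htt : t * t = 1 := Involutions.Basic.inv_sq_one ht
    have ht1 : t ≠ 1 := fun e => by rw [e, orderOf_one] at ht; omega
    obtain ⟨T', hT'⟩ := (Agent.SEAbelian.isPGroup_zpowers (x := t) (k := 1) (by rw [pow_one, pow_two, htt])).exists_le_sylow
    obtain ⟨c, rfl⟩ := MulAction.exists_smul_eq K T T'
    have h1 : t ∈ cj c (T : Subgroup K) := by
      have := hT' (mem_zpowers t)
      rw [Sylow.coe_subgroup_smul] at this
      exact this
    rw [mem_cj] at h1
    set t' := c⁻¹ * t * c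
    have htc : IsConj t' t := isConj_iff.2 ⟨c, by simp [t', mul_assoc]⟩
    have h2 : t' * t' = 1 := by
      show c⁻¹ * t * c * (c⁻¹ * t * c) = 1
      rw [show c⁻¹ * t * c * (c⁻¹ * t * c) = c⁻¹ * (t * t) * c by group, htt]; group
    rcases hall t' h1 h2 with e | e | e | e | e | e
    · exact absurd (by simpa [t', mul_assoc] using congrArg (fun v => c * v * c⁻¹) e) ht1
    · exact Or.inr (e ▸ htc)
    · exact Or.inr (hzpc.trans (e ▸ htc))
    · exact Or.inr (hzzp.trans (by rw [hzp]; exact e ▸ htc))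
    · exact Or.inl (e ▸ htc)
    · exact Or.inl (hxzc.trans (e ▸ htc))
  -- centralizer of `x`
  have hxz' : x * z = z * x := hz.comm x hxT
  obtain ⟨V', hV'4, hxV, hzV', hV'm⟩ := exists_kl hx1 hz.z1 hxz hxx hz.zz hxz'
  have hC : centralizer ({x} : Set K) = V' := by
    refine (eq_of_le_of_card_ge (fun k hk => mem_centralizer_one.2 ?_) ?_).symm
    · rcases hV'm k hk with rfl | rfl | rfl | rfl
      · simp
      · rfl
      · exact hxz'
      · rw [mul_assoc x z x, ← hxz']
    · have hd := L.card_le_eight (L.isPGroup_cent hx1 hxx)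
      rw [hV'4]
      obtain ⟨i, hi, e⟩ := (Nat.dvd_prime_pow Nat.prime_two).1 (show _ ∣ 2 ^ 3 from hd)
      have hne8 : i ≠ 3 := by
        intro h3
        subst h3
        obtain ⟨T', hT'⟩ := (L.isPGroup_cent hx1 hxx).exists_le_sylow
        obtain ⟨c, rfl⟩ := MulAction.exists_smul_eq K T T'
        have hT'e : centralizer ({x} : Set K) = ((c • T : Sylow 2 K) : Subgroup K) := by
          refine eq_of_le_of_card_ge hT' ?_
          rw [e, ← Nat.card_congr ((T.equiv (c • T)).toEquiv), L.card]; norm_num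
        have hxc : ∀ b ∈ (T : Subgroup K), c⁻¹ * x * c * b = b * (c⁻¹ * x * c) := fun b hb => by
          have hb' : c * b * c⁻¹ ∈ centralizer ({x} : Set K) := by
            rw [hT'e, Sylow.coe_subgroup_smul]
            exact conj_mem_cj hb
          have h' := mem_centralizer_one.1 hb'
          calc c⁻¹ * x * c * b = c⁻¹ * (x * (c * b * c⁻¹)) * c := by group
            _ = b * (c⁻¹ * x * c) := by rw [h']; group
        have hxT' : c⁻¹ * x * c ∈ (T : Subgroup K) := by
          have : x ∈ ((c • T : Sylow 2 K) : Subgroup K) := hT'e ▸ mem_centralizer_one.2 rfl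
          rw [Sylow.coe_subgroup_smul] at this
          exact mem_cj.1 this
        rcases hz.uniq _ hxT' hxc with e' | e'
        · exact hx1 (by simpa [mul_assoc] using congrArg (fun v => c * v * c⁻¹) e')
        · exact hnc (isConj_iff.2 ⟨c⁻¹, by simpa using e'⟩)
      interval_cases i <;> omega
  have hformula := Involutions.OrderFormula.order_formula x z (ho x hx1 hxx) (ho z hz.z1 hz.zz) hnc hall'
  rw [hC, hV'4, L.cent_center hz, L.card] at hformula
  -- the two counts
  have hmid : ∀ w u v : K, orderOf w = 2 → IsConj x u → IsConj z v → w ∈ zpowers (u * v) →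
      w * u = u * w ∧ w * v = v * w := by
    intro w u v hw hu hv hmem
    have hou : orderOf u = 2 := by
      obtain ⟨c, rfl⟩ := isConj_iff.1 hu; rw [← MulAut.conj_apply, MulEquiv.orderOf_eq, ho x hx1 hxx]
    have hov : orderOf v = 2 := by
      obtain ⟨c, rfl⟩ := isConj_iff.1 hv; rw [← MulAut.conj_apply, MulEquiv.orderOf_eq, ho z hz.z1 hz.zz]
    have heven := Involutions.Basic.even_orderOf_mul_of_not_isConj hou hov
      fun hc => hnc (hu.trans (hc.trans hv.symm))
    rw [Involutions.OrderFormula.eq_middle hw hmem]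
    exact ⟨(Involutions.Basic.middle_involution hou hov heven).2.1.eq,
      (Involutions.Basic.middle_involution hou hov heven).2.2.eq⟩
  have hclass : ∀ v, IsConj z v → v ∈ K1 := fun v hv => by
    obtain ⟨c, rfl⟩ := isConj_iff.1 hv; exact hK1n.conj_mem z hzT1.2 c
  have houter : ∀ u, IsConj x u → u ∉ K1 ∧ u * u = 1 ∧ u ≠ 1 := fun u hu => by
    obtain ⟨c, rfl⟩ := isConj_iff.1 hu
    refine ⟨fun hm => hxK ?_, ?_, fun e => hx1 ?_⟩
    · have := hK1n.conj_mem _ hm c⁻¹; simpa [mul_assoc] using this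
    · rw [show c * x * c⁻¹ * (c * x * c⁻¹) = c * (x * x) * c⁻¹ by group, hxx]; group
    · exact (MulAut.conj c).injective (e.trans (map_one (MulAut.conj c)).symm)
  have hTu : ∀ u, IsConj x u → u ∈ (T : Subgroup K) → u = x ∨ u = x * z := fun u hu huT => by
    obtain ⟨huK, huu, hu1⟩ := houter u hu
    rcases hall u huT huu with e | e | e | e | e | e
    · exact absurd e hu1
    · exact absurd (e ▸ hzT1.2) huK
    · exact absurd (e ▸ hp.2) huK
    · exact absurd (e ▸ mul_mem hp.2 hzT1.2) huK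
    · exact Or.inl e
    · exact Or.inr e
  have hTv : ∀ v, IsConj z v → v ∈ (T : Subgroup K) → v = z ∨ v = p ∨ v = z * p := fun v hv hvT => by
    refine (hVm v (hVT.symm ▸ ⟨hvT, hclass v hv⟩)).resolve_left fun e => ?_
    obtain ⟨c, hc⟩ := isConj_iff.1 hv
    exact hz.z1 ((MulAut.conj c).injective (hc.trans (e.trans (map_one (MulAut.conj c)).symm)))
  have hsq4 : ∀ u v, (u = x ∨ u = x * z) → (v = p ∨ v = z * p) → (u * v) ^ 2 = z := by
    intro u v hu hv
    have huT : u ∈ (T : Subgroup K) := by rcases hu with rfl | rfl <;> first | exact hxT | exact mul_mem hxT hz.zT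
    have hvT : v ∈ (T : Subgroup K) := by
      rcases hv with rfl | rfl <;> first | exact hp.1 | exact mul_mem hz.zT hp.1
    have huu : u * u = 1 := (houter u (by rcases hu with rfl | rfl <;> first | rfl | exact hxzc)).2.1
    have hvv : v * v = 1 := by
      rcases hv with rfl | rfl
      · exact hpp
      · rw [mul_assoc, ← mul_assoc p z p, ← hzp, mul_assoc z p p, hpp, mul_one, hz.zz]
    refine ((hz.derived u huT v hvT).resolve_left fun e => ?_).symm ▸ ?_
    · -- they do not commute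
      rw [mul_inv_eq_one, mul_inv_eq_iff_eq_mul] at e
      have hnc2 : p * x ≠ x * p := fun e' => by
        rw [mul_inv_eq_iff_eq_mul.2 e'] at hpxp
        exact hz.z1 (mul_eq_left.1 hpxp.symm)
      rcases hu with hu | hu <;> rcases hv with hv | hv <;> rw [hu, hv] at e
      · exact hnc2 e.symm
      · rw [← mul_assoc, hxz', mul_assoc, mul_assoc z p x] at e
        exact hnc2 (mul_left_cancel e).symm
      · rw [mul_assoc, hzp, ← mul_assoc, ← mul_assoc p x z] at e
        exact hnc2 (mul_right_cancel e).symm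
      · rw [show x * z * (z * p) = x * p by rw [mul_assoc, ← mul_assoc z z p, hz.zz, one_mul],
          show z * p * (x * z) = z * (p * x) * z by group, hz.comm (p * x) (mul_mem hp.1 hxT) |>.symm,
          mul_assoc (p * x) z z, hz.zz, mul_one] at e
        exact hnc2 e.symm
    · rw [pow_two, inv_eq_of_mul_eq_one_right huu, inv_eq_of_mul_eq_one_right hvv, mul_assoc, mul_assoc,
        mul_assoc]
  have hox : orderOf x = 2 := ho x hx1 hxx
  have hoz : orderOf z = 2 := ho z hz.z1 hz.zz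
  have hz_iff : ∀ u v : K, (IsConj x u ∧ IsConj z v ∧ z ∈ zpowers (u * v)) ↔
      ((u = x ∨ u = x * z) ∧ (v = p ∨ v = z * p)) := by
    intro u v
    constructor
    · rintro ⟨hu, hv, hm⟩
      obtain ⟨h1, h2⟩ := hmid z u v hoz hu hv hm
      have huT : u ∈ (T : Subgroup K) := by rw [← L.cent_center hz]; exact mem_centralizer_one.2 h1
      have hvT : v ∈ (T : Subgroup K) := by rw [← L.cent_center hz]; exact mem_centralizer_one.2 h2
      have hu' := hTu u hu huT
      refine ⟨hu', (hTv v hv hvT).resolve_left fun e => ?_⟩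
      rw [e] at hm
      obtain ⟨huK, huu, -⟩ := houter u hu
      have hsq : (u * z) ^ 2 = 1 := by
        rw [pow_two, mul_assoc, ← mul_assoc z u z, h1, mul_assoc u z z, hz.zz, mul_one, huu]
      obtain ⟨i, hi⟩ := mem_zpowers_iff.1 hm
      rcases Int.even_or_odd i with ⟨l, rfl⟩ | ⟨l, rfl⟩
      · rw [← two_mul, zpow_mul, zpow_two, ← pow_two, hsq, one_zpow] at hi
        exact hz.z1 hi.symm
      · rw [zpow_add, zpow_mul, zpow_two, ← pow_two, hsq, one_zpow, one_mul, zpow_one] at hi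
        exact (houter u hu).2.2 (mul_eq_right.1 hi)
    · rintro ⟨hu, hv⟩
      refine ⟨?_, ?_, hsq4 u v hu hv ▸ pow_mem (mem_zpowers _) 2⟩
      · rcases hu with rfl | rfl
        · exact IsConj.refl u
        · exact hxzc
      · rcases hv with rfl | rfl
        · exact hzpc
        · exact hzzp
  have hx_iff : ∀ u v : K, (IsConj x u ∧ IsConj z v ∧ x ∈ zpowers (u * v)) ↔ (u = x * z ∧ v = z) := by
    intro u v
    constructor
    · rintro ⟨hu, hv, hm⟩
      obtain ⟨h1, h2⟩ := hmid x u v hox hu hv hm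
      have hin : ∀ w : K, x * w = w * x → w ∈ V' := fun w hw => hC ▸ mem_centralizer_one.2 hw
      have hV'T : V' ≤ (T : Subgroup K) := fun k hk => by
        rcases hV'm k hk with rfl | rfl | rfl | rfl
        · exact one_mem _
        · exact hxT
        · exact hz.zT
        · exact mul_mem hxT hz.zT
      have hvz : v = z := by
        rcases hV'm v (hin v h2) with e | e | e | e
        · obtain ⟨c, hc⟩ := isConj_iff.1 hv
          exact absurd ((MulAut.conj c).injective (hc.trans (e.trans (map_one (MulAut.conj c)).symm))) hz.z1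
        · exact absurd (e ▸ hclass v hv) hxK
        · exact e
        · exfalso
          have := mul_mem (hclass v hv) hzT1.2
          rw [e, mul_assoc, hz.zz, mul_one] at this
          exact hxK this
      refine ⟨(hTu u hu (hV'T (hin u h1))).resolve_left fun e => ?_, hvz⟩
      rw [e, hvz] at hm
      have hsq : (x * z) ^ 2 = 1 := by
        rw [pow_two, mul_assoc, ← mul_assoc z x z, ← hxz', mul_assoc x z z, hz.zz, mul_one, hxx]
      obtain ⟨i, hi⟩ := mem_zpowers_iff.1 hm
      rcases Int.even_or_odd i with ⟨l, rfl⟩ | ⟨l, rfl⟩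
      · rw [← two_mul, zpow_mul, zpow_two, ← pow_two, hsq, one_zpow] at hi
        exact hx1 hi.symm
      · rw [zpow_add, zpow_mul, zpow_two, ← pow_two, hsq, one_zpow, one_mul, zpow_one] at hi
        exact hz.z1 (mul_eq_left.1 hi)
    · rintro ⟨rfl, rfl⟩
      refine ⟨hxzc, IsConj.refl _, ?_⟩
      rw [mul_assoc, hz.zz, mul_one]
      exact mem_zpowers x
  have hzne : z * p ≠ p := fun e => hz.z1 (mul_eq_right.1 e)
  have hxne : x * z ≠ x := fun e => hz.z1 (mul_eq_left.1 e)
  have n2 : Nat.card {a : K × K // IsConj x a.1 ∧ IsConj z a.2 ∧ z ∈ zpowers (a.1 * a.2)} = 4 := by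
    classical
    rw [Nat.card_congr (Equiv.subtypeEquivRight (q := fun a : K × K => a ∈ ({x, x * z} : Finset K) ×ˢ {p, z * p})
      fun a => by rw [hz_iff]; simp [Finset.mem_product]), Nat.card_eq_finsetCard, Finset.card_product,
      Finset.card_pair hxne.symm, Finset.card_pair hzne.symm]
  have n1 : Nat.card {a : K × K // IsConj x a.1 ∧ IsConj z a.2 ∧ x ∈ zpowers (a.1 * a.2)} = 1 := by
    classical
    rw [Nat.card_congr (Equiv.subtypeEquivRight (q := fun a : K × K => a ∈ ({(x * z, z)} : Finset (K × K)))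
      fun a => by rw [hx_iff]; simp [Prod.ext_iff]), Nat.card_eq_finsetCard, Finset.card_singleton]
  rw [n1, n2] at hformula
  omega

/-- Without a subgroup of index two: simple of order 168 or 360, and every four-group is fused. -/
theorem of_perfect (hno : ∀ H : Subgroup K, H.index ≠ 2) :
    IsSimpleGroup K ∧ (Nat.card K = 168 ∨ Nat.card K = 360) ∧
      ∀ p q, IsFour (T : Subgroup K) p q → ∃ p' q', Fused (T : Subgroup K) p' q' ∧
        ∀ v, (v = p' ∨ v = q' ∨ v = p' * q') ↔ (v = p ∨ v = q ∨ v = p * q) := by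
  haveI : Fact (Nat.Prime 2) := ⟨Nat.prime_two⟩
  obtain ⟨z, hz⟩ := L.exists_center
  obtain ⟨e⟩ := L.equiv_dihedral
  have hperf := L.perfect hno
  have hoz : orderOf z = 2 := orderOf_eq_prime (by rw [pow_two]; exact hz.zz) hz.z1
  have hcard := S0848.result hperf z hoz ((MulEquiv.subgroupCongr (L.cent_center hz)).trans e)
  -- an element of order four
  obtain ⟨u, hu, huu⟩ : ∃ u ∈ (T : Subgroup K), u * u ≠ 1 := by
    by_contra hcon
    push Not at hcon
    obtain ⟨a, ha, b, hb, hab⟩ := L.nc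
    apply hab
    have h1 := hcon _ (mul_mem ha hb)
    rw [← inv_eq_of_mul_eq_one_right h1, mul_inv_rev, inv_eq_of_mul_eq_one_right (hcon a ha),
      inv_eq_of_mul_eq_one_right (hcon b hb)]
  have hu4 : Nat.card ↥(zpowers u) = 4 := by
    rw [Nat.card_zpowers]
    obtain ⟨i, hi, e'⟩ := (Nat.dvd_prime_pow Nat.prime_two).1
      (show orderOf u ∣ 2 ^ 3 by simpa [L.card] using (T : Subgroup K).orderOf_dvd_natCard hu)
    interval_cases i
    · exfalso; apply huu; rw [pow_zero, orderOf_eq_one_iff] at e'; rw [e', one_mul]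
    · exfalso; apply huu; rw [pow_one] at e'; rw [← pow_two]; exact orderOf_dvd_iff_pow_eq_one.1 e'.dvd
    · rw [e']; norm_num
    · exfalso
      obtain ⟨a, ha, b, hb, hab⟩ := L.nc
      have htop : zpowers u = (T : Subgroup K) :=
        eq_of_le_of_card_ge (zpowers_le.2 hu) (by rw [Nat.card_zpowers, e', L.card]; norm_num)
      rw [← htop] at ha hb
      obtain ⟨j, rfl⟩ := mem_zpowers_iff.1 ha
      obtain ⟨l, rfl⟩ := mem_zpowers_iff.1 hb
      exact hab (by rw [← zpow_add, ← zpow_add, add_comm])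
  have hrel : (zpowers u).relIndex (T : Subgroup K) = 2 := by
    have h := card_mul_index ((zpowers u).subgroupOf (T : Subgroup K))
    rw [Nat.card_congr (subgroupOfEquivOfLe (zpowers_le.2 hu)).toEquiv, hu4, L.card, ← relIndex] at h
    omega
  have hcyc : ∀ w ∈ zpowers u, w * w = 1 → w = 1 ∨ w = u ^ 2 := by
    intro w hw hww
    classical
    rw [mem_zpowers_iff_mem_range_orderOf, ← Nat.card_zpowers, hu4, Finset.mem_image] at hw
    obtain ⟨j, hj, rfl⟩ := hw
    rw [Finset.mem_range] at hj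
    have h4 : u ^ 4 = 1 := by rw [← hu4, Nat.card_zpowers, pow_orderOf_eq_one]
    interval_cases j
    · left; exact pow_zero u
    · exact absurd (by simpa using hww) huu
    · right; rfl
    · exfalso
      apply huu
      calc u * u = u ^ 2 := (pow_two u).symm
        _ = u ^ 3 * u ^ 3 * (u ^ 4)⁻¹ := by group
        _ = 1 := by rw [hww, h4]; simp
  -- one class of involutions
  have hone : ∀ t : K, t ≠ 1 → t * t = 1 → IsConj t z := by
    intro t ht1 htt
    have key : ∀ s : K, s ≠ 1 → s * s = 1 → IsConj s (u ^ 2) := by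
      intro s hs1 hss
      obtain ⟨g, hg⟩ := Involutions.ThompsonTransfer.exists_conj_mem hno T (zpowers u) (zpowers_le.2 hu) hrel s
        (orderOf_eq_prime (by rw [pow_two]; exact hss) hs1)
      refine isConj_iff.2 ⟨g, (hcyc _ hg ?_).resolve_left fun e' => ?_⟩
      · rw [show g * s * g⁻¹ * (g * s * g⁻¹) = g * (s * s) * g⁻¹ by group, hss]; group
      · exact hs1 ((MulAut.conj g).injective (e'.trans (map_one (MulAut.conj g)).symm))
    exact (key t ht1 htt).trans (key z hz.z1 hz.zz).symm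
  refine ⟨?_, hcard, ?_⟩
  · haveI : Nontrivial K := ⟨z, 1, hz.z1⟩
    refine ⟨fun N hN => ?_⟩
    by_cases hodd : Odd (Nat.card ↥N)
    · exact Or.inl (L.eq_bot_of_odd N hodd)
    right
    obtain ⟨t, ht⟩ := exists_prime_orderOf_dvd_card' 2
      (even_iff_two_dvd.1 (Nat.not_odd_iff_even.1 hodd) : 2 ∣ Nat.card ↥N)
    have htt := Involutions.Basic.inv_sq_one ht
    have ht1 : (t : K) ≠ 1 := fun e' => by
      rw [← Subgroup.orderOf_coe, e', orderOf_one] at ht; omega
    have hinv : ∀ w : K, w ≠ 1 → w * w = 1 → w ∈ N := fun w hw1 hww => by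
      obtain ⟨c, hc⟩ := isConj_iff.1 ((hone (t : K) ht1 (congrArg Subtype.val htt)).trans (hone w hw1 hww).symm)
      rw [← hc]
      exact hN.conj_mem _ t.2 c
    -- `T` is generated by involutions
    obtain ⟨p, q, hf⟩ := L.four
    have hp : ∃ p0 ∈ (T : Subgroup K), p0 * p0 = 1 ∧ p0 ≠ 1 ∧ p0 ≠ z := by
      by_cases hpz : p = z
      · exact ⟨q, hf.qT, hf.qq, hf.q1, fun e' => hf.ne (hpz.trans e'.symm)⟩
      · exact ⟨p, hf.pT, hf.pp, hf.p1, hpz⟩
    obtain ⟨p0, hp0, hp0p, hp01, hp0z⟩ := hp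
    obtain ⟨q0, hq0, hq0q, hq01, hq0z, hq0p, hq0pz, -, -⟩ := hz.other p0 hp0 hp0p hp01 hp0z
    obtain ⟨V, hV4, hzV, hpV, hVm⟩ := exists_kl hz.z1 hp01 hp0z.symm hz.zz hp0p (hz.comm p0 hp0).symm
    have hVT : V ≤ (T : Subgroup K) := fun k hk => by
      rcases hVm k hk with rfl | rfl | rfl | rfl
      · exact one_mem _
      · exact hz.zT
      · exact hp0
      · exact mul_mem hz.zT hp0
    have hqV : q0 ∉ V := fun hq => by
      rcases hVm q0 hq with e' | e' | e' | e'
      · exact hq01 e'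
      · exact hq0z e'
      · exact hq0p e'
      · exact hq0pz (e'.trans (hz.comm p0 hp0).symm)
    have hTN : (T : Subgroup K) ≤ N := by
      have hlt : 4 < Nat.card ↥(N ⊓ (T : Subgroup K)) := by
        have hle : V ≤ N ⊓ (T : Subgroup K) := fun k hk => ⟨by
          rcases hVm k hk with rfl | rfl | rfl | rfl
          · exact one_mem _
          · exact hinv _ hz.z1 hz.zz
          · exact hinv _ hp01 hp0p
          · exact mul_mem (hinv _ hz.z1 hz.zz) (hinv _ hp01 hp0p), hVT hk⟩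
        refine hV4 ▸ lt_of_le_of_ne (card_le_of_le hle) fun e' => hqV ?_
        exact (eq_of_le_of_card_ge hle e'.ge).ge ⟨hinv q0 hq01 hq0q, hq0⟩
      have hdvd : Nat.card ↥(N ⊓ (T : Subgroup K)) ∣ 2 ^ 3 :=
        by simpa [L.card] using card_dvd_of_le (inf_le_right : N ⊓ (T : Subgroup K) ≤ _)
      obtain ⟨i, hi, e'⟩ := (Nat.dvd_prime_pow Nat.prime_two).1 hdvd
      have hi3 : i = 3 := by interval_cases i <;> omega
      subst hi3
      exact (eq_of_le_of_card_ge (inf_le_right : N ⊓ (T : Subgroup K) ≤ _) (by rw [e', L.card]; norm_num)).ge.trans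
        inf_le_left
    have hodd' : Odd (Nat.card (K ⧸ N)) := by
      rw [← index_eq_card]
      exact (Nat.odd_iff.2 (Nat.two_dvd_ne_zero.1 T.not_dvd_index)).of_dvd_nat (index_dvd_of_le hTN)
    haveI hsol : Group.IsSolvable (K ⧸ N) := S0205.result hodd'
    have hpq : _root_.commutator (K ⧸ N) = ⊤ := by
      rw [← map_top_of_surjective (QuotientGroup.mk' N) (QuotientGroup.mk'_surjective N), ← hperf,
        _root_.commutator_def, _root_.commutator_def, map_commutator,
        map_top_of_surjective (QuotientGroup.mk' N) (QuotientGroup.mk'_surjective N)]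
    by_contra hNtop
    haveI : Nontrivial (K ⧸ N) := QuotientGroup.nontrivial_iff.2 hNtop
    exact (Group.IsSolvable.commutator_lt_top_of_nontrivial (K ⧸ N)).ne hpq
  · intro p q hf
    -- the four-group contains `z` and an involution conjugate to it
    obtain ⟨w, hwf, hwset⟩ : ∃ w, IsFour (T : Subgroup K) z w ∧
        ∀ v, (v = z ∨ v = w ∨ v = z * w) ↔ (v = p ∨ v = q ∨ v = p * q) := by
      rcases hz.inFour p q hf with e' | e' | e'
      · subst e'; exact ⟨q, hf, fun v => Iff.rfl⟩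
      · subst e'
        refine ⟨p, ⟨hf.qT, hf.pT, hf.q1, hf.p1, hf.ne.symm, hf.qq, hf.pp, hf.comm.symm⟩, fun v => ?_⟩
        rw [hf.comm]; tauto
      · have hqpq : p * q * p = q := by
          rw [hf.comm, mul_assoc, hf.pp, mul_one]
        refine ⟨p, ⟨hz.zT, hf.pT, hz.z1, hf.p1, fun e'' => hf.q1 ?_, hz.zz, hf.pp, (hz.comm p hf.pT).symm⟩,
          fun v => ?_⟩
        · exact mul_eq_left.1 (e'.symm.trans e'')
        · rw [e', hqpq]; tauto
    obtain ⟨c, hc⟩ := isConj_iff.1 (hone w hwf.q1 hwf.qq)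
    obtain ⟨V, hV4, hzV, hwV, hVm⟩ := exists_kl hwf.p1 hwf.q1 hwf.ne hwf.pp hwf.qq hwf.comm
    -- two Sylow subgroups normalize `V`
    have hVT : V ≤ (T : Subgroup K) := fun k hk => by
      rcases hVm k hk with rfl | rfl | rfl | rfl
      · exact one_mem _
      · exact hz.zT
      · exact hwf.qT
      · exact mul_mem hz.zT hwf.qT
    have hTn : (T : Subgroup K) ≤ normalizer (V : Set K) := by
      intro a ha
      refine mem_normalizer_of_conj fun k hk => ?_
      rcases hz.derived a ha k (hVT hk) with e' | e'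
      · rw [mul_inv_eq_one.1 e']; exact hk
      · rw [mul_inv_eq_iff_eq_mul.1 e']; exact mul_mem hzV hk
    set C := centralizer ({w} : Set K)
    have hCc : ∀ k, k ∈ C ↔ c * k * c⁻¹ ∈ (T : Subgroup K) := by
      intro k
      rw [← L.cent_center hz, mem_centralizer_one, mem_centralizer_one, ← hc]
      constructor
      · intro h'
        calc c * w * c⁻¹ * (c * k * c⁻¹) = c * (w * k) * c⁻¹ := by group
          _ = c * k * c⁻¹ * (c * w * c⁻¹) := by rw [h']; group
      · intro h'
        apply (MulAut.conj c).injective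
        simp only [map_mul, MulAut.conj_apply]
        exact h'
    have hVC : V ≤ C := fun k hk => mem_centralizer_one.2 (by
      rcases hVm k hk with rfl | rfl | rfl | rfl
      · simp
      · exact hwf.comm.symm
      · rfl
      · rw [← mul_assoc, ← hwf.comm, mul_assoc])
    have hCn : C ≤ normalizer (V : Set K) := by
      intro a ha
      refine mem_normalizer_of_conj fun k hk => ?_
      have ha' := (hCc a).1 ha
      have hk' := (hCc k).1 (hVC hk)
      rcases hz.derived _ ha' _ hk' with e' | e'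
      · have : a * k * a⁻¹ = k := (MulAut.conj c).injective (by
          simp only [MulAut.conj_apply]
          rw [← mul_inv_eq_one.1 e']; group)
        rw [this]; exact hk
      · have : a * k * a⁻¹ = w * k := (MulAut.conj c).injective (by
          simp only [MulAut.conj_apply]
          rw [show c * (w * k) * c⁻¹ = c * w * c⁻¹ * (c * k * c⁻¹) by group, hc, ← mul_inv_eq_iff_eq_mul.1 e']
          group)
        rw [this]; exact mul_mem hwV hk
    have hCT : ¬ C ≤ (T : Subgroup K) := by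
      intro hle
      have hCeq : C = (T : Subgroup K) := by
        refine eq_of_le_of_card_ge hle ?_
        refine (card_cj c⁻¹ (T : Subgroup K)).ge.trans (card_le_of_le fun k hk => (hCc k).2 ?_)
        simpa [mul_assoc] using mem_cj.1 hk
      rcases hz.uniq w hwf.qT (fun b hb => mem_centralizer_one.1 (hCeq.symm ▸ hb : b ∈ C)) with e' | e'
      · exact hwf.q1 e'
      · exact hwf.ne e'.symm
    obtain ⟨a, ha, haT⟩ := SetLike.not_le_iff_exists.1 hCT
    obtain ⟨h, hh, hho, hh1⟩ : ∃ h ∈ normalizer (V : Set K), Odd (orderOf h) ∧ h ≠ 1 := by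
      by_contra hcon
      push Not at hcon
      have hp2 : IsPGroup 2 ↥(normalizer (V : Set K)) := fun k => by
        obtain ⟨j, m, hm, hjm⟩ := Agent.SEAbelian.exists_parts (k : K)
        exact ⟨j, Subtype.ext (hcon _ (pow_mem k.2 _)
          (Agent.SEAbelian.odd_orderOf_of_pow hm (by rw [Subgroup.coe_pow, ← pow_mul, hjm])))⟩
      exact haT ((T.3 hp2 hTn).le (hCn ha))
    have hperm : ∀ v, (v = z ∨ v = w ∨ v = z * w) →
        h * v * h⁻¹ = z ∨ h * v * h⁻¹ = w ∨ h * v * h⁻¹ = z * w := by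
      intro v hv
      have hvV : v ∈ V := by rcases hv with rfl | rfl | rfl <;> first | assumption | exact mul_mem hzV hwV
      refine (hVm _ (conj_mem hh hvV)).resolve_left fun e' => ?_
      have hv1 : v = 1 := (MulAut.conj h).injective (e'.trans (map_one (MulAut.conj h)).symm)
      rcases hv with rfl | rfl | rfl
      · exact hwf.p1 hv1
      · exact hwf.q1 hv1
      · exact hwf.ne (by rw [← inv_eq_of_mul_eq_one_right hwf.pp, inv_eq_of_mul_eq_one_right hv1])
    obtain ⟨ho3, hrot⟩ := L.rot ⟨hwf.p1, hwf.q1, hwf.ne, hwf.pp, hwf.qq, hwf.comm⟩ hh1 hho hperm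
    rcases hrot with ⟨e1, e2⟩ | ⟨e1, e2⟩
    · exact ⟨z, w, ⟨hwf, h, ho3, e1, e2⟩, hwset⟩
    · have hzzw : z * (z * w) = w := by rw [← mul_assoc, hwf.pp, one_mul]
      refine ⟨z, z * w, ⟨⟨hz.zT, mul_mem hz.zT hwf.qT, hz.z1, fun e' => hwf.ne ?_, fun e' => hwf.q1 ?_, hz.zz,
        ?_, ?_⟩, h, ho3, e1, by rw [hzzw]; exact e2⟩, fun v => ?_⟩
      · rw [← inv_eq_of_mul_eq_one_right hwf.pp, inv_eq_of_mul_eq_one_right e']
      · exact mul_eq_left.1 e'.symm
      · rw [mul_assoc, ← mul_assoc w z w, ← hwf.comm, mul_assoc z w w, hwf.qq, mul_one, hwf.pp]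
      · exact (hz.comm _ (mul_mem hz.zT hwf.qT)).symm
      · rw [← hwset v, hzzw]; tauto

end Local

end Cfsg.Agent.M24Type.AutTrans
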