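import Cfsg.Agent.Lib.M24Type.Defs
import Cfsg.Agent.Lib.Coprime.Basic

/-!
# First consequences of the properties of the 2-group of type `2⁶:D₈`

Transport along isomorphisms, weak closure of `A`, Sylow subgroups of subgroups, control of fusion in `A`.
-/

set_option autoImplicit false
set_option linter.style.haveILetI false
set_option linter.unusedSectionVars false
set_option linter.unusedSimpArgs false

open Subgroup

universe u

namespace Cfsg.Agent.M24Type

variable {G H : Type u} [Group G] [Group H]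

/-- The conjugate of `A` by `g`. -/
def cj (g : G) (A : Subgroup G) : Subgroup G := A.map (MulAut.conj g).toMonoidHom

theorem mem_cj {g x : G} {A : Subgroup G} : x ∈ cj g A ↔ g⁻¹ * x * g ∈ A := by
  rw [cj, Subgroup.mem_map]
  constructor
  · rintro ⟨a, ha, rfl⟩
    simpa [mul_assoc] using ha
  · exact fun h => ⟨_, h, by simp [mul_assoc]⟩

theorem conj_mem_cj {g a : G} {A : Subgroup G} (ha : a ∈ A) : g * a * g⁻¹ ∈ cj g A :=
  mem_cj.2 (by simpa [mul_assoc] using ha)

theorem cj_cj (g h : G) (A : Subgroup G) : cj g (cj h A) = cj (g * h) A := by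
  ext x; simp [mem_cj, mul_assoc]

theorem cj_one (A : Subgroup G) : cj 1 A = A := by
  ext x; simp [mem_cj]

theorem card_cj (g : G) (A : Subgroup G) : Nat.card ↥(cj g A) = Nat.card ↥A :=
  (Nat.card_congr (A.equivMapOfInjective _ (MulAut.conj g).injective).toEquiv).symm

theorem mem_cent {A : Subgroup G} {s a : G} :
    a ∈ A ⊓ centralizer ({s} : Set G) ↔ a ∈ A ∧ s * a = a * s := by
  simp [mem_inf, mem_centralizer_iff]

theorem mem_centralizer_one {s a : G} : a ∈ centralizer ({s} : Set G) ↔ s * a = a * s := by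
  simp [mem_centralizer_iff]

/-- An element fixed under conjugation commutes. -/
theorem conj_eq_iff {n a : G} : n * a * n⁻¹ = a ↔ n * a = a * n := by
  rw [mul_inv_eq_iff_eq_mul]

/-- It suffices to map a subgroup into itself. -/
theorem mem_normalizer_of_conj [Finite G] {K : Subgroup G} {g : G} (hg : ∀ x ∈ K, g * x * g⁻¹ ∈ K) :
    g ∈ normalizer (K : Set G) := by
  have he : cj g K = K := eq_of_le_of_card_ge (by rintro _ ⟨x, hx, rfl⟩; exact hg x hx) (card_cj g K).ge
  refine mem_normalizer_iff.2 fun x => ⟨hg x, fun hx => ?_⟩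
  rw [← he, mem_cj] at hx
  simpa [mul_assoc] using hx

theorem conj_mem {K : Subgroup G} {g x : G} (hg : g ∈ normalizer (K : Set G)) (hx : x ∈ K) :
    g * x * g⁻¹ ∈ K :=
  (mem_normalizer_iff.1 hg x).1 hx

/-- The subgroup `K ∪ K w` for an element `w` with `w * w ∈ K` normalizing `K`. -/
def adj (K : Subgroup G) (w : G) (hw : w * w ∈ K) (hn : w ∈ normalizer (K : Set G)) : Subgroup G where
  carrier := {k | k ∈ K ∨ k * w ∈ K}
  mul_mem' := by
    have hn' : ∀ x ∈ K, w⁻¹ * x * w ∈ K := fun x hx => by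
      simpa using conj_mem (inv_mem hn) hx
    rintro a b (ha | ha) (hb | hb)
    · exact Or.inl (mul_mem ha hb)
    · exact Or.inr (by rw [mul_assoc]; exact mul_mem ha hb)
    · right
      rw [show a * b * w = a * w * (w⁻¹ * b * w) by group]
      exact mul_mem ha (hn' b hb)
    · left
      rw [show a * b = a * w * (w⁻¹ * (b * w * (w * w)⁻¹) * w) by group]
      exact mul_mem ha (hn' _ (mul_mem hb (inv_mem hw)))
  one_mem' := Or.inl (one_mem K)
  inv_mem' := by
    rintro a (ha | ha)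
    · exact Or.inl (inv_mem ha)
    · right
      rw [show a⁻¹ * w = w * (a * w)⁻¹ * w⁻¹ * (w * w) by group]
      exact mul_mem (conj_mem hn (inv_mem ha)) hw

theorem mem_adj {K : Subgroup G} {w : G} {hw : w * w ∈ K} {hn : w ∈ normalizer (K : Set G)} {k : G} :
    k ∈ adj K w hw hn ↔ k ∈ K ∨ k * w ∈ K :=
  Iff.rfl

theorem self_mem_adj {K : Subgroup G} {w : G} {hw : w * w ∈ K} {hn : w ∈ normalizer (K : Set G)} :
    w ∈ adj K w hw hn :=
  Or.inr hw

theorem le_adj {K : Subgroup G} {w : G} {hw : w * w ∈ K} {hn : w ∈ normalizer (K : Set G)} :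
    K ≤ adj K w hw hn :=
  fun _ => Or.inl

/-- A subgroup with two cosets of `K`. -/
theorem card_two_mul [Finite G] {K L : Subgroup G} (hKL : K ≤ L) {w : G} (hwL : w ∈ L) (hwK : w ∉ K)
    (h : ∀ k ∈ L, k ∈ K ∨ k * w ∈ K) : Nat.card ↥L = 2 * Nat.card ↥K := by
  have hr : K.relIndex L = 2 := by
    refine Subgroup.relIndex_eq_two_iff.2 ⟨w, hwL, fun k hk => ?_⟩
    rcases h k hk with h' | h'
    · exact Or.inr ⟨h', fun h'' => hwK (by simpa using mul_mem (inv_mem h') h'')⟩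
    · exact Or.inl ⟨h', fun h'' => hwK (by simpa using mul_mem (inv_mem h'') h')⟩
  have := card_mul_index (K.subgroupOf L)
  rw [Nat.card_congr (subgroupOfEquivOfLe hKL).toEquiv] at this
  rw [← this, ← relIndex, hr, mul_comm]

theorem card_adj [Finite G] {K : Subgroup G} {w : G} {hw : w * w ∈ K} {hn : w ∈ normalizer (K : Set G)}
    (hwK : w ∉ K) : Nat.card ↥(adj K w hw hn) = 2 * Nat.card ↥K :=
  card_two_mul le_adj self_mem_adj hwK fun _ => id

theorem isPGroup_adj [Finite G] {K : Subgroup G} {w : G} {hw : w * w ∈ K}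
    {hn : w ∈ normalizer (K : Set G)} (hK : IsPGroup 2 K) : IsPGroup 2 ↥(adj K w hw hn) := by
  haveI : Fact (Nat.Prime 2) := ⟨Nat.prime_two⟩
  obtain ⟨n, hnK⟩ := hK.exists_card_eq
  by_cases hwK : w ∈ K
  · exact hK.to_le (fun k hk => hk.elim id fun h => by simpa using mul_mem h (inv_mem hwK))
  · exact IsPGroup.of_card (n := n + 1) (by rw [card_adj hwK, hnK, pow_succ, mul_comm])

/-- `P` is a Sylow 2-subgroup of the subgroup `Y`. -/
structure IsSylIn (P Y : Subgroup G) : Prop where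
  le : P ≤ Y
  isP : IsPGroup 2 P
  odd : Odd (P.relIndex Y)

theorem exists_isSylIn [Finite G] {Q Y : Subgroup G} (hQY : Q ≤ Y) (hQ : IsPGroup 2 Q) :
    ∃ P, Q ≤ P ∧ IsSylIn P Y := by
  haveI : Fact (Nat.Prime 2) := ⟨Nat.prime_two⟩
  obtain ⟨T, hT⟩ := (hQ.comap_of_injective Y.subtype Y.subtype_injective).exists_le_sylow
  refine ⟨(T : Subgroup ↥Y).map Y.subtype, fun x hx => ⟨⟨x, hQY hx⟩, hT hx, rfl⟩,
    map_subtype_le _, T.2.map _, ?_⟩
  have e : ((T : Subgroup ↥Y).map Y.subtype).subgroupOf Y = (T : Subgroup ↥Y) :=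
    comap_map_eq_self_of_injective Y.subtype_injective _
  rw [relIndex, e]
  exact Nat.odd_iff.2 (Nat.two_dvd_ne_zero.1 (Sylow.not_dvd_index T))

/-- Every 2-subgroup of `Y` is conjugate in `Y` into a Sylow 2-subgroup of `Y`. -/
theorem IsSylIn.exists_conj [Finite G] {P Y Q : Subgroup G} (h : IsSylIn P Y) (hQY : Q ≤ Y)
    (hQ : IsPGroup 2 Q) : ∃ y ∈ Y, ∀ q ∈ Q, y * q * y⁻¹ ∈ P := by
  haveI : Fact (Nat.Prime 2) := ⟨Nat.prime_two⟩
  have hP : IsPGroup 2 ↥(P.subgroupOf Y) := h.isP.comap_of_injective _ Y.subtype_injective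
  let T : Sylow 2 ↥Y := hP.toSylow (Nat.two_dvd_ne_zero.2 (Nat.odd_iff.1 h.odd))
  obtain ⟨T', hT'⟩ := (hQ.comap_of_injective Y.subtype Y.subtype_injective).exists_le_sylow
  obtain ⟨y, hy⟩ := MulAction.exists_smul_eq ↥Y T' T
  refine ⟨y, y.2, fun q hq => ?_⟩
  have hq' : y * ⟨q, hQY hq⟩ * y⁻¹ ∈ (T : Subgroup ↥Y) := by
    rw [← hy, Sylow.coe_subgroup_smul, Subgroup.mem_pointwise_smul_iff_inv_smul_mem]
    convert hT' (show (⟨q, hQY hq⟩ : ↥Y) ∈ Q.comap Y.subtype from hq) using 1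
    ext; simp [MulAut.smul_def, mul_assoc]
  exact hq'

/-- A 2-subgroup of `Y` containing a Sylow 2-subgroup of `Y` is equal to it. -/
theorem IsSylIn.eq_of_le [Finite G] {P Y Q : Subgroup G} (h : IsSylIn P Y) (hPQ : P ≤ Q) (hQY : Q ≤ Y)
    (hQ : IsPGroup 2 Q) : P = Q := by
  haveI : Fact (Nat.Prime 2) := ⟨Nat.prime_two⟩
  obtain ⟨y, -, hy⟩ := h.exists_conj hQY hQ
  refine eq_of_le_of_card_ge hPQ ((card_cj y Q).ge.trans (card_le_of_le ?_))
  rintro _ ⟨q, hq, rfl⟩
  exact hy q hq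

theorem IsSylIn.mono [Finite G] {P Y Z : Subgroup G} (h : IsSylIn P Y) (hPZ : P ≤ Z) (hZY : Z ≤ Y) :
    IsSylIn P Z := by
  refine ⟨hPZ, h.isP, h.odd.of_dvd_nat ?_⟩
  rw [← relIndex_mul_relIndex P Z Y hPZ hZY]
  exact dvd_mul_right _ _

/-- If every element of `L` has a power of two in `N`, then `L` is covered by `N` and a Sylow
2-subgroup. -/
theorem exists_mul_of_pow [Finite G] {L N P : Subgroup G} (hNL : N ≤ L)
    (hn : L ≤ normalizer (N : Set G)) (hpow : ∀ h ∈ L, ∃ k : ℕ, h ^ 2 ^ k ∈ N) (hP : IsSylIn P L) :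
    ∀ h ∈ L, ∃ p ∈ P, ∃ c ∈ N, h = c * p := by
  haveI : Fact (Nat.Prime 2) := ⟨Nat.prime_two⟩
  haveI : (N.subgroupOf L).Normal := normal_subgroupOf_of_le_normalizer hn
  have hq : IsPGroup 2 (↥L ⧸ N.subgroupOf L) := by
    intro x
    obtain ⟨h, rfl⟩ := QuotientGroup.mk'_surjective _ x
    obtain ⟨k, hk⟩ := hpow h h.2
    exact ⟨k, by rw [← map_pow]; exact (QuotientGroup.eq_one_iff _).2 (mem_subgroupOf.2 (by simpa using hk))⟩
  obtain ⟨n, hn2⟩ := hq.exists_card_eq
  have h1 : (N ⊔ P).relIndex L ∣ 2 ^ n := by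
    rw [← hn2, ← index_eq_card, ← relIndex, ← relIndex_mul_relIndex N (N ⊔ P) L le_sup_left
      (sup_le hNL hP.le)]
    exact dvd_mul_left _ _
  have h2 : Odd ((N ⊔ P).relIndex L) := hP.odd.of_dvd_nat (by
    rw [← relIndex_mul_relIndex P (N ⊔ P) L le_sup_right (sup_le hNL hP.le)]
    exact dvd_mul_left _ _)
  obtain ⟨j, -, hj⟩ := (Nat.dvd_prime_pow Nat.prime_two).1 h1
  have h3 : (N ⊔ P).relIndex L = 1 := by
    rcases Nat.eq_zero_or_pos j with rfl | h'
    · simpa using hj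
    · rw [hj] at h2
      exact absurd h2 (Nat.not_odd_iff_even.2 ((Nat.even_pow' h'.ne').2 even_two))
  intro h hh
  obtain ⟨c, hc, p, hp, e⟩ := (Coprime.mem_sup_of_le_normalizer (hP.le.trans hn)).1
    (relIndex_eq_one.1 h3 hh)
  exact ⟨p, hp, c, hc, e.symm⟩

section Transport

variable (φ : G ≃* H)

theorem cset_map (A : Subgroup G) (s : G) (c : H) :
    c ∈ cset (A.map φ.toMonoidHom) (φ s) ↔ φ.symm c ∈ cset A s := by
  constructor
  · rintro ⟨_, ⟨a, ha, rfl⟩, rfl⟩
    exact ⟨a, ha, by simp⟩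
  · rintro ⟨a, ha, e⟩
    exact ⟨φ a, ⟨a, ha, rfl⟩, by simpa using congrArg φ e⟩

theorem card_cent_map (A : Subgroup G) (s : G) :
    Nat.card ↥(A.map φ.toMonoidHom ⊓ centralizer ({φ s} : Set H)) =
      Nat.card ↥(A ⊓ centralizer ({s} : Set G)) := by
  rw [show A.map φ.toMonoidHom ⊓ centralizer ({φ s} : Set H) =
      (A ⊓ centralizer ({s} : Set G)).map φ.toMonoidHom by
    ext x
    rw [Subgroup.mem_map_equiv, mem_cent, mem_cent, Subgroup.mem_map_equiv]
    refine and_congr_right fun _ => ?_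
    exact ⟨fun h => φ.injective (by simpa using h), fun h => by simpa using congrArg φ h⟩]
  exact (Nat.card_congr (equivMapOfInjective _ _ φ.injective).toEquiv).symm

theorem fourPair_map {S A : Subgroup G} {s t : G}
    (h : FourPair (S.map φ.toMonoidHom) (A.map φ.toMonoidHom) (φ s) (φ t)) : FourPair S A s t := by
  have e : ∀ (K : Subgroup G) (x : G), φ x ∈ K.map φ.toMonoidHom ↔ x ∈ K := fun K x => by
    rw [Subgroup.mem_map_equiv, φ.symm_apply_apply]
  obtain ⟨h1, h2, h3, h4, h5, h6, h7, h8⟩ := h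
  simp only [← map_mul, ← map_inv, e] at h1 h2 h3 h4 h5 h6 h7 h8
  exact ⟨h1, h2, h3, h4, h5, h6, h7, h8⟩

theorem isLine_map {A : Subgroup G} {s t e : G} (h : IsLine A s t e) :
    IsLine (A.map φ.toMonoidHom) (φ s) (φ t) (φ e) := by
  refine ⟨fun h1 => h.1 (φ.injective (h1.trans (map_one φ).symm)), fun c => ?_⟩
  rw [cset_map, cset_map, h.2]
  refine or_congr ⟨fun h1 => by simpa using congrArg φ h1, fun h1 => by simp [h1]⟩
    ⟨fun h1 => by simpa using congrArg φ h1, fun h1 => by simp [h1]⟩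

theorem Data.map {S A : Subgroup G} (d : Data S A) :
    Data (S.map φ.toMonoidHom) (A.map φ.toMonoidHom) := by
  have hc : ∀ K : Subgroup G, Nat.card ↥(K.map φ.toMonoidHom) = Nat.card ↥K := fun K =>
    (Nat.card_congr (K.equivMapOfInjective _ φ.injective).toEquiv).symm
  have e : ∀ (K : Subgroup G) (x : G), φ x ∈ K.map φ.toMonoidHom ↔ x ∈ K := fun K x => by
    rw [Subgroup.mem_map_equiv, φ.symm_apply_apply]
  refine ⟨map_mono d.le, (hc A).trans d.cardA, ?_, (hc S).trans d.cardS, ?_, ?_, ?_, ?_, ?_, ?_, ?_,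
    ?_, ?_, ?_, ?_, ?_⟩
  · rintro _ ⟨a, ha, rfl⟩
    rw [← map_mul, d.sqA a ha, map_one]
  · intro B hB hBc hB64
    have h1 := d.uniq (B.comap φ.toMonoidHom) (fun x hx => (e S x).1 (hB hx))
      ⟨⟨fun x y => Subtype.ext (φ.injective (by
        simp only [Subgroup.coe_mul, map_mul]
        exact congrArg Subtype.val (hBc.is_comm.comm ⟨φ x, x.2⟩ ⟨φ y, y.2⟩)))⟩⟩
      ((hc _).symm.trans (by rw [map_comap_eq_self_of_surjective φ.surjective]; exact hB64))
    rw [← h1, map_comap_eq_self_of_surjective φ.surjective]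
  · rintro _ ⟨s, hs, rfl⟩ hsA hss
    obtain ⟨a, ha, h1⟩ := d.split s hs (fun h => hsA ((e A s).2 h)) ((e A _).1 (by simpa using hss))
    exact ⟨φ a, (e A a).2 ha, by simpa using congrArg φ h1⟩
  · rintro _ ⟨s, hs, rfl⟩ hsA hss
    exact (card_cent_map φ A s).trans (d.cent16 s hs (fun h => hsA ((e A s).2 h))
      ((e A _).1 (by simpa using hss)))
  · rintro _ ⟨s, hs, rfl⟩ hss
    exact (card_cent_map φ A s).trans_le (d.cent4 s hs fun h => hss (by simpa using (e A _).2 h))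
  · rw [show A.map φ.toMonoidHom ⊓ centralizer (S.map φ.toMonoidHom : Set H) =
        (A ⊓ centralizer (S : Set G)).map φ.toMonoidHom by
      ext x
      simp only [mem_inf, Subgroup.mem_map_equiv, mem_centralizer_iff]
      refine and_congr_right fun _ => ⟨fun h s hs => φ.injective ?_, fun h s hs => ?_⟩
      · simpa using h (φ s) ((e S s).2 hs)
      · obtain ⟨s, hs', rfl⟩ := hs
        simpa using congrArg φ (h s hs')]
    exact (hc _).trans_le d.centS
  · obtain ⟨u, hu, hu2⟩ := d.square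
    exact ⟨φ u, (e S u).2 hu, fun h => hu2 ((e A _).1 (by simpa using h))⟩
  · intro s t h
    obtain ⟨s, rfl⟩ := φ.surjective s
    obtain ⟨t, rfl⟩ := φ.surjective t
    rw [show A.map φ.toMonoidHom ⊓ centralizer ({φ s} : Set H) ⊓ centralizer ({φ t} : Set H) =
        (A ⊓ centralizer ({s} : Set G) ⊓ centralizer ({t} : Set G)).map φ.toMonoidHom by
      ext x
      simp only [mem_inf, Subgroup.mem_map_equiv, mem_centralizer_one]
      refine and_congr (and_congr_right fun _ => ?_) ?_ <;>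
        exact ⟨fun h => φ.injective (by simpa using h), fun h => by simpa using congrArg φ h⟩]
    exact (hc _).trans (d.fourCent s t (fourPair_map φ h))
  · intro s t h c hc'
    obtain ⟨s, rfl⟩ := φ.surjective s
    obtain ⟨t, rfl⟩ := φ.surjective t
    simpa using (d.fourComm s t (fourPair_map φ h) _ ((cset_map φ A s c).1 hc')).map φ
  · intro s t h c hc' hcs
    obtain ⟨s, rfl⟩ := φ.surjective s
    obtain ⟨t, rfl⟩ := φ.surjective t
    obtain ⟨a, ha, rfl⟩ := hc'
    rw [cset_map]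
    simpa using d.fourMid s t (fourPair_map φ h) a ha
      (by simpa using (hcs : Commute (φ a) (φ s)).map φ.symm)
  · intro s t h
    obtain ⟨s, rfl⟩ := φ.surjective s
    obtain ⟨t, rfl⟩ := φ.surjective t
    obtain ⟨l, hl⟩ := d.fourLine s t (fourPair_map φ h)
    exact ⟨φ l, isLine_map φ hl⟩
  · obtain ⟨s, t, s', t', l, l', h1, h2, h3, h4, h5⟩ := d.twoFours
    refine ⟨φ s, φ t, φ s', φ t', φ l, φ l', ?_, ?_, isLine_map φ h3, isLine_map φ h4,
      fun h => h5 (φ.injective h)⟩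
    · obtain ⟨a1, a2, a3, a4, a5, a6, a7, a8⟩ := h1
      constructor <;> simp only [← map_mul, ← map_inv, e] <;> assumption
    · obtain ⟨a1, a2, a3, a4, a5, a6, a7, a8⟩ := h2
      constructor <;> simp only [← map_mul, ← map_inv, e] <;> assumption
  · rintro _ ⟨s, hs, rfl⟩ hsA hss
    obtain ⟨t, a1, a2, a3, a4, a5, a6, a7, a8⟩ := d.covered s hs (fun h => hsA ((e A s).2 h))
      ((e A _).1 (by simpa using hss))
    refine ⟨φ t, ?_⟩
    constructor <;> simp only [MulEquiv.coe_toMonoidHom, ← map_mul, ← map_inv, e] <;> assumption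

end Transport

namespace Data

variable {S A : Subgroup G} (d : Data S A)

include d

theorem comm {a b : G} (ha : a ∈ A) (hb : b ∈ A) : a * b = b * a := by
  calc a * b = a * (a * b * (a * b)) * b := by rw [d.sqA _ (mul_mem ha hb), mul_one]
    _ = a * a * (b * a) * (b * b) := by group
    _ = b * a := by rw [d.sqA a ha, d.sqA b hb, one_mul, mul_one]

theorem inv_eq {a : G} (ha : a ∈ A) : a⁻¹ = a := inv_eq_of_mul_eq_one_right (d.sqA a ha)

theorem fix {a b : G} (ha : a ∈ A) (hb : b ∈ A) : a * b * a⁻¹ = b := conj_eq_iff.2 (d.comm ha hb)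

theorem isP : IsPGroup 2 S := IsPGroup.of_card (n := 9) (by rw [d.cardS]; rfl)

theorem isP_A : IsPGroup 2 A := d.isP.to_le d.le

variable [Finite G]

theorem normal : S ≤ normalizer (A : Set G) := fun s hs => by
  have he : cj s A = A := d.uniq _
    (by rintro _ ⟨a, ha, rfl⟩; exact mul_mem (mul_mem hs (d.le ha)) (inv_mem hs))
    ⟨⟨by
      rintro ⟨_, a, ha, rfl⟩ ⟨_, b, hb, rfl⟩
      refine Subtype.ext ?_
      simp only [Subgroup.coe_mul, ← map_mul, d.comm ha hb]⟩⟩
    ((card_cj s A).trans d.cardA)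
  exact mem_normalizer_of_conj fun a ha => by
    have := conj_mem_cj (g := s) ha
    rwa [he] at this

theorem le_of_cj_le {g : G} (h : cj g A ≤ S) : cj g A = A :=
  d.uniq _ h ⟨⟨by
    rintro ⟨_, a, ha, rfl⟩ ⟨_, b, hb, rfl⟩
    refine Subtype.ext ?_
    simp only [Subgroup.coe_mul, ← map_mul, d.comm ha hb]⟩⟩ ((card_cj g A).trans d.cardA)

/-- `A` is self-centralizing in `S`. -/
theorem mem_of_centralizes {s : G} (hs : s ∈ S) (h : ∀ a ∈ A, s * a = a * s) : s ∈ A := by
  by_contra hsA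
  have he : A ⊓ centralizer ({s} : Set G) = A := inf_eq_left.2 fun a ha => mem_centralizer_one.2 (h a ha)
  by_cases h2 : s * s ∈ A
  · have := d.cent16 s hs hsA h2
    rw [he, d.cardA] at this
    omega
  · have := d.cent4 s hs h2
    rw [he, d.cardA] at this
    omega

/-- A subgroup of `A` with more than four elements is centralized only by elements with square in `A`. -/
theorem sq_mem_of_centralizes {B : Subgroup G} (hBA : B ≤ A) (hB : 4 < Nat.card ↥B) {s : G} (hs : s ∈ S)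
    (h : ∀ b ∈ B, s * b = b * s) : s * s ∈ A := by
  by_contra h2
  have h1 : Nat.card ↥B ≤ Nat.card ↥(A ⊓ centralizer ({s} : Set G)) :=
    card_le_of_le fun b hb => mem_cent.2 ⟨hBA hb, h b hb⟩
  have := d.cent4 s hs h2
  omega

theorem fourPair {s t : G} (hs : s ∈ S) (ht : t ∈ S) (hsA : s ∉ A) (htA : t ∉ A) (hst : s * t ∉ A)
    (hss : s * s ∈ A) (htt : t * t ∈ A) (hstst : s * t * (s * t) ∈ A) : FourPair S A s t := by
  refine ⟨hs, ht, hsA, htA, hst, hss, htt, ?_⟩
  have e : s * t * s⁻¹ * t⁻¹ = s * t * (s * t) * (t⁻¹ * s⁻¹ * s⁻¹ * t⁻¹) := by group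
  rw [e, show t⁻¹ * s⁻¹ * s⁻¹ * t⁻¹ = t⁻¹ * (s * s)⁻¹ * t⁻¹⁻¹ * (t * t)⁻¹ by group]
  exact mul_mem hstst (mul_mem (conj_mem (inv_mem (d.normal ht)) (inv_mem hss)) (inv_mem htt))

/-- A subgroup of order at least eight of `A` not fixed by a four-pair is centralized by two cosets only. -/
theorem mem_or_mul_mem {B : Subgroup G} (hBA : B ≤ A) (hB : 4 < Nat.card ↥B) {x : G} (hx : x ∈ S)
    (hxA : x ∉ A) (hxB : ∀ b ∈ B, x * b = b * x)
    (hno : ∀ s, FourPair S A x s → (∀ b ∈ B, s * b = b * s) → False) {s : G} (hs : s ∈ S)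
    (hsB : ∀ b ∈ B, s * b = b * s) : s ∈ A ∨ s * x ∈ A := by
  by_contra hc
  push Not at hc
  have hss := d.sq_mem_of_centralizes hBA hB hs hsB
  have hxx := d.sq_mem_of_centralizes hBA hB hx hxB
  have hxs : ∀ b ∈ B, x * s * b = b * (x * s) := fun b hb => by
    rw [mul_assoc, hsB b hb, ← mul_assoc, hxB b hb, mul_assoc]
  have hxsxs := d.sq_mem_of_centralizes hBA hB (mul_mem hx hs) hxs
  refine hno s (d.fourPair hx hs hxA hc.1 (fun h => hc.2 ?_) hxx hss hxsxs) hsB
  have : s * x = x⁻¹ * (x * s) * x⁻¹⁻¹ := by group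
  rw [this]
  exact conj_mem (inv_mem (d.normal hx)) h

end Data

variable [Finite G]

/-- A 2-group containing a conjugate of `A` lies in a Sylow subgroup with the same properties. -/
theorem Data.exists_data {S : Sylow 2 G} {A : Subgroup G} (d : Data (S : Subgroup G) A) {P : Subgroup G}
    (hP : IsPGroup 2 P) {g : G} (h : cj g A ≤ P) :
    ∃ S' : Sylow 2 G, P ≤ (S' : Subgroup G) ∧ Data (S' : Subgroup G) (cj g A) := by
  haveI : Fact (Nat.Prime 2) := ⟨Nat.prime_two⟩
  obtain ⟨S', hS'⟩ := hP.exists_le_sylow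
  obtain ⟨c, hc⟩ := MulAction.exists_smul_eq G S S'
  have hcS : (S' : Subgroup G) = cj c (S : Subgroup G) := by
    rw [← hc, Sylow.coe_subgroup_smul]
    rfl
  have d' : Data (S' : Subgroup G) (cj c A) := hcS ▸ d.map (MulAut.conj c)
  have he : cj g A = cj c A := by
    have := d'.le_of_cj_le (g := g * c⁻¹) (by rw [cj_cj, inv_mul_cancel_right]; exact h.trans hS')
    rwa [cj_cj, inv_mul_cancel_right] at this
  exact ⟨S', hS', he ▸ d'⟩

theorem Data.exists_data_self {S : Sylow 2 G} {A : Subgroup G} (d : Data (S : Subgroup G) A)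
    {P : Subgroup G} (hP : IsPGroup 2 P) (h : A ≤ P) :
    ∃ S' : Sylow 2 G, P ≤ (S' : Subgroup G) ∧ Data (S' : Subgroup G) A := by
  obtain ⟨S', h1, h2⟩ := d.exists_data hP (g := 1) (by rwa [cj_one])
  rw [cj_one] at h2
  exact ⟨S', h1, h2⟩

/-- Weak closure: a 2-group contains at most one conjugate of `A`. -/
theorem Data.cj_eq {S : Sylow 2 G} {A : Subgroup G} (d : Data (S : Subgroup G) A) {P : Subgroup G}
    (hP : IsPGroup 2 P) {g : G} (hA : A ≤ P) (hg : cj g A ≤ P) : cj g A = A := by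
  obtain ⟨S', h1, h2⟩ := d.exists_data_self hP hA
  exact h2.le_of_cj_le (hg.trans h1)

/-- A Sylow 2-subgroup of `Y` containing `A` has its normalizer normalize `A`. -/
theorem Data.normalizer_le {S : Sylow 2 G} {A : Subgroup G} (d : Data (S : Subgroup G) A) {P : Subgroup G}
    (hP : IsPGroup 2 P) (hA : A ≤ P) {n : G} (hn : n ∈ normalizer (P : Set G)) :
    n ∈ normalizer (A : Set G) := by
  have he : cj n A = A := d.cj_eq hP hA (by rintro _ ⟨a, ha, rfl⟩; exact conj_mem hn (hA ha))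
  exact mem_normalizer_of_conj fun a ha => by
    have := conj_mem_cj (g := n) ha
    rwa [he] at this

/-- A 2-subgroup of `Y` is conjugated onto `A` when it is a conjugate of `A`. -/
theorem Data.exists_conj_onto {S : Sylow 2 G} {A : Subgroup G} (d : Data (S : Subgroup G) A)
    {Y : Subgroup G} (hAY : A ≤ Y) {g : G} (hgY : cj g A ≤ Y) : ∃ y ∈ Y, cj (y * g) A = A := by
  obtain ⟨P, hAP, hP⟩ := exists_isSylIn hAY d.isP_A
  obtain ⟨y, hy, h⟩ := hP.exists_conj hgY (d.isP_A.map _)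
  refine ⟨y, hy, d.cj_eq hP.isP hAP ?_⟩
  rw [← cj_cj]
  rintro _ ⟨x, hx, rfl⟩
  exact h x hx

/-- `N_Y(A)` controls the fusion of `A` in `Y`. -/
theorem Data.fusion {S : Sylow 2 G} {A : Subgroup G} (d : Data (S : Subgroup G) A) {Y : Subgroup G}
    (hAY : A ≤ Y) {g a : G} (hg : g ∈ Y) (ha : a ∈ A) (hga : g * a * g⁻¹ ∈ A) :
    ∃ n ∈ Y, n ∈ normalizer (A : Set G) ∧ n * a * n⁻¹ = g * a * g⁻¹ := by
  have hle : cj g A ≤ Y ⊓ centralizer ({g * a * g⁻¹} : Set G) := by
    rintro _ ⟨b, hb, rfl⟩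
    refine ⟨Y.mul_mem (Y.mul_mem hg (hAY hb)) (Y.inv_mem hg), mem_centralizer_one.2 ?_⟩
    simp only [MulEquiv.coe_toMonoidHom, MulAut.conj_apply]
    calc g * a * g⁻¹ * (g * b * g⁻¹) = g * (a * b) * g⁻¹ := by group
      _ = g * b * g⁻¹ * (g * a * g⁻¹) := by rw [d.comm ha hb]; group
  obtain ⟨c, hc, he⟩ := d.exists_conj_onto
    (le_inf hAY fun b hb => mem_centralizer_one.2 (d.comm hga hb)) hle
  refine ⟨c * g, mul_mem hc.1 hg, mem_normalizer_of_conj fun b hb => ?_, ?_⟩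
  · have := conj_mem_cj (g := c * g) hb
    rwa [he] at this
  · calc c * g * a * (c * g)⁻¹ = c * (g * a * g⁻¹) * c⁻¹ := by group
      _ = g * a * g⁻¹ := conj_eq_iff.2 (mem_centralizer_one.1 hc.2).symm

end Cfsg.Agent.M24Type
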