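import Cfsg.Agent.Lib.M24Sylow.Checks

/-!
Checks on the seven non-trivial cosets of the abelian subgroup of order 64 in the Sylow 2-subgroup
of `M24` modulo its centre: centralisers, commutator planes and four-groups.
-/

set_option autoImplicit false
set_option maxRecDepth 30000

namespace Cfsg.Agent.M24Type.Checks

open Cfsg.Agent.M24Sylow Cfsg.Agent.Golay.SylowTwoData Cfsg.Agent.Golay.Cert
  Cfsg.Agent.Golay.TabList

/-- Equality modulo the centre. -/
def eqz (x y : ℕ) : Bool := x == y || x == mulTab y s24Z

/-- Membership in the abelian subgroup. -/
def inA (x : ℕ) : Bool := ctest x gE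

/-- The `i`th representative. -/
def rp (i : ℕ) : ℕ := el (reps.getD i (0, 0)).1

/-- Its inverse. -/
def rpInv (i : ℕ) : ℕ := el (reps.getD i (0, 0)).2

/-- The two representatives map to generators of a four-group. -/
def four (i j : ℕ) : Bool :=
  inA (mulTab (rp i) (rp i)) && inA (mulTab (rp j) (rp j)) && !inA (mulTab (rp i) (rp j)) &&
    inA (mulTab (mulTab (rp i) (rp j)) (mulTab (rpInv i) (rpInv j)))

/-- The commutator of a member of the abelian subgroup with a representative. -/
def comA (i a : ℕ) : ℕ := mulTab (mulTab (mulTab a (rp i)) a) (rpInv i)

/-- The commutator planes of the five involutions, each value with a witness. -/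
def planes : List (List (ℕ × ℕ)) :=
  [[(0, 0), (6, 16), (259, 512), (261, 528)], [(0, 0), (6, 16), (451, 512), (453, 528)],
    [(0, 0), (6, 32), (192, 512), (198, 544)], [(0, 0), (16, 32), (192, 259), (208, 291)],
    [], [], [(0, 0), (22, 32), (192, 259), (214, 291)]]

/-- The indices of the five involutions. -/
def invs : List ℕ := [0, 1, 2, 3, 6]

/-- The line of a four-group. -/
def line (i j : ℕ) : ℕ := if i + j ≤ 3 ∧ i ≤ 2 ∧ j ≤ 2 then 6 else 192

def invOK : Bool :=
  (List.range 7).all fun i => !inA (rp i) && eqz (mulTab (rpInv i) (rp i)) idTab &&
    eqz (mulTab (rp i) (rpInv i)) idTab &&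
    (invs.contains i == inA (mulTab (rp i) (rp i))) &&
    (!invs.contains i || eqz (mulTab (rp i) (rp i)) idTab)

def centOK : Bool :=
  ((List.range 7).all fun i =>
    if inA (mulTab (rp i) (rp i)) then (eList.filter fun a => ctest a (rp i)).length == 32
    else (eList.filter fun a => ctest a (rp i)).length ≤ 8) &&
    (eList.filter fun a => (List.range 7).all fun i => ctest a (rp i)).length ≤ 8 &&
    !inA (mulTab (rp 4) (rp 4))

/-- The planes are the sets of commutators. -/
def planeOK : Bool :=
  invs.all fun i =>
    ((planes.getD i []).all fun p => inA (el p.2) && eqz (comA i (el p.2)) (el p.1)) &&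
    (eList.all fun a => (planes.getD i []).any fun p => eqz (comA i a) (el p.1))

def fourOK : Bool :=
  ((List.range 7).all fun i => (List.range 7).all fun j => !four i j ||
    (invs.contains i && invs.contains j &&
      (eList.filter fun a => ctest a (rp i) && ctest a (rp j)).length == 16 &&
      ((planes.getD i []).all fun p => ctest (el p.1) (rp j)) &&
      (eList.all fun a => !ctest a (rp i) || (planes.getD i []).any fun p => eqz (comA j a) (el p.1)) &&
      !eqz (el (line i j)) idTab &&
      (planes.getD i []).any (fun p => eqz (el p.1) (el (line i j))) &&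
      (planes.getD j []).any (fun p => eqz (el p.1) (el (line i j))) &&
      ((planes.getD i []).all fun p => (planes.getD j []).all fun q => !eqz (el p.1) (el q.1) ||
        eqz (el p.1) idTab || eqz (el p.1) (el (line i j))))) &&
    (invs.all fun i => invs.any fun j => four i j) &&
    four 0 1 && four 2 3 && !eqz (el (line 0 1)) (el (line 2 3))

theorem inv_check : invOK = true := by decide +kernel

theorem cent_check : centOK = true := by decide +kernel

theorem plane_check : planeOK = true := by decide +kernel

theorem four_check : fourOK = true := by decide +kernel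

end Cfsg.Agent.M24Type.Checks
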