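import Cfsg.Agent.Lib.M24Type.Basic

/-!
# `A` is strongly closed

An involution `x` of `S` outside `A` lying in a conjugate `A''` of `A` is impossible: with `W = C_A(x)` and
`B = W ⊓ A''`, either `W ≤ A''`, against Burnside in `C(W)/W`, or `A` and `A''` normalize `E = W⟨x⟩` and induce
on it more automorphisms than `C_S(B)` allows.
-/

set_option autoImplicit false
set_option linter.style.haveILetI false
set_option linter.unusedSectionVars false

open Subgroup

universe u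

namespace Cfsg.Agent.M24Type

variable {G : Type u} [Group G] [Finite G]

namespace Data

variable {S A : Subgroup G} (d : Data S A)

include d

theorem cset_le {s : G} (hs : s ∈ S) {c : G} (hc : c ∈ cset A s) : c ∈ A := by
  obtain ⟨a, ha, rfl⟩ := hc
  rw [show a * s * a⁻¹ * s⁻¹ = a * (s * a⁻¹ * s⁻¹) by group]
  exact mul_mem ha (conj_mem (d.normal hs) (inv_mem ha))

/-- Commutators with an element with square in `A` are centralized by it. -/
theorem cset_comm {s : G} (hs : s ∈ S) (hss : s * s ∈ A) {c : G} (hc : c ∈ cset A s) : s * c = c * s := by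
  obtain ⟨a, ha, rfl⟩ := hc
  have h1 : s * s * a⁻¹ = a⁻¹ * (s * s) := d.comm hss (inv_mem ha)
  have e : s * (a * s * a⁻¹ * s⁻¹) = s * a * s⁻¹ * (s * s * a⁻¹) * s⁻¹ := by group
  rw [e, h1, show s * a * s⁻¹ * (a⁻¹ * (s * s)) * s⁻¹ = s * a * s⁻¹ * a⁻¹ * s by group]
  have h2 := d.inv_eq ha
  have hsa := conj_mem (d.normal hs) ha
  have h3 := d.inv_eq hsa
  rw [h2, show a * s * a * s⁻¹ * s = a * (s * a * s⁻¹) * s by group, d.comm hsa ha]

/-- The map `a ↦ [a, s]` on `A`. -/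
def comHom {s : G} (hs : s ∈ S) : ↥A →* ↥A :=
  MonoidHom.mk' (fun a => ⟨(a : G) * s * (a : G)⁻¹ * s⁻¹, d.cset_le hs ⟨a, a.2, rfl⟩⟩) fun a b => by
    refine Subtype.ext ?_
    simp only [Subgroup.coe_mul]
    calc (a : G) * b * s * ((a : G) * b)⁻¹ * s⁻¹
        = (a : G) * ((b : G) * s * (b : G)⁻¹ * s⁻¹) * (a : G)⁻¹ * ((a : G) * s * (a : G)⁻¹ * s⁻¹) := by group
      _ = (b : G) * s * (b : G)⁻¹ * s⁻¹ * ((a : G) * s * (a : G)⁻¹ * s⁻¹) := by
        rw [d.fix a.2 (d.cset_le hs ⟨b, b.2, rfl⟩)]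
      _ = _ := d.comm (d.cset_le hs ⟨b, b.2, rfl⟩) (d.cset_le hs ⟨a, a.2, rfl⟩)

theorem card_cset {s : G} (hs : s ∈ S) (hsA : s ∉ A) (hss : s * s ∈ A) :
    Nat.card {c // c ∈ cset A s} = 4 := by
  set f := d.comHom hs
  have hk : f.ker = (A ⊓ centralizer ({s} : Set G)).subgroupOf A := by
    ext a
    simp only [MonoidHom.mem_ker, mem_subgroupOf, mem_cent, Subtype.ext_iff]
    change (a : G) * s * (a : G)⁻¹ * s⁻¹ = 1 ↔ _
    rw [mul_inv_eq_one, conj_eq_iff]
    exact ⟨fun h => ⟨a.2, h.symm⟩, fun h => h.2.symm⟩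
  have h1 := card_mul_index f.ker
  rw [Subgroup.index_ker, hk, Nat.card_congr (subgroupOfEquivOfLe inf_le_left).toEquiv,
    d.cent16 s hs hsA hss, d.cardA] at h1
  let e : ↥f.range ≃ {c // c ∈ cset A s} :=
    { toFun := fun c => ⟨((c : ↥A) : G), by
        obtain ⟨⟨a, ha⟩, h⟩ := c.2
        exact ⟨a, ha, congrArg Subtype.val h⟩⟩
      invFun := fun c => ⟨⟨c, d.cset_le hs c.2⟩, by
        obtain ⟨a, ha, h⟩ := c.2
        exact ⟨⟨a, ha⟩, Subtype.ext h⟩⟩
      left_inv := fun c => rfl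
      right_inv := fun c => rfl }
  rw [← Nat.card_congr e]
  omega

theorem cset_mul {s : G} (hs : s ∈ S) {c c' : G} (hc : c ∈ cset A s) (hc' : c' ∈ cset A s) :
    c * c' ∈ cset A s := by
  obtain ⟨a, ha, rfl⟩ := hc
  obtain ⟨b, hb, rfl⟩ := hc'
  exact ⟨a * b, mul_mem ha hb, congrArg Subtype.val ((d.comHom hs).map_mul ⟨a, ha⟩ ⟨b, hb⟩)⟩

/-- An elementary abelian subgroup outside a subgroup of index two. -/
theorem mem_or_of_card {B L : Subgroup G} (hBL : B ≤ L) (h : Nat.card ↥L = 2 * Nat.card ↥B) {w : G}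
    (hwL : w ∈ L) (hwB : w ∉ B) {k : G} (hk : k ∈ L) : k ∈ B ∨ k * w ∈ B := by
  have hr : B.relIndex L = 2 := by
    have h1 := card_mul_index (B.subgroupOf L)
    rw [Nat.card_congr (subgroupOfEquivOfLe hBL).toEquiv, h, mul_comm 2] at h1
    exact Nat.eq_of_mul_eq_mul_left Nat.card_pos h1
  by_cases hkB : k ∈ B
  · exact Or.inl hkB
  · have h2 : (B.subgroupOf L).index = 2 := hr
    have h3 := (Subgroup.mul_mem_iff_of_index_two h2 (a := ⟨k, hk⟩) (b := ⟨w, hwL⟩)).2
      (by simp [mem_subgroupOf, hkB, hwB])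
    exact Or.inr h3

end Data

variable {S : Sylow 2 G} {A : Subgroup G}

/-- The case `C_A(x) ≤ A''`. -/
theorem closure_full (d : Data (S : Subgroup G) A) {x : G} (hxS : x ∈ (S : Subgroup G)) (hxA : x ∉ A)
    (hxx : x * x = 1) {g : G} (hW : A ⊓ centralizer ({x} : Set G) ≤ cj g A) (hxg : x ∈ cj g A) : False := by
  haveI : Fact (Nat.Prime 2) := ⟨Nat.prime_two⟩
  set W := A ⊓ centralizer ({x} : Set G) with hWdef
  have hxxA : x * x ∈ A := hxx ▸ one_mem A
  have hW16 : Nat.card ↥W = 16 := d.cent16 x hxS hxA hxxA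
  set Y := centralizer (W : Set G)
  have hxY : x ∈ Y := mem_centralizer_iff.2 fun u hu => (mem_cent.1 hu).2.symm
  have hAY : A ≤ Y := fun a ha => mem_centralizer_iff.2 fun u hu => d.comm (mem_cent.1 hu).1 ha
  have hgY : cj g A ≤ Y := by
    rintro _ ⟨b, hb, rfl⟩
    refine mem_centralizer_iff.2 fun u hu => ?_
    obtain ⟨a, ha, rfl⟩ := hW hu
    simp only [MulEquiv.coe_toMonoidHom, ← map_mul, d.comm ha hb]
  have hxn : x ∈ normalizer (A : Set G) := d.normal hxS
  set R := adj A x hxxA hxn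
  have hRY : R ≤ Y := fun k hk => by
    rcases hk with h | h
    · exact hAY h
    · simpa using mul_mem (hAY h) (inv_mem hxY)
  -- `A⟨x⟩` is a Sylow subgroup of `C(W)`
  obtain ⟨P, hRP, hP⟩ := exists_isSylIn hRY (isPGroup_adj d.isP_A)
  have hR : IsSylIn R Y := by
    obtain ⟨S', hPS, d'⟩ := d.exists_data_self hP.isP (le_adj.trans hRP)
    have hle : P ≤ R := fun p hp => by
      refine d'.mem_or_mul_mem inf_le_left (show 4 < Nat.card ↥W by omega) (hPS (hRP self_mem_adj)) hxA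
        (fun b hb => (mem_cent.1 hb).2) (fun s hs hsW => ?_) (hPS hp)
        (fun b hb => ((mem_centralizer_iff.1 (hP.le hp)) b hb).symm)
      have h8 := d'.fourCent x s hs
      have : W ≤ A ⊓ centralizer ({x} : Set G) ⊓ centralizer ({s} : Set G) :=
        fun b hb => ⟨hb, mem_centralizer_one.2 (hsW b hb)⟩
      have := card_le_of_le this
      omega
    exact (le_antisymm hle hRP) ▸ hP
  obtain ⟨y, hy, hye⟩ := d.exists_conj_onto hAY hgY
  set x' := y * x * y⁻¹ with hx'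
  have hx'A : x' ∈ A := by
    rw [← hye, ← cj_cj]
    exact conj_mem_cj hxg
  have hfixW : ∀ h ∈ Y, ∀ u ∈ W, h * u * h⁻¹ = u := fun h hh u hu =>
    conj_eq_iff.2 (mem_centralizer_iff.1 hh u hu).symm
  -- the elements of `C(W)` centralizing `x'` modulo `W`
  let Z : Subgroup G :=
    { carrier := {h | h ∈ Y ∧ h * x' * h⁻¹ * x'⁻¹ ∈ W}
      mul_mem' := by
        rintro h k ⟨hh, hh'⟩ ⟨hk, hk'⟩
        refine ⟨mul_mem hh hk, ?_⟩
        rw [show h * k * x' * (h * k)⁻¹ * x'⁻¹ =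
          h * (k * x' * k⁻¹ * x'⁻¹) * h⁻¹ * (h * x' * h⁻¹ * x'⁻¹) by group, hfixW h hh _ hk']
        exact mul_mem hk' hh'
      one_mem' := ⟨one_mem Y, by simp⟩
      inv_mem' := by
        rintro h ⟨hh, hh'⟩
        refine ⟨inv_mem hh, ?_⟩
        rw [show h⁻¹ * x' * h⁻¹⁻¹ * x'⁻¹ = h⁻¹ * (h * x' * h⁻¹ * x'⁻¹)⁻¹ * h⁻¹⁻¹ by group,
          hfixW _ (inv_mem hh) _ (inv_mem hh')]
        exact inv_mem hh' }
  have hAZ : A ≤ Z := fun a ha => ⟨hAY ha, by rw [d.fix ha hx'A, mul_inv_cancel]; exact one_mem W⟩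
  have hxZ : x ∈ Z := ⟨hxY, by
    have hc : x'  * x * x'⁻¹ * x⁻¹ ∈ cset A x := ⟨x', hx'A, rfl⟩
    rw [show x * x' * x⁻¹ * x'⁻¹ = (x' * x * x'⁻¹ * x⁻¹)⁻¹ by group]
    exact inv_mem (mem_cent.2 ⟨d.cset_le hxS hc, d.cset_comm hxS hxxA hc⟩)⟩
  have hRZ : R ≤ Z := fun k hk => by
    rcases hk with h | h
    · exact hAZ h
    · simpa using mul_mem (hAZ h) (inv_mem hxZ)
  have hcZ : cj y R ≤ Z := by
    have key : R ≤ Z.comap (MulAut.conj y).toMonoidHom := by
      have hA' : A ≤ Z.comap (MulAut.conj y).toMonoidHom := fun a ha => by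
        refine ⟨mul_mem (mul_mem hy (hAY ha)) (inv_mem hy), ?_⟩
        simp only [MulEquiv.coe_toMonoidHom, MulAut.conj_apply, hx']
        have hc : a * x * a⁻¹ * x⁻¹ ∈ W := mem_cent.2
          ⟨d.cset_le hxS ⟨a, ha, rfl⟩, d.cset_comm hxS hxxA ⟨a, ha, rfl⟩⟩
        rw [show y * a * y⁻¹ * (y * x * y⁻¹) * (y * a * y⁻¹)⁻¹ * (y * x * y⁻¹)⁻¹ =
          y * (a * x * a⁻¹ * x⁻¹) * y⁻¹ by group, hfixW y hy _ hc]
        exact hc
      have hx'' : x ∈ Z.comap (MulAut.conj y).toMonoidHom := by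
        refine ⟨mul_mem (mul_mem hy hxY) (inv_mem hy), ?_⟩
        simp only [MulEquiv.coe_toMonoidHom, MulAut.conj_apply, ← hx']
        simp
      intro k hk
      rcases hk with h | h
      · exact hA' h
      · simpa using mul_mem (hA' h) (inv_mem hx'')
    exact map_le_iff_le_comap.2 key
  obtain ⟨y', hy', hconj⟩ := (hR.mono hRZ (fun k hk => hk.1)).exists_conj hcZ (hR.isP.map _)
  have hn : y' * y ∈ normalizer (R : Set G) := mem_normalizer_of_conj fun k hk => by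
    have := hconj _ (conj_mem_cj hk)
    rwa [show y' * (y * k * y⁻¹) * y'⁻¹ = y' * y * k * (y' * y)⁻¹ by group] at this
  have hnA := d.normalizer_le hR.isP le_adj hn
  refine hxA ((mem_normalizer_iff.1 hnA x).2 ?_)
  rw [show y' * y * x * (y' * y)⁻¹ = y' * x' * y'⁻¹ * x'⁻¹ * x' by rw [hx']; group]
  exact mul_mem (mem_cent.1 hy'.2).1 hx'A

/-- The case `C_A(x) ≰ A''`. -/
theorem closure_part (d : Data (S : Subgroup G) A) {x : G} (hxS : x ∈ (S : Subgroup G)) (hxA : x ∉ A)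
    (hxx : x * x = 1) {g : G} {S'' : Sylow 2 G} (d'' : Data (S'' : Subgroup G) (cj g A))
    (hWS : A ⊓ centralizer ({x} : Set G) ≤ (S'' : Subgroup G)) (hxg : x ∈ cj g A)
    {w : G} (hw : w ∈ A ⊓ centralizer ({x} : Set G)) (hwg : w ∉ cj g A) : False := by
  haveI : Fact (Nat.Prime 2) := ⟨Nat.prime_two⟩
  set W := A ⊓ centralizer ({x} : Set G) with hWdef
  set A' := cj g A
  have hxxA : x * x ∈ A := hxx ▸ one_mem A
  have hW16 : Nat.card ↥W = 16 := d.cent16 x hxS hxA hxxA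
  have hWA : W ≤ A := inf_le_left
  have hWx : ∀ u ∈ W, x * u = u * x := fun u hu => (mem_cent.1 hu).2
  have hWW : ∀ u ∈ W, ∀ v ∈ W, u * v = v * u := fun u hu v hv => d.comm (hWA hu) (hWA hv)
  have hW2 : ∀ u ∈ W, u * u = 1 := fun u hu => d.sqA u (hWA hu)
  have hxnW : x ∈ normalizer (W : Set G) := mem_normalizer_of_conj fun u hu => by
    rw [conj_eq_iff.2 (hWx u hu)]; exact hu
  set B := W ⊓ A'
  have hBW : B ≤ W := inf_le_left
  have hxnB : x ∈ normalizer (B : Set G) := mem_normalizer_of_conj fun u hu => by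
    rw [conj_eq_iff.2 (hWx u (hBW hu))]; exact hu
  set E := adj W x (by rw [hxx]; exact one_mem W) hxnW with hE
  set F := adj B x (by rw [hxx]; exact one_mem B) hxnB with hF
  have hxB : x ∉ B := fun h => hxA (hWA (hBW h))
  have hFA' : F ≤ A' := fun k hk => by
    rcases hk with h | h
    · exact h.2
    · simpa using A'.mul_mem h.2 (A'.inv_mem hxg)
  have hFW : ∀ u ∈ W, ∀ f ∈ F, u * f = f * u := fun u hu f hf => by
    rcases hf with h | h
    · exact hWW u hu f (hBW h)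
    · have h1 : Commute u (f * x) := hWW u hu _ (hBW h)
      have h2 : Commute u x⁻¹ := (Commute.inv_right (hWx u hu).symm)
      simpa using (h1.mul_right h2).eq
  -- `A'` moves `W` inside `F`
  have hcomm : ∀ u ∈ W, ∀ a ∈ A', a * u * a⁻¹ * u⁻¹ ∈ F := by
    let K : Subgroup G :=
      { carrier := {u | u ∈ W ∧ ∀ a ∈ A', a * u * a⁻¹ * u⁻¹ ∈ F}
        mul_mem' := by
          rintro u v ⟨hu, hu'⟩ ⟨hv, hv'⟩
          refine ⟨mul_mem hu hv, fun a ha => ?_⟩
          rw [show a * (u * v) * a⁻¹ * (u * v)⁻¹ =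
            a * u * a⁻¹ * u⁻¹ * (u * (a * v * a⁻¹ * v⁻¹) * u⁻¹) by group,
            conj_eq_iff.2 (hFW u hu _ (hv' a ha))]
          exact mul_mem (hu' a ha) (hv' a ha)
        one_mem' := ⟨one_mem W, fun a _ => by simp⟩
        inv_mem' := fun {u} h => by
          rwa [show u⁻¹ = u from inv_eq_of_mul_eq_one_right (hW2 u h.1)] }
    have hBK : ∀ u ∈ B, u ∈ K := fun u hu => ⟨hBW hu, fun a ha => by
      rw [d''.fix ha hu.2, mul_inv_cancel]; exact one_mem F⟩
    have hwS := hWS hw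
    have hw2 : w * w ∈ A' := by rw [hW2 w hw]; exact one_mem A'
    have hmem : ∀ a ∈ A', a * w * a⁻¹ * w⁻¹ ∈ A' ⊓ centralizer ({w} : Set G) := fun a ha =>
      mem_cent.2 ⟨d''.cset_le hwS ⟨a, ha, rfl⟩, d''.cset_comm hwS hw2 ⟨a, ha, rfl⟩⟩
    have hwnB : w ∈ normalizer (B : Set G) := mem_normalizer_of_conj fun u hu => by
      rw [conj_eq_iff.2 (hWW w hw u (hBW hu))]; exact hu
    set T1 := adj B w (by rw [hW2 w hw]; exact one_mem B) hwnB with hT1
    have hwB : w ∉ B := fun h => hwg h.2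
    have hT1W : T1 ≤ W := fun k hk => by
      rcases hk with h | h
      · exact hBW h
      · simpa using mul_mem (hBW h) (inv_mem hw)
    by_cases h1 : W ≤ T1
    · have hc : Nat.card ↥W = 2 * Nat.card ↥B := by
        rw [le_antisymm h1 hT1W, card_adj hwB]
      have hFe : A' ⊓ centralizer ({w} : Set G) = F := by
        refine (eq_of_le_of_card_ge (fun k hk => mem_cent.2 ⟨hFA' hk, hFW w hw k hk⟩) ?_).symm
        rw [d''.cent16 w hwS hwg hw2, card_adj hxB]
        omega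
      have hwK : w ∈ K := ⟨hw, fun a ha => hFe ▸ hmem a ha⟩
      intro u hu
      rcases h1 hu with h | h
      · exact (hBK u h).2
      · have : u ∈ K := by simpa using mul_mem (hBK _ h) (inv_mem hwK)
        exact this.2
    obtain ⟨v, hv, hvT⟩ := SetLike.not_le_iff_exists.1 h1
    have hvA : v ∉ A' := fun h => hvT (le_adj ⟨hv, h⟩)
    have hwvA : w * v ∉ A' := fun h => hvT (Or.inr (by
      rw [← hWW w hw v hv]
      exact ⟨mul_mem hw hv, h⟩))
    have hvS := hWS hv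
    have hv2 : v * v ∈ A' := by rw [hW2 v hv]; exact one_mem A'
    have hfp : FourPair (S'' : Subgroup G) A' w v :=
      d''.fourPair hwS hvS hwg hvA hwvA hw2 hv2 (by rw [hW2 _ (mul_mem hw hv)]; exact one_mem A')
    have hfp' : FourPair (S'' : Subgroup G) A' v w :=
      d''.fourPair hvS hwS hvA hwg (hWW w hw v hv ▸ hwvA) hv2 hw2
        (by rw [hW2 _ (mul_mem hv hw)]; exact one_mem A')
    have hvnT : v ∈ normalizer (T1 : Set G) := mem_normalizer_of_conj fun u hu => by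
      rw [conj_eq_iff.2 (hWW v hv u (hT1W hu))]; exact hu
    set T2 := adj T1 v (by rw [hW2 v hv]; exact one_mem T1) hvnT with hT2
    have hT2W : T2 ≤ W := fun k hk => by
      rcases hk with h | h
      · exact hT1W h
      · simpa using mul_mem (hT1W h) (inv_mem hv)
    have hT2c : Nat.card ↥T2 = 4 * Nat.card ↥B := by rw [card_adj hvT, card_adj hwB]; ring
    by_cases h2 : W ≤ T2
    · have hc : Nat.card ↥W = 4 * Nat.card ↥B := by rw [le_antisymm h2 hT2W, hT2c]
      have hFe : A' ⊓ centralizer ({w} : Set G) ⊓ centralizer ({v} : Set G) = F := by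
        refine (eq_of_le_of_card_ge (fun k hk => mem_inf.2 ⟨mem_cent.2 ⟨hFA' hk, hFW w hw k hk⟩,
          mem_centralizer_one.2 (hFW v hv k hk)⟩) ?_).symm
        rw [d''.fourCent w v hfp, card_adj hxB]
        omega
      have hwK : w ∈ K := ⟨hw, fun a ha => hFe ▸ ⟨hmem a ha,
        mem_centralizer_one.2 (d''.fourComm w v hfp _ ⟨a, ha, rfl⟩).eq.symm⟩⟩
      have hvK : v ∈ K := ⟨hv, fun a ha => hFe ▸ ⟨mem_cent.2 ⟨d''.cset_le hvS ⟨a, ha, rfl⟩,
        (d''.fourComm v w hfp' _ ⟨a, ha, rfl⟩).eq.symm⟩,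
        mem_centralizer_one.2 (d''.cset_comm hvS hv2 ⟨a, ha, rfl⟩)⟩⟩
      have hT1K : T1 ≤ K := fun k hk => by
        rcases hk with h | h
        · exact hBK k h
        · simpa using mul_mem (hBK _ h) (inv_mem hwK)
      intro u hu
      rcases h2 hu with h | h
      · exact (hT1K h).2
      · have : u ∈ K := by simpa using mul_mem (hT1K h) (inv_mem hvK)
        exact this.2
    exfalso
    -- eight cosets: `S''/A'` would be elementary abelian
    have hlt : Nat.card ↥T2 < 16 := hW16 ▸ lt_of_le_of_ne (card_le_of_le hT2W)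
      fun h => h2 (eq_of_le_of_card_ge hT2W h.ge).ge
    have hdvd : Nat.card ↥T2 ∣ 16 := hW16 ▸ card_dvd_of_le hT2W
    have hB2 : Nat.card ↥B ≤ 2 := by
      have : Nat.card ↥T2 ≤ 8 := by
        obtain ⟨i, hi, e⟩ := (Nat.dvd_prime_pow Nat.prime_two).1 (show Nat.card ↥T2 ∣ 2 ^ 4 from hdvd)
        interval_cases i <;> omega
      omega
    have h8 : 8 ≤ A'.relIndex (A' ⊔ W) := by
      refine le_trans ?_ (relIndex_le_of_le_right le_sup_right (index_ne_zero_of_finite))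
      have h := card_mul_index (B.subgroupOf W)
      rw [Nat.card_congr (subgroupOfEquivOfLe hBW).toEquiv, hW16, ← relIndex] at h
      rw [← inf_relIndex_right A' W, inf_comm]
      change 8 ≤ B.relIndex W
      nlinarith
    have htop : A' ⊔ W = (S'' : Subgroup G) := by
      refine eq_of_le_of_card_ge (sup_le d''.le hWS) ?_
      have h := card_mul_index (A'.subgroupOf (A' ⊔ W))
      rw [Nat.card_congr (subgroupOfEquivOfLe le_sup_left).toEquiv, d''.cardA, ← relIndex] at h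
      rw [d''.cardS]
      omega
    obtain ⟨s, hs, hs2⟩ := d''.square
    rw [← htop] at hs
    obtain ⟨a, ha, u, hu, rfl⟩ := (Coprime.mem_sup_of_le_normalizer (hWS.trans d''.normal)).1 hs
    refine hs2 ?_
    rw [show a * u * (a * u) = a * (u * a * u⁻¹) * (u * u) by group, hW2 u hu, mul_one]
    exact mul_mem ha (conj_mem (d''.normal (hWS hu)) ha)
  -- `A` and `A'` normalize `E`
  have hFE : F ≤ E := fun k hk => hk.elim (fun h => le_adj (hBW h)) fun h => Or.inr (hBW h)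
  have hAE : A ≤ normalizer (E : Set G) := fun a ha => mem_normalizer_of_conj fun e he => by
    rcases he with h | h
    · rw [d.fix ha (hWA h)]; exact Or.inl h
    · right
      have hc : a * x * a⁻¹ * x⁻¹ ∈ cset A x := ⟨a, ha, rfl⟩
      have hxi : x⁻¹ = x := inv_eq_of_mul_eq_one_right hxx
      have e' : a * e * a⁻¹ * x = a * (e * x) * a⁻¹ * (a * x * a⁻¹ * x⁻¹) := by
        calc a * e * a⁻¹ * x = a * (e * x) * a⁻¹ * (a * x⁻¹ * a⁻¹ * x) := by group
          _ = a * (e * x) * a⁻¹ * (a * x * a⁻¹ * x⁻¹) := by rw [hxi]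
      rw [e', d.fix ha (hWA h)]
      exact mul_mem h (mem_cent.2 ⟨d.cset_le hxS hc, d.cset_comm hxS hxxA hc⟩)
  have hA'E : A' ≤ normalizer (E : Set G) := fun a ha => mem_normalizer_of_conj fun e he => by
    have hx1 : a * x * a⁻¹ = x := d''.fix ha hxg
    have hu : ∀ u ∈ W, a * u * a⁻¹ ∈ E := fun u hu => by
      have := mul_mem (hFE (hcomm u hu a ha)) (le_adj (hw := by rw [hxx]; exact one_mem W) (hn := hxnW) hu)
      simpa using this
    rcases he with h | h
    · exact hu e h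
    · have := mul_mem (hu _ h) (inv_mem (self_mem_adj : x ∈ E))
      rwa [show a * (e * x) * a⁻¹ * x⁻¹ = a * e * a⁻¹ * (a * x * a⁻¹ * x⁻¹) by group, hx1,
        mul_inv_cancel, mul_one] at this
  have hBc : ∀ b ∈ B, ∀ a ∈ A, a * b * a⁻¹ = b := fun b hb a ha => d.fix ha (hWA (hBW hb))
  set Y := normalizer (E : Set G) ⊓ centralizer (B : Set G)
  have hAY : A ≤ Y := le_inf hAE fun a ha => mem_centralizer_iff.2 fun b hb =>
    d.comm (hWA (hBW hb)) ha
  have hA'Y : A' ≤ Y := le_inf hA'E fun a ha => mem_centralizer_iff.2 fun b hb => d''.comm hb.2 ha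
  obtain ⟨c, hc, hce⟩ := d.exists_conj_onto hAY hA'Y
  have hcA : ∀ a ∈ A', c * a * c⁻¹ ∈ A := fun a ha => by
    rw [← hce, ← cj_cj]; exact conj_mem_cj ha
  have hcA' : ∀ a, c * a * c⁻¹ ∈ A → a ∈ A' := fun a ha => by
    rw [← hce, ← cj_cj, mem_cj] at ha
    simpa [mul_assoc] using ha
  have hcB : ∀ b ∈ B, c * b * c⁻¹ = b := fun b hb => conj_eq_iff.2 (mem_centralizer_iff.1 hc.2 b hb).symm
  have hEA : E ⊓ A = W := le_antisymm (fun e he => he.1.elim id fun h =>
      absurd (by simpa using A.mul_mem (A.inv_mem he.2) (hWA h) : x ∈ A) hxA)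
    (le_inf le_adj hWA)
  have hEA' : E ⊓ A' = F := le_antisymm
    (fun e he => he.1.elim (fun h => Or.inl ⟨h, he.2⟩) fun h => Or.inr ⟨h, mul_mem he.2 hxg⟩)
    (le_inf hFE hFA')
  have hF16 : Nat.card ↥F = 16 := by
    rw [← hW16, ← hEA, ← hEA', ← card_cj c (E ⊓ A')]
    congr 2
    ext k
    rw [mem_cj, mem_inf, mem_inf]
    have h1 : c⁻¹ * k * c ∈ E ↔ k ∈ E := by
      simpa using ((mem_normalizer_iff.1 (inv_mem hc.1)) k).symm
    refine and_congr h1 ⟨fun h => by simpa [mul_assoc] using hcA _ h, fun h => hcA' _ ?_⟩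
    simpa [mul_assoc] using h
  have hB8 : Nat.card ↥B = 8 := by rw [card_adj hxB] at hF16; omega
  have hwB : w ∉ B := fun h => hwg h.2
  have hWcos : ∀ u ∈ W, u ∈ B ∨ u * w ∈ B := fun u hu => d.mem_or_of_card hBW (by omega) hw hwB hu
  have hwS := hWS hw
  have hw2 : w * w ∈ A' := by rw [hW2 w hw]; exact one_mem A'
  -- the stabilizer of the series `1 ≤ B ≤ W ≤ E`
  let L : Subgroup G :=
    { carrier := {h | (∀ b ∈ B, h * b * h⁻¹ = b) ∧ (∀ u ∈ W, h * u * h⁻¹ * u⁻¹ ∈ B) ∧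
        h * x * h⁻¹ * x⁻¹ ∈ W}
      mul_mem' := by
        rintro h k ⟨h1, h2, h3⟩ ⟨k1, k2, k3⟩
        refine ⟨fun b hb => ?_, fun u hu => ?_, ?_⟩
        · rw [show h * k * b * (h * k)⁻¹ = h * (k * b * k⁻¹) * h⁻¹ by group, k1 b hb, h1 b hb]
        · rw [show h * k * u * (h * k)⁻¹ * u⁻¹ =
            h * (k * u * k⁻¹ * u⁻¹) * h⁻¹ * (h * u * h⁻¹ * u⁻¹) by group, h1 _ (k2 u hu)]
          exact mul_mem (k2 u hu) (h2 u hu)
        · rw [show h * k * x * (h * k)⁻¹ * x⁻¹ =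
            h * (k * x * k⁻¹ * x⁻¹) * h⁻¹ * (h * x * h⁻¹ * x⁻¹) by group]
          refine mul_mem ?_ h3
          have h4 := mul_mem (hBW (h2 _ k3)) k3
          rwa [inv_mul_cancel_right] at h4
      one_mem' := ⟨fun b _ => by simp, fun u _ => by simp, by simp⟩
      inv_mem' := by
        rintro h ⟨h1, h2, h3⟩
        have hb : ∀ b ∈ B, h⁻¹ * b * h⁻¹⁻¹ = b := fun b hb => by
          conv_lhs => rw [← h1 b hb]
          group
        have hu : ∀ u ∈ W, h⁻¹ * u * h⁻¹⁻¹ * u⁻¹ ∈ B := fun u hu => by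
          rw [show h⁻¹ * u * h⁻¹⁻¹ * u⁻¹ = h⁻¹ * (h * u * h⁻¹ * u⁻¹)⁻¹ * h⁻¹⁻¹ by group,
            hb _ (inv_mem (h2 u hu))]
          exact inv_mem (h2 u hu)
        refine ⟨hb, hu, ?_⟩
        rw [show h⁻¹ * x * h⁻¹⁻¹ * x⁻¹ = h⁻¹ * (h * x * h⁻¹ * x⁻¹)⁻¹ * h⁻¹⁻¹ by group]
        have h4 := mul_mem (hBW (hu _ (inv_mem h3))) (inv_mem h3)
        rwa [inv_mul_cancel_right] at h4 }
  have hLE : ∀ h ∈ L, ∀ e ∈ E, h * e * h⁻¹ ∈ E := fun h hh e he => by
    have hu : ∀ u ∈ W, h * u * h⁻¹ ∈ W := fun u hu => by simpa using mul_mem (hBW (hh.2.1 u hu)) hu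
    rcases he with h' | h'
    · exact le_adj (hu e h')
    · have hx1 : h * x * h⁻¹ ∈ E := by
        simpa using mul_mem (le_adj (hw := by rw [hxx]; exact one_mem W) (hn := hxnW) hh.2.2)
          (self_mem_adj : x ∈ E)
      have := mul_mem (le_adj (hw := by rw [hxx]; exact one_mem W) (hn := hxnW) (hu _ h')) (inv_mem hx1)
      rwa [show h * (e * x) * h⁻¹ * (h * x * h⁻¹)⁻¹ = h * e * h⁻¹ by group] at this
  set N := L ⊓ centralizer (E : Set G)
  have hNn : L ≤ normalizer (N : Set G) := fun h hh => mem_normalizer_of_conj fun k hk => by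
    refine ⟨L.mul_mem (L.mul_mem hh hk.1) (L.inv_mem hh), mem_centralizer_iff.2 fun e he => ?_⟩
    have h1 := mem_centralizer_iff.1 hk.2 _ (hLE _ (L.inv_mem hh) e he)
    calc e * (h * k * h⁻¹) = h * (h⁻¹ * e * h⁻¹⁻¹ * k) * h⁻¹ := by group
      _ = h * k * h⁻¹ * e := by rw [h1]; group
  have hEc : ∀ k, (∀ u ∈ W, k * u * k⁻¹ = u) → k * x * k⁻¹ = x → k ∈ centralizer (E : Set G) :=
    fun k h1 h2 => mem_centralizer_iff.2 fun e he => by
      refine (conj_eq_iff.1 ?_).symm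
      rcases he with h | h
      · exact h1 e h
      · have := h1 _ h
        rw [show k * (e * x) * k⁻¹ = k * e * k⁻¹ * (k * x * k⁻¹) by group, h2] at this
        exact mul_right_cancel this
  have hpow : ∀ h ∈ L, ∃ k : ℕ, h ^ 2 ^ k ∈ N := fun h hh => by
    refine ⟨2, pow_mem hh _, ?_⟩
    have hsq : ∀ u ∈ W, h * (h * u * h⁻¹) * h⁻¹ = u := fun u hu => by
      have hb := hh.2.1 u hu
      rw [show h * (h * u * h⁻¹) * h⁻¹ = h * (h * u * h⁻¹ * u⁻¹) * h⁻¹ * (h * u * h⁻¹ * u⁻¹) * u by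
        group, hh.1 _ hb, hW2 _ (hBW hb), one_mul]
    rw [show h ^ 2 ^ 2 = h * h * h * h by simp [pow_succ]]
    refine hEc _ (fun u hu => ?_) ?_
    · rw [show h * h * h * h * u * (h * h * h * h)⁻¹ =
        h * (h * (h * (h * u * h⁻¹) * h⁻¹) * h⁻¹) * h⁻¹ by group, hsq u hu, hsq u hu]
    · set u := h * x * h⁻¹ * x⁻¹ with hudef
      have hb := hh.2.1 u hh.2.2
      set b := h * u * h⁻¹ * u⁻¹ with hbdef
      have h1 : h * (h * x * h⁻¹) * h⁻¹ = b * x := by
        rw [show h * (h * x * h⁻¹) * h⁻¹ = b * (u * u) * x by rw [hbdef, hudef]; group,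
          hW2 u hh.2.2, mul_one]
      rw [show h * h * h * h * x * (h * h * h * h)⁻¹ =
        h * (h * (h * (h * x * h⁻¹) * h⁻¹) * h⁻¹) * h⁻¹ by group, h1,
        show h * (h * (b * x) * h⁻¹) * h⁻¹ = h * (h * b * h⁻¹) * h⁻¹ * (h * (h * x * h⁻¹) * h⁻¹) by group,
        hh.1 b hb, hh.1 b hb, h1, ← mul_assoc, hW2 b (hBW hb), one_mul]
  -- a Sylow subgroup of `L` containing `A⟨x⟩`
  have hAL : A ≤ L := fun a ha => ⟨fun b hb => hBc b hb a ha,
    fun u hu => by rw [d.fix ha (hWA hu), mul_inv_cancel]; exact one_mem B,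
    mem_cent.2 ⟨d.cset_le hxS ⟨a, ha, rfl⟩, d.cset_comm hxS hxxA ⟨a, ha, rfl⟩⟩⟩
  have hxL : x ∈ L := ⟨fun b hb => conj_eq_iff.2 (hWx b (hBW hb)),
    fun u hu => by rw [conj_eq_iff.2 (hWx u hu), mul_inv_cancel]; exact one_mem B, by simp⟩
  set R := adj A x hxxA (d.normal hxS)
  have hRL : R ≤ L := fun k hk => by
    rcases hk with h | h
    · exact hAL h
    · simpa using L.mul_mem (hAL h) (L.inv_mem hxL)
  obtain ⟨P, hRP, hP⟩ := exists_isSylIn hRL (isPGroup_adj d.isP_A)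
  obtain ⟨S', hPS, d'⟩ := d.exists_data_self hP.isP (le_adj.trans hRP)
  have hEP : E ≤ P := fun e he => hRP (he.elim (fun h => le_adj (hWA h)) fun h => Or.inr (hWA h))
  -- many elements of `P`
  set C1 := {c1 // c1 ∈ cset A x}
  set C2 := {c2 // c2 ∈ cset A' w ∧ c2 ∈ B}
  have hEab : ∀ e ∈ E, (∀ u ∈ W, e * u * e⁻¹ = u) ∧ e * x * e⁻¹ = x := fun e he => by
    rcases he with h | h
    · exact ⟨fun u hu => d.fix (hWA h) (hWA hu), conj_eq_iff.2 (hWx e h).symm⟩
    · have hex : e = e * x * x⁻¹ := by group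
      refine ⟨fun u hu => ?_, ?_⟩
      · rw [hex, show e * x * x⁻¹ * u * (e * x * x⁻¹)⁻¹ = e * x * (x⁻¹ * u * x) * (e * x)⁻¹ by group,
          show x⁻¹ * u * x = u by rw [mul_assoc, ← hWx u hu, ← mul_assoc, inv_mul_cancel, one_mul],
          d.fix (hWA h) (hWA hu)]
      · rw [hex, show e * x * x⁻¹ * x * (e * x * x⁻¹)⁻¹ = e * x * x * (e * x)⁻¹ by group]
        exact conj_eq_iff.2 (hWx _ h).symm
  have hex : ∀ p : C1 × C2, ∃ k ∈ P, k * x * k⁻¹ = (p.1 : G) * x ∧ k * w * k⁻¹ = (p.2 : G) * w := by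
    rintro ⟨⟨c1, hc1⟩, ⟨c2, hc2, hc2B⟩⟩
    obtain ⟨a, ha, hac⟩ := hc1
    obtain ⟨a', ha', hac'⟩ := hc2
    have ha'L : a' ∈ L := by
      refine ⟨fun b hb => d''.fix ha' hb.2, fun u hu => ?_, ?_⟩
      · rcases hWcos u hu with h | h
        · rw [d''.fix ha' h.2, mul_inv_cancel]; exact one_mem B
        · have e1 : a' * u * a'⁻¹ * u⁻¹ =
              a' * (u * w) * a'⁻¹ * (a' * w * a'⁻¹ * w⁻¹ * w)⁻¹ * u⁻¹ := by group
          rw [e1, d''.fix ha' h.2, hac', mul_inv_rev]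
          rw [show u * w * (w⁻¹ * c2⁻¹) * u⁻¹ = u * c2⁻¹ * u⁻¹ by group,
            d.fix (hWA hu) (hWA (hBW (inv_mem hc2B)))]
          exact inv_mem hc2B
      · rw [d''.fix ha' hxg, mul_inv_cancel]; exact one_mem W
    have hhL : a * a' ∈ L := L.mul_mem (hAL ha) ha'L
    obtain ⟨k, hk, n, hn, he⟩ := exists_mul_of_pow inf_le_left hNn hpow hP _ hhL
    have hxh : a * a' * x * (a * a')⁻¹ = c1 * x := by
      rw [show a * a' * x * (a * a')⁻¹ = a * (a' * x * a'⁻¹) * a⁻¹ by group, d''.fix ha' hxg, ← hac]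
      group
    have hwh : a * a' * w * (a * a')⁻¹ = c2 * w := by
      rw [show a * a' * w * (a * a')⁻¹ = a * (a' * w * a'⁻¹ * w⁻¹) * a⁻¹ * (a * w * a⁻¹) by group,
        hac', d.fix ha (hWA (hBW hc2B)), d.fix ha (hWA hw)]
    have hkn : ∀ z, a * a' * z * (a * a')⁻¹ ∈ E → k * z * k⁻¹ = a * a' * z * (a * a')⁻¹ := fun z hz => by
      have hcz := mem_centralizer_iff.1 hn.2 _ hz
      calc k * z * k⁻¹ = n⁻¹ * (a * a' * z * (a * a')⁻¹ * n) := by rw [he]; group
        _ = a * a' * z * (a * a')⁻¹ := by rw [hcz]; group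
    refine ⟨k, hk, (hkn x ?_).trans hxh, (hkn w ?_).trans hwh⟩
    · rw [hxh]
      exact mul_mem (le_adj (mem_cent.2 ⟨d.cset_le hxS ⟨a, ha, hac⟩, d.cset_comm hxS hxxA ⟨a, ha, hac⟩⟩))
        self_mem_adj
    · rw [hwh]
      exact le_adj (mul_mem (hBW hc2B) hw)
  choose k hkP hkx hkw using hex
  let f : (C1 × C2) × ↥E → ↥P := fun p => ⟨k p.1 * p.2, mul_mem (hkP p.1) (hEP p.2.2)⟩
  have hf : Function.Injective f := by
    rintro ⟨p, e, he⟩ ⟨q, e', he'⟩ heq
    have h : k p * e = k q * e' := congrArg Subtype.val heq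
    have hx1 := congrArg (fun z => z * x * z⁻¹) h
    have hw1 := congrArg (fun z => z * w * z⁻¹) h
    simp only [mul_inv_rev] at hx1 hw1
    have r : ∀ a b z : G, a * b * z * (b⁻¹ * a⁻¹) = a * (b * z * b⁻¹) * a⁻¹ := fun a b z => by group
    rw [r, r, (hEab e he).2, (hEab e' he').2, hkx, hkx] at hx1
    rw [r, r, (hEab e he).1 w hw, (hEab e' he').1 w hw, hkw, hkw] at hw1
    have hpq : p = q :=
      Prod.ext (Subtype.ext (mul_right_cancel hx1)) (Subtype.ext (mul_right_cancel hw1))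
    subst hpq
    simpa using h
  have hcount : 4 * Nat.card C2 * 32 ≤ Nat.card ↥P := by
    have h1 := Nat.card_le_card_of_injective f hf
    rw [Nat.card_prod, Nat.card_prod, d.card_cset hxS hxA hxxA, card_adj (fun h => hxA (hWA h)), hW16] at h1
    exact h1
  have hFe : A' ⊓ centralizer ({w} : Set G) = F := by
    refine (eq_of_le_of_card_ge (fun k hk => mem_cent.2 ⟨hFA' hk, hFW w hw k hk⟩) ?_).symm
    rw [d''.cent16 w hwS hwg hw2, hF16]
  have hcF : ∀ c2 ∈ cset A' w, c2 ∈ F := fun c2 h =>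
    hFe ▸ mem_cent.2 ⟨d''.cset_le hwS h, d''.cset_comm hwS hw2 h⟩
  by_cases hk : ∀ c1 ∈ cset A x, c1 ∈ B
  · -- all commutators of both sides lie in `B`
    have hall : ∀ c2 ∈ cset A' w, c2 ∈ B := by
      rintro c2 hc2'
      have hwE : c * w * c⁻¹ ∈ E := conj_mem hc.1 (le_adj hw)
      have hwA : c * w * c⁻¹ ∉ A := fun h => hwg (hcA' w h)
      rcases hwE with h | h
      · exact absurd (hWA h) hwA
      obtain ⟨a, ha, rfl⟩ := hc2'
      have ha' := hcA a ha
      have hb : c * (a * w * a⁻¹ * w⁻¹) * c⁻¹ ∈ B := by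
        refine hk _ ⟨c * a * c⁻¹, ha', ?_⟩
        calc c * a * c⁻¹ * x * (c * a * c⁻¹)⁻¹ * x⁻¹
            = (c * w * c⁻¹ * x) * (c * a * c⁻¹ * x * (c * a * c⁻¹)⁻¹ * x⁻¹) * (c * w * c⁻¹ * x)⁻¹ :=
              (d.fix (hWA h) (d.cset_le hxS ⟨_, ha', rfl⟩)).symm
          _ = c * w * c⁻¹ * x * (c * a * c⁻¹) * x * (c * a * c⁻¹)⁻¹ * (x * x)⁻¹ * (c * w * c⁻¹)⁻¹ := by
              group
          _ = c * w * c⁻¹ * x * (c * a * c⁻¹) * x * (c * a * c⁻¹)⁻¹ * (c * w * c⁻¹)⁻¹ := by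
              rw [hxx, inv_one, mul_one]
          _ = c * (a * w * a⁻¹ * w⁻¹) * c⁻¹ := by
              have h1 : c * a * c⁻¹ * (c * w * c⁻¹ * x) * (c * a * c⁻¹)⁻¹ = c * w * c⁻¹ * x :=
                d.fix ha' (hWA h)
              have h2 : c * w * c⁻¹ * x * (c * a * c⁻¹) =
                  c * a * c⁻¹ * (c * w * c⁻¹ * x) := d.comm (hWA h) ha'
              rw [h2, show c * a * c⁻¹ * (c * w * c⁻¹ * x) * x = c * a * c⁻¹ * (c * w * c⁻¹) * (x * x) by
                group, hxx, mul_one]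
              group
      have := hcB _ hb
      have h5 : a * w * a⁻¹ * w⁻¹ = c * (a * w * a⁻¹ * w⁻¹) * c⁻¹ :=
        ((MulAut.conj c).injective this).symm
      rwa [← h5] at hb
    have hC2 : Nat.card C2 = 4 := (Nat.card_congr (Equiv.subtypeEquivRight fun z =>
      ⟨fun h => h.1, fun h => ⟨h, hall z h⟩⟩)).trans (d''.card_cset hwS hwg hw2)
    have hPtop : P = (S' : Subgroup G) := eq_of_le_of_card_ge hPS (by rw [d'.cardS]; omega)
    have hBS : B ≤ A ⊓ centralizer ((S' : Subgroup G) : Set G) := fun b hb => by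
      refine ⟨hWA (hBW hb), mem_centralizer_iff.2 fun s hs => conj_eq_iff.1 ?_⟩
      exact (hP.le (hPtop ▸ hs)).1 b hb
    have := card_le_of_le hBS
    have := d'.centS
    omega
  · push Not at hk
    obtain ⟨c1, hc1, hc1B⟩ := hk
    have hPR : P ≤ R := fun p hp => by
      refine d'.mem_or_mul_mem (hBW.trans hWA) (by omega) (hPS (hRP self_mem_adj)) hxA
        (fun b hb => hWx b (hBW hb)) (fun s hs hsB => hc1B ?_) (hPS hp)
        (fun b hb => conj_eq_iff.1 ((hP.le hp).1 b hb))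
      have he : B = A ⊓ centralizer ({x} : Set G) ⊓ centralizer ({s} : Set G) := by
        refine eq_of_le_of_card_ge (fun b hb => ⟨hBW hb, mem_centralizer_one.2 (hsB b hb)⟩) ?_
        rw [d'.fourCent x s hs, hB8]
      rw [he]
      exact ⟨mem_cent.2 ⟨d.cset_le hxS hc1, d.cset_comm hxS hxxA hc1⟩,
        mem_centralizer_one.2 (d'.fourComm x s hs c1 hc1).eq.symm⟩
    have hR128 := card_le_of_le hPR
    rw [card_adj hxA, d.cardA] at hR128
    -- two commutators of the other side in `B`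
    have hC2 : 2 ≤ Nat.card C2 := by
      have h1 : (1 : G) ∈ cset A' w ∧ (1 : G) ∈ B := ⟨⟨1, one_mem _, by simp⟩, one_mem B⟩
      have h4 := d''.card_cset hwS hwg hw2
      have hsub : ∃ z, z ∈ cset A' w ∧ z ∈ B ∧ z ≠ 1 := by
        by_contra hcon
        push Not at hcon
        classical
        have hinj : Function.Injective
            (fun z : {z // z ∈ cset A' w} => decide ((z : G) = 1)) := by
          rintro ⟨z, hz⟩ ⟨z', hz'⟩ hzz
          have hzz' : z = 1 ↔ z' = 1 := decide_eq_decide.1 hzz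
          refine Subtype.ext ?_
          show z = z'
          by_cases e1 : z = 1
          · rw [e1, hzz'.1 e1]
          have e2 : z' ≠ 1 := fun e => e1 (hzz'.2 e)
          have hm := d''.cset_mul hwS hz hz'
          have hzB : z ∉ B := fun h => e1 (hcon z hz h)
          have hzB' : z' ∉ B := fun h => e2 (hcon z' hz' h)
          rcases d.mem_or_of_card (B := B) (L := F) le_adj (by omega) (hcF z' hz') hzB' (hcF z hz) with h | h
          · exact absurd h hzB
          · rw [← d''.inv_eq (d''.cset_le hwS hz')]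
            exact eq_inv_of_mul_eq_one_left (hcon _ hm h)
        have h2 := Nat.card_le_card_of_injective _ hinj
        rw [h4] at h2
        simp at h2
      obtain ⟨z, hz1, hz2, hz3⟩ := hsub
      haveI : Nontrivial C2 := ⟨⟨1, h1⟩, ⟨z, hz1, hz2⟩, fun h => hz3 (congrArg Subtype.val h).symm⟩
      exact Finite.one_lt_card
    omega

/-- `A` is strongly closed in `S`. -/
theorem closure_fact : ClosureFact.{u} := by
  intro G _ _ S A d a ha g hgS
  by_contra hgA
  haveI : Fact (Nat.Prime 2) := ⟨Nat.prime_two⟩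
  set x := g * a * g⁻¹ with hx
  have hxx : x * x = 1 := by
    rw [hx, show g * a * g⁻¹ * (g * a * g⁻¹) = g * (a * a) * g⁻¹ by group, d.sqA a ha]; group
  set W := A ⊓ centralizer ({x} : Set G)
  have hxn : x ∈ normalizer (W : Set G) := mem_normalizer_of_conj fun u hu => by
    rw [conj_eq_iff.2 (mem_cent.1 hu).2]; exact hu
  set E := adj W x (by rw [hxx]; exact one_mem W) hxn
  have hWC : W ≤ centralizer ({x} : Set G) := inf_le_right
  have hxC : x ∈ centralizer ({x} : Set G) := mem_centralizer_one.2 rfl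
  have hEC : E ≤ centralizer ({x} : Set G) := fun k hk => by
    rcases hk with h | h
    · exact hWC h
    · simpa using mul_mem (hWC h) (inv_mem hxC)
  obtain ⟨P, hEP, hP⟩ := exists_isSylIn hEC (isPGroup_adj (d.isP_A.to_le inf_le_left))
  have hgC : cj g A ≤ centralizer ({x} : Set G) := by
    rintro _ ⟨b, hb, rfl⟩
    refine mem_centralizer_one.2 ?_
    simp only [MulEquiv.coe_toMonoidHom, MulAut.conj_apply, hx]
    calc g * a * g⁻¹ * (g * b * g⁻¹) = g * (a * b) * g⁻¹ := by group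
      _ = g * b * g⁻¹ * (g * a * g⁻¹) := by rw [d.comm ha hb]; group
  obtain ⟨y, hy, hyP⟩ := hP.exists_conj hgC (d.isP_A.map _)
  have hle : cj (y * g) A ≤ P := by
    rw [← cj_cj]
    rintro _ ⟨z, hz, rfl⟩
    exact hyP z hz
  have hxg : x ∈ cj (y * g) A := by
    have := conj_mem_cj (g := y) (conj_mem_cj (g := g) ha)
    rwa [cj_cj, conj_eq_iff.2 (mem_centralizer_one.1 hy).symm] at this
  obtain ⟨S'', hPS, d''⟩ := d.exists_data hP.isP hle
  by_cases hW : W ≤ cj (y * g) A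
  · exact closure_full d hgS hgA hxx hW hxg
  · obtain ⟨w, hw, hwg⟩ := SetLike.not_le_iff_exists.1 hW
    exact closure_part d hgS hgA hxx d'' ((le_adj.trans hEP).trans hPS) hxg hw hwg

end Cfsg.Agent.M24Type
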