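import Mathlib
import Cfsg.Prelude.Def_Involutions
import Cfsg.Prelude.Def_Local
import Cfsg.Prelude.Def_Sporadic_a

/-!
# The 2-groups of type `2⁶:D₈` occurring modulo the centre of a Sylow 2-subgroup of `M₂₄`

Interface for S3169 / S3170 (notes/s3169-h9.md).  The fields of `Data` hold in the quotient of a Sylow
2-subgroup of `M₂₄` by its centre, with `A` its abelian subgroup of order 64; they are invariant under
isomorphisms.  Here `A = V + V*` and `S/A` is the group of upper unitriangular matrices.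
-/

set_option autoImplicit false

universe u

namespace Cfsg.Agent.M24Type

variable {G : Type u} [Group G]

/-- The commutators of the elements of `A` with `s`. -/
def cset (A : Subgroup G) (s : G) : Set G := {c | ∃ a ∈ A, a * s * a⁻¹ * s⁻¹ = c}

/-- `s` and `t` map to generators of a four-group of `S/A`. -/
structure FourPair (S A : Subgroup G) (s t : G) : Prop where
  sS : s ∈ S
  tS : t ∈ S
  sA : s ∉ A
  tA : t ∉ A
  stA : s * t ∉ A
  ssA : s * s ∈ A
  ttA : t * t ∈ A
  commA : s * t * s⁻¹ * t⁻¹ ∈ A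

/-- `e` is the common line of the two commutator planes of a four-pair. -/
def IsLine (A : Subgroup G) (s t e : G) : Prop :=
  e ≠ 1 ∧ ∀ c : G, (c ∈ cset A s ∧ c ∈ cset A t) ↔ (c = 1 ∨ c = e)

/-- The properties of the group `S` with its abelian subgroup `A` of order 64. -/
structure Data (S A : Subgroup G) : Prop where
  le : A ≤ S
  cardA : Nat.card A = 64
  sqA : ∀ a ∈ A, a * a = 1
  cardS : Nat.card S = 512
  uniq : ∀ B ≤ S, IsMulCommutative ↥B → Nat.card B = 64 → B = A
  split : ∀ s ∈ S, s ∉ A → s * s ∈ A → ∃ a ∈ A, s * a * (s * a) = 1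
  cent16 : ∀ s ∈ S, s ∉ A → s * s ∈ A → Nat.card ↥(A ⊓ Subgroup.centralizer ({s} : Set G)) = 16
  cent4 : ∀ u ∈ S, u * u ∉ A → Nat.card ↥(A ⊓ Subgroup.centralizer ({u} : Set G)) ≤ 4
  centS : Nat.card ↥(A ⊓ Subgroup.centralizer (S : Set G)) ≤ 4
  square : ∃ u ∈ S, u * u ∉ A
  fourCent : ∀ s t, FourPair S A s t →
    Nat.card ↥(A ⊓ Subgroup.centralizer ({s} : Set G) ⊓ Subgroup.centralizer ({t} : Set G)) = 8
  fourComm : ∀ s t, FourPair S A s t → ∀ c ∈ cset A s, Commute c t
  fourMid : ∀ s t, FourPair S A s t → ∀ c ∈ A, Commute c s → c * t * c⁻¹ * t⁻¹ ∈ cset A s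
  fourLine : ∀ s t, FourPair S A s t → ∃ e, IsLine A s t e
  twoFours : ∃ s t s' t' e e', FourPair S A s t ∧ FourPair S A s' t' ∧
    IsLine A s t e ∧ IsLine A s' t' e' ∧ e ≠ e'
  covered : ∀ s ∈ S, s ∉ A → s * s ∈ A → ∃ t, FourPair S A s t

/-- Target of the data part: the model has the properties. -/
def DataFact : Prop :=
  ∀ (G : Type u) [Group G] [Finite G] (S : Sylow 2 G) (P : Sylow 2 ↥Cfsg.M24) (A : Subgroup G),
    Nonempty (↥(S : Subgroup G) ≃* (↥(P : Subgroup ↥Cfsg.M24) ⧸ Subgroup.center ↥(P : Subgroup ↥Cfsg.M24))) →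
    A ≤ (S : Subgroup G) → IsMulCommutative ↥A → Nat.card ↥A = 64 → Data (S : Subgroup G) A

/-- Target: `A` is strongly closed. -/
def ClosureFact : Prop :=
  ∀ (G : Type u) [Group G] [Finite G] (S : Sylow 2 G) (A : Subgroup G), Data (S : Subgroup G) A →
    ∀ a ∈ A, ∀ g : G, g * a * g⁻¹ ∈ (S : Subgroup G) → g * a * g⁻¹ ∈ A

/-- Target: the automiser of `A`.  No nontrivial element of odd order centralises an involution of
`S/A`, and no subgroup of odd order fixing a subgroup `B` of index at least four is transitive on `A/B`. -/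
structure AutProps (S A : Subgroup G) : Prop where
  cent : ∀ s ∈ S, s ∉ A → s * s ∈ A → ∀ k ∈ Subgroup.normalizer (A : Set G), Odd (orderOf k) →
    k * s * k⁻¹ * s⁻¹ ∈ Subgroup.centralizer (A : Set G) → k ∈ Subgroup.centralizer (A : Set G)
  trans : ∀ J ≤ Subgroup.normalizer (A : Set G), Odd ((Subgroup.centralizer (A : Set G)).relIndex J) →
    ∀ B ≤ A, 4 * Nat.card B ≤ 64 → (∀ k ∈ J, ∀ b ∈ B, k * b * k⁻¹ = b) →
    (∀ a ∈ A, a ∉ B → ∀ b ∈ A, b ∉ B → ∃ k ∈ J, k * a * k⁻¹ * b⁻¹ ∈ B) → False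

/-- Target of the automiser part. -/
def AutFact : Prop :=
  ∀ (G : Type u) [Group G] [Finite G] (S : Sylow 2 G) (A : Subgroup G), Data (S : Subgroup G) A →
    AutProps (S : Subgroup G) A

end Cfsg.Agent.M24Type
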