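import Cfsg.Agent.Lib.M24Type.Checks
import Cfsg.Agent.Lib.M24Sylow.Structure
import Cfsg.Agent.Lib.M24Type.Defs
import Cfsg.Agent.Lib.Golay.M24

/-!
The fields of `Data` in the quotient of a Sylow 2-subgroup of `M24` by its centre, and their
transport along an isomorphism (`DataFact`).
-/

set_option autoImplicit false
set_option maxRecDepth 30000

universe u

namespace Cfsg.Agent.M24Type

open Cfsg.Agent.M24Sylow Cfsg.Agent.Golay.SylowTwoData Cfsg.Agent.Golay.Cert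
  Cfsg.Agent.Golay.TabList Cfsg.Agent.M24Type.Checks

attribute [local irreducible] mulTab pack tabPerm tabOK s24Elems

theorem eqz_iff (x y : P0) : eqz (tb x) (tb y) = true ↔ q x = q y := by
  rw [eqz, ← tb_zc, ← tb_mul, Bool.or_eq_true, beq_iff_eq, beq_iff_eq, tb_inj.eq_iff,
    tb_inj.eq_iff, eq_comm (a := q x), q_eq_iff]

theorem inA_iff (x : P0) : inA (tb x) = true ↔ q x ∈ E := by
  rw [inA, mem_E_iff, eList, List.mem_filter]
  exact ⟨fun h => ⟨tb_mem x, h⟩, fun h => h.2⟩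

instance normal_E : E.Normal := by
  refine ⟨fun n hn g => ?_⟩
  have h : E.map (MulAut.conj g).toMonoidHom = E := by
    refine eq_E _ ⟨⟨?_⟩⟩ ?_
    · rintro ⟨_, a, ha, rfl⟩ ⟨_, b, hb, rfl⟩
      refine Subtype.ext ?_
      show MulAut.conj g a * MulAut.conj g b = MulAut.conj g b * MulAut.conj g a
      rw [← map_mul, ← map_mul, comm_E ha hb]
    · rw [Subgroup.card_map_of_injective (MulAut.conj g).injective, card_E]
  rw [← h]
  exact ⟨n, hn, rfl⟩

/-- A lift of an index. -/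
noncomputable def liftEl (i : ℕ) : P0 :=
  open Classical in
  if h : ∃ x : P0, tb x = el i then h.choose else 1

theorem tb_liftEl {i : ℕ} (hi : i < 1024) : tb (liftEl i) = el i := by
  rw [liftEl, dif_pos (tb_surj (el_mem hi))]
  exact Exists.choose_spec (tb_surj (el_mem hi))

theorem reps_lt {i : ℕ} (hi : i < 7) :
    (reps.getD i (0, 0)).1 < 1024 ∧ (reps.getD i (0, 0)).2 < 1024 :=
  (by decide : ∀ i < 7, (reps.getD i (0, 0)).1 < 1024 ∧ (reps.getD i (0, 0)).2 < 1024) i hi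

theorem reps_mem : ∀ s ∈ reps, ∃ i < 7, reps.getD i (0, 0) = s := by decide

/-- The representatives in the quotient. -/
noncomputable def rQ (i : ℕ) : Q := q (liftEl (reps.getD i (0, 0)).1)

theorem tb_rp {i : ℕ} (hi : i < 7) : tb (liftEl (reps.getD i (0, 0)).1) = rp i :=
  tb_liftEl (reps_lt hi).1

theorem tb_rpInv {i : ℕ} (hi : i < 7) : tb (liftEl (reps.getD i (0, 0)).2) = rpInv i :=
  tb_liftEl (reps_lt hi).2

theorem rQ_inv {i : ℕ} (hi : i < 7) : (rQ i)⁻¹ = q (liftEl (reps.getD i (0, 0)).2) := by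
  have h := List.all_eq_true.1 inv_check i (List.mem_range.2 hi)
  simp only [Bool.and_eq_true] at h
  have h1 := h.1.1.1.2
  rw [← tb_rp hi, ← tb_rpInv hi, ← tb_mul, ← tb_one, eqz_iff, map_mul, map_one] at h1
  exact inv_eq_of_mul_eq_one_left h1

theorem rQ_notMem {i : ℕ} (hi : i < 7) : rQ i ∉ E := by
  have h := List.all_eq_true.1 inv_check i (List.mem_range.2 hi)
  simp only [Bool.and_eq_true, Bool.not_eq_true'] at h
  have h1 := h.1.1.1.1
  rw [← tb_rp hi] at h1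
  exact fun hm => by rw [(inA_iff _).2 hm] at h1; cases h1

theorem sq_iff {i : ℕ} (hi : i < 7) :
    rQ i * rQ i ∈ E ↔ inA (mulTab (rp i) (rp i)) = true := by
  rw [← tb_rp hi, ← tb_mul, inA_iff, map_mul, rQ]

theorem sq_one {i : ℕ} (hi : i < 7) (h2 : rQ i * rQ i ∈ E) : rQ i * rQ i = 1 := by
  have h := List.all_eq_true.1 inv_check i (List.mem_range.2 hi)
  simp only [Bool.and_eq_true, beq_iff_eq] at h
  have h1 := h.2
  rw [h.1.2, (sq_iff hi).1 h2] at h1
  simp only [Bool.not_true, Bool.false_or] at h1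
  rwa [← tb_rp hi, ← tb_mul, ← tb_one, eqz_iff, map_mul, map_one] at h1

/-- Every element outside `E` is a representative times a member of `E`. -/
theorem exists_rep {s : Q} (hs : s ∉ E) : ∃ i < 7, ∃ a ∈ E, s = rQ i * a := by
  obtain ⟨x, rfl⟩ := QuotientGroup.mk'_surjective _ s
  have hc := cover_check
  simp only [coverOK, Bool.and_eq_true, List.all_eq_true, Bool.or_eq_true, beq_iff_eq,
    List.any_eq_true] at hc
  rcases hc.2 _ (tb_mem x) with h | ⟨r, hr, h⟩
  · exact absurd ((inA_iff x).1 h) hs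
  · obtain ⟨i, hi, rfl⟩ := reps_mem r hr
    refine ⟨i, hi, (rQ i)⁻¹ * q x, ?_, (mul_inv_cancel_left _ _).symm⟩
    rw [rQ_inv hi, ← map_mul, ← inA_iff, tb_mul, tb_rpInv hi]
    exact h

theorem commute_rep {i : ℕ} {a c : Q} (ha : a ∈ E) (hc : c ∈ E) :
    Commute c (rQ i * a) ↔ Commute c (rQ i) :=
  ⟨fun h => by simpa using h.mul_right (Commute.inv_right (comm_E hc ha)),
    fun h => h.mul_right (comm_E hc ha)⟩

theorem cset_rep {i : ℕ} {a : Q} (ha : a ∈ E) : cset E (rQ i * a) = cset E (rQ i) := by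
  ext c
  have key : ∀ b ∈ E, b * (rQ i * a) * b⁻¹ * (rQ i * a)⁻¹ = b * rQ i * b⁻¹ * (rQ i)⁻¹ := by
    intro b hb
    have e : a * b⁻¹ = b⁻¹ * a := comm_E ha (E.inv_mem hb)
    calc b * (rQ i * a) * b⁻¹ * (rQ i * a)⁻¹ = b * rQ i * (a * b⁻¹) * a⁻¹ * (rQ i)⁻¹ := by group
      _ = _ := by rw [e]; group
  constructor
  · rintro ⟨b, hb, rfl⟩; exact ⟨b, hb, (key b hb).symm⟩
  · rintro ⟨b, hb, rfl⟩; exact ⟨b, hb, key b hb⟩

theorem sq_rep {i : ℕ} {a : Q} (ha : a ∈ E) :
    rQ i * a * (rQ i * a) ∈ E ↔ rQ i * rQ i ∈ E := by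
  rw [← QuotientGroup.eq_one_iff, ← QuotientGroup.eq_one_iff (N := E) (rQ i * rQ i)]
  simp [(QuotientGroup.eq_one_iff a).2 ha]

theorem card_of_list {H : Subgroup Q} {l : List ℕ} (hnd : l.Nodup)
    (hsub : ∀ t ∈ l, t ∈ s24Elems) (h : ∀ x : P0, q x ∈ H ↔ tb x ∈ l) :
    2 * Nat.card H = l.length := by
  classical
  rw [← card_comap, ← List.toFinset_card_of_nodup hnd, ← Nat.card_eq_finsetCard]
  refine Nat.card_eq_of_bijective (fun x : H.comap q => (⟨tb (x : P0),
    List.mem_toFinset.2 ((h _).1 x.2)⟩ : l.toFinset)) ⟨?_, ?_⟩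
  · exact fun x y hxy => Subtype.ext (tb_inj (congrArg Subtype.val hxy))
  · rintro ⟨t, ht⟩
    rw [List.mem_toFinset] at ht
    obtain ⟨x, rfl⟩ := tb_surj (hsub t ht)
    exact ⟨⟨x, (h x).2 ht⟩, rfl⟩

theorem mem_eList {t : ℕ} (h : t ∈ eList) : t ∈ s24Elems := List.mem_of_mem_filter h

theorem card_cent {i : ℕ} (hi : i < 7) :
    2 * Nat.card ↥(E ⊓ Subgroup.centralizer ({rQ i} : Set Q)) =
      (eList.filter fun a => ctest a (rp i)).length := by
  refine card_of_list ((nodup_elems.filter _).filter _)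
    (fun t ht => mem_eList (List.mem_of_mem_filter ht)) fun x => ?_
  rw [Subgroup.mem_inf, mem_E_iff, List.mem_filter, Subgroup.mem_centralizer_singleton_iff, rQ,
    ← tb_rp hi, ctest_iff]
  exact Iff.rfl

theorem centralizer_rep {i : ℕ} {a : Q} (ha : a ∈ E) :
    E ⊓ Subgroup.centralizer ({rQ i * a} : Set Q) = E ⊓ Subgroup.centralizer ({rQ i} : Set Q) := by
  ext c
  simp only [Subgroup.mem_inf, Subgroup.mem_centralizer_singleton_iff]
  exact ⟨fun h => ⟨h.1, (commute_rep ha h.1).1 h.2⟩, fun h => ⟨h.1, (commute_rep ha h.1).2 h.2⟩⟩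

theorem plane_data {i : ℕ} (hi : i ∈ invs) :
    (i < 7) ∧ ∀ p ∈ planes.getD i [], p.1 < 1024 ∧ p.2 < 1024 :=
  (by decide : ∀ i ∈ invs, i < 7 ∧ ∀ p ∈ planes.getD i [], p.1 < 1024 ∧ p.2 < 1024) i hi

theorem comA_eq {i : ℕ} (hi : i < 7) {w : P0} (hw : q w ∈ E) :
    ∃ y : P0, tb y = comA i (tb w) ∧ q y = q w * rQ i * (q w)⁻¹ * (rQ i)⁻¹ := by
  refine ⟨w * liftEl (reps.getD i (0, 0)).1 * w * liftEl (reps.getD i (0, 0)).2, ?_, ?_⟩
  · rw [comA, tb_mul, tb_mul, tb_mul, tb_rp hi, tb_rpInv hi]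
  · have h : q w * q w = 1 := by rw [← sq]; exact sq_E hw
    rw [map_mul, map_mul, map_mul, ← rQ_inv hi, rQ, inv_eq_of_mul_eq_one_right h]

/-- The commutator sets are the planes. -/
theorem mem_cset_iff {i : ℕ} (hi : i ∈ invs) (c : Q) :
    c ∈ cset E (rQ i) ↔ ∃ p ∈ planes.getD i [], c = q (liftEl p.1) := by
  have h := List.all_eq_true.1 plane_check i hi
  simp only [Bool.and_eq_true, List.all_eq_true, List.any_eq_true] at h
  obtain ⟨h7, hlt⟩ := plane_data hi
  constructor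
  · rintro ⟨a, ha, rfl⟩
    obtain ⟨x, rfl⟩ := QuotientGroup.mk'_surjective _ a
    obtain ⟨p, hp, he⟩ := h.2 _ ((mem_E_iff x).1 ha)
    obtain ⟨y, hy, hqy⟩ := comA_eq h7 ha
    rw [← tb_liftEl (hlt p hp).1, ← hy, eqz_iff] at he
    exact ⟨p, hp, hqy.symm.trans he⟩
  · rintro ⟨p, hp, rfl⟩
    obtain ⟨hw, he⟩ := h.1 p hp
    rw [← tb_liftEl (hlt p hp).2, inA_iff] at hw
    obtain ⟨y, hy, hqy⟩ := comA_eq h7 hw
    rw [← tb_liftEl (hlt p hp).1, ← tb_liftEl (hlt p hp).2, ← hy, eqz_iff] at he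
    exact ⟨_, hw, hqy.symm.trans he⟩

theorem four_of_pair {i j : ℕ} (hi : i < 7) (hj : j < 7) {a b : Q} (ha : a ∈ E) (hb : b ∈ E)
    (h : FourPair ⊤ E (rQ i * a) (rQ j * b)) : four i j = true := by
  have e1 := (sq_rep ha).1 h.ssA
  have e2 := (sq_rep hb).1 h.ttA
  have e3 : rQ i * rQ j ∉ E := fun hm => h.stA <| by
    rw [← QuotientGroup.eq_one_iff] at hm ⊢
    simpa [(QuotientGroup.eq_one_iff a).2 ha, (QuotientGroup.eq_one_iff b).2 hb] using hm
  have e4 : rQ i * rQ j * (rQ i)⁻¹ * (rQ j)⁻¹ ∈ E := by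
    have hm := h.commA
    rw [← QuotientGroup.eq_one_iff] at hm ⊢
    simpa [(QuotientGroup.eq_one_iff a).2 ha, (QuotientGroup.eq_one_iff b).2 hb] using hm
  rw [rQ_inv hi, rQ_inv hj, rQ, rQ, ← map_mul, ← map_mul, ← map_mul, ← inA_iff, tb_mul, tb_mul,
    tb_mul, tb_rp hi, tb_rp hj, tb_rpInv hi, tb_rpInv hj] at e4
  rw [rQ, rQ, ← map_mul, ← inA_iff, tb_mul, tb_rp hi, tb_rp hj, Bool.not_eq_true] at e3
  simp only [four, Bool.and_eq_true, Bool.not_eq_true']
  refine ⟨⟨⟨(sq_iff hi).1 e1, (sq_iff hj).1 e2⟩, e3⟩, ?_⟩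
  rwa [show mulTab (mulTab (rp i) (rp j)) (mulTab (rpInv i) (rpInv j)) =
    mulTab (mulTab (mulTab (rp i) (rp j)) (rpInv i)) (rpInv j) by
      rw [← tb_rp hi, ← tb_rp hj, ← tb_rpInv hi, ← tb_rpInv hj]
      simp only [← tb_mul, mul_assoc]]

theorem pair_of_four {i j : ℕ} (hi : i < 7) (hj : j < 7) (h : four i j = true) {a : Q}
    (ha : a ∈ E) : FourPair ⊤ E (rQ i * a) (rQ j) := by
  simp only [four, Bool.and_eq_true, Bool.not_eq_true'] at h
  obtain ⟨⟨⟨h1, h2⟩, h3⟩, h4⟩ := h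
  refine ⟨Subgroup.mem_top _, Subgroup.mem_top _, fun hm => rQ_notMem hi ?_, rQ_notMem hj,
    fun hm => ?_, (sq_rep ha).2 ((sq_iff hi).2 h1), (sq_iff hj).2 h2, ?_⟩
  · simpa using E.mul_mem hm (E.inv_mem ha)
  · have hm' : rQ i * rQ j ∈ E := by
      rw [← QuotientGroup.eq_one_iff] at hm ⊢
      simpa [(QuotientGroup.eq_one_iff a).2 ha] using hm
    rw [rQ, rQ, ← map_mul, ← inA_iff, tb_mul, tb_rp hi, tb_rp hj, h3] at hm'
    cases hm'
  · have hm : rQ i * rQ j * (rQ i)⁻¹ * (rQ j)⁻¹ ∈ E := by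
      rw [rQ_inv hi, rQ_inv hj, rQ, rQ, ← map_mul, ← map_mul, ← map_mul, ← inA_iff, mul_assoc,
        tb_mul, tb_mul, tb_mul, tb_rp hi, tb_rp hj, tb_rpInv hi, tb_rpInv hj]
      exact h4
    rw [← QuotientGroup.eq_one_iff] at hm ⊢
    simpa [(QuotientGroup.eq_one_iff a).2 ha] using hm

theorem four_facts {i j : ℕ} (hi : i < 7) (hj : j < 7) (h : four i j = true) :
    i ∈ invs ∧ j ∈ invs ∧
    (eList.filter fun a => ctest a (rp i) && ctest a (rp j)).length = 16 ∧
    (∀ c ∈ cset E (rQ i), Commute c (rQ j)) ∧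
    (∀ c ∈ E, Commute c (rQ i) → c * rQ j * c⁻¹ * (rQ j)⁻¹ ∈ cset E (rQ i)) ∧
    IsLine E (rQ i) (rQ j) (q (liftEl (line i j))) := by
  have hc := four_check
  simp only [fourOK, Bool.and_eq_true] at hc
  have hh := List.all_eq_true.1 (List.all_eq_true.1 hc.1.1.1.1 i (List.mem_range.2 hi)) j
    (List.mem_range.2 hj)
  simp only [h, Bool.not_true, Bool.false_or, Bool.and_eq_true, List.contains_iff_mem, beq_iff_eq,
    List.all_eq_true, List.any_eq_true, Bool.not_eq_true', Bool.or_eq_true] at hh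
  obtain ⟨⟨⟨⟨⟨⟨⟨⟨hii, hjj⟩, hlen⟩, hcomm⟩, hmid⟩, hne⟩, ⟨p, hp, hpe⟩⟩, ⟨p', hp', hpe'⟩⟩, hmeet⟩ := hh
  obtain ⟨-, hlti⟩ := plane_data hii
  obtain ⟨-, hltj⟩ := plane_data hjj
  have hl : line i j < 1024 := by
    unfold line; split_ifs <;> norm_num
  refine ⟨hii, hjj, hlen, fun c hc => ?_, fun c hc hci => ?_, fun e => ?_, fun c => ⟨?_, ?_⟩⟩
  · obtain ⟨v, hv, rfl⟩ := (mem_cset_iff hii c).1 hc
    rw [rQ, ← ctest_iff, tb_liftEl (hlti v hv).1, tb_rp hj]
    exact hcomm v hv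
  · obtain ⟨x, rfl⟩ := QuotientGroup.mk'_surjective _ c
    rcases hmid _ ((mem_E_iff x).1 hc) with h0 | ⟨v, hv, he⟩
    · rw [← tb_rp hi, (ctest_iff x _).2 hci] at h0
      cases h0
    · obtain ⟨y, hy, hqy⟩ := comA_eq hj hc
      rw [← tb_liftEl (hlti v hv).1, ← hy, eqz_iff] at he
      exact (mem_cset_iff hii _).2 ⟨v, hv, hqy.symm.trans he⟩
  · rw [← map_one q, ← eqz_iff, tb_liftEl hl, tb_one, hne] at e
    cases e
  · rintro ⟨h1, h2⟩
    obtain ⟨v, hv, rfl⟩ := (mem_cset_iff hii c).1 h1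
    obtain ⟨w, hw, hvw⟩ := (mem_cset_iff hjj _).1 h2
    rw [← eqz_iff, tb_liftEl (hlti v hv).1, tb_liftEl (hltj w hw).1] at hvw
    rcases hmeet v hv w hw with (h | h) | h
    · rw [hvw] at h; cases h
    · left
      rw [← tb_liftEl (hlti v hv).1, ← tb_one, eqz_iff, map_one] at h
      exact h
    · right
      rw [← tb_liftEl (hlti v hv).1, ← tb_liftEl hl, eqz_iff] at h
      exact h
  · rintro (rfl | rfl)
    · exact ⟨⟨1, E.one_mem, by group⟩, ⟨1, E.one_mem, by group⟩⟩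
    · rw [← tb_liftEl (hlti p hp).1, ← tb_liftEl hl, eqz_iff] at hpe
      rw [← tb_liftEl (hltj p' hp').1, ← tb_liftEl hl, eqz_iff] at hpe'
      exact ⟨(mem_cset_iff hii _).2 ⟨p, hp, hpe.symm⟩, (mem_cset_iff hjj _).2 ⟨p', hp', hpe'.symm⟩⟩

/-- **The model has the properties.** -/
theorem data_model : Data (⊤ : Subgroup Q) E := by
  have hcent := cent_check
  simp only [centOK, Bool.and_eq_true, decide_eq_true_eq, Bool.not_eq_true'] at hcent
  have hfour := four_check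
  simp only [fourOK, Bool.and_eq_true, Bool.not_eq_true'] at hfour
  refine ⟨le_top, card_E, fun a ha => by rw [← sq]; exact sq_E ha,
    by rw [Subgroup.card_top, card_Q], fun B _ hB hc => eq_E B hB hc, ?_, ?_, ?_, ?_, ?_, ?_, ?_,
    ?_, ?_, ?_, ?_⟩
  · -- split
    intro s _ hs hss
    obtain ⟨i, hi, a, ha, rfl⟩ := exists_rep hs
    refine ⟨a⁻¹, E.inv_mem ha, ?_⟩
    rw [mul_inv_cancel_right]
    exact sq_one hi ((sq_rep ha).1 hss)
  · -- cent16
    intro s _ hs hss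
    obtain ⟨i, hi, a, ha, rfl⟩ := exists_rep hs
    have h := List.all_eq_true.1 hcent.1.1 i (List.mem_range.2 hi)
    rw [if_pos ((sq_iff hi).1 ((sq_rep ha).1 hss)), beq_iff_eq, ← card_cent hi] at h
    rw [centralizer_rep ha]
    omega
  · -- cent4
    intro s _ hss
    have hs : s ∉ E := fun h => hss (E.mul_mem h h)
    obtain ⟨i, hi, a, ha, rfl⟩ := exists_rep hs
    have h := List.all_eq_true.1 hcent.1.1 i (List.mem_range.2 hi)
    rw [if_neg (fun h => hss ((sq_rep ha).2 ((sq_iff hi).2 h))), decide_eq_true_eq,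
      ← card_cent hi] at h
    rw [centralizer_rep ha]
    omega
  · -- centS
    have h : 2 * Nat.card ↥(E ⊓ Subgroup.centralizer ((⊤ : Subgroup Q) : Set Q)) ≤
        (eList.filter fun a => (List.range 7).all fun i => ctest a (rp i)).length := by
      rw [← card_comap]
      refine card_le_list fun x hx => ?_
      obtain ⟨hxE, hxc⟩ := Subgroup.mem_inf.1 (Subgroup.mem_comap.1 hx)
      refine List.mem_filter.2 ⟨(mem_E_iff x).1 hxE, List.all_eq_true.2 fun i hi => ?_⟩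
      rw [← tb_rp (List.mem_range.1 hi), ctest_iff]
      exact (Subgroup.mem_centralizer_iff.1 hxc _ (Subgroup.mem_top _)).symm
    have h2 := hcent.1.2
    omega
  · -- square
    refine ⟨rQ 4, Subgroup.mem_top _, fun h => ?_⟩
    rw [(sq_iff (by norm_num)).1 h] at hcent
    exact Bool.noConfusion hcent.2
  · -- fourCent
    intro s t h
    obtain ⟨i, hi, a, ha, rfl⟩ := exists_rep h.sA
    obtain ⟨j, hj, b, hb, rfl⟩ := exists_rep h.tA
    obtain ⟨-, -, hlen, -, -, -⟩ := four_facts hi hj (four_of_pair hi hj ha hb h)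
    have e : E ⊓ Subgroup.centralizer ({rQ i * a} : Set Q) ⊓
        Subgroup.centralizer ({rQ j * b} : Set Q) =
        E ⊓ Subgroup.centralizer ({rQ i} : Set Q) ⊓ Subgroup.centralizer ({rQ j} : Set Q) := by
      rw [centralizer_rep ha, inf_right_comm, centralizer_rep hb, inf_right_comm]
    have hc : 2 * Nat.card ↥(E ⊓ Subgroup.centralizer ({rQ i} : Set Q) ⊓
        Subgroup.centralizer ({rQ j} : Set Q)) =
        (eList.filter fun a => ctest a (rp i) && ctest a (rp j)).length := by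
      refine card_of_list ((nodup_elems.filter _).filter _)
        (fun t ht => mem_eList (List.mem_of_mem_filter ht)) fun x => ?_
      rw [Subgroup.mem_inf, Subgroup.mem_inf, mem_E_iff, List.mem_filter, Bool.and_eq_true,
        Subgroup.mem_centralizer_singleton_iff, Subgroup.mem_centralizer_singleton_iff, rQ, rQ,
        ← tb_rp hi, ← tb_rp hj, ctest_iff, ctest_iff]
      exact and_assoc
    rw [e]
    omega
  · -- fourComm
    intro s t h c hc
    obtain ⟨i, hi, a, ha, rfl⟩ := exists_rep h.sA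
    obtain ⟨j, hj, b, hb, rfl⟩ := exists_rep h.tA
    obtain ⟨-, -, -, hcomm, -, -⟩ := four_facts hi hj (four_of_pair hi hj ha hb h)
    rw [cset_rep ha] at hc
    have hcE : c ∈ E := by
      obtain ⟨a', ha', rfl⟩ := hc
      have := E.mul_mem ha' (normal_E.conj_mem _ (E.inv_mem ha') (rQ i))
      simpa [mul_assoc] using this
    exact (commute_rep hb hcE).2 (hcomm c hc)
  · -- fourMid
    intro s t h c hc hcs
    obtain ⟨i, hi, a, ha, rfl⟩ := exists_rep h.sA
    obtain ⟨j, hj, b, hb, rfl⟩ := exists_rep h.tA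
    obtain ⟨-, -, -, -, hmid, -⟩ := four_facts hi hj (four_of_pair hi hj ha hb h)
    rw [cset_rep ha]
    have e : c * (rQ j * b) * c⁻¹ * (rQ j * b)⁻¹ = c * rQ j * c⁻¹ * (rQ j)⁻¹ := by
      have e1 : b * c⁻¹ = c⁻¹ * b := comm_E hb (E.inv_mem hc)
      calc c * (rQ j * b) * c⁻¹ * (rQ j * b)⁻¹ = c * rQ j * (b * c⁻¹) * b⁻¹ * (rQ j)⁻¹ := by group
        _ = _ := by rw [e1]; group
    rw [e]
    exact hmid c hc ((commute_rep ha hc).1 hcs)
  · -- fourLine
    intro s t h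
    obtain ⟨i, hi, a, ha, rfl⟩ := exists_rep h.sA
    obtain ⟨j, hj, b, hb, rfl⟩ := exists_rep h.tA
    obtain ⟨-, -, -, -, -, hline⟩ := four_facts hi hj (four_of_pair hi hj ha hb h)
    refine ⟨_, hline.1, fun c => ?_⟩
    rw [cset_rep ha, cset_rep hb]
    exact hline.2 c
  · -- twoFours
    have p := pair_of_four (by norm_num) (by norm_num) hfour.1.1.2 E.one_mem
    have p' := pair_of_four (by norm_num) (by norm_num) hfour.1.2 E.one_mem
    rw [mul_one] at p p'
    refine ⟨rQ 0, rQ 1, rQ 2, rQ 3, _, _, p, p',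
      (four_facts (by norm_num) (by norm_num) hfour.1.1.2).2.2.2.2.2,
      (four_facts (by norm_num) (by norm_num) hfour.1.2).2.2.2.2.2, fun e => ?_⟩
    have hne := hfour.2
    rw [← eqz_iff, tb_liftEl (by decide), tb_liftEl (by decide), hne] at e
    cases e
  · -- covered
    intro s _ hs hss
    obtain ⟨i, hi, a, ha, rfl⟩ := exists_rep hs
    have h0 := List.all_eq_true.1 inv_check i (List.mem_range.2 hi)
    simp only [Bool.and_eq_true, beq_iff_eq] at h0
    have hinv : i ∈ invs := by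
      have h1 := h0.1.2
      rw [(sq_iff hi).1 ((sq_rep ha).1 hss), List.contains_iff_mem] at h1
      exact h1
    obtain ⟨j, hj, h⟩ := List.any_eq_true.1 (List.all_eq_true.1 hfour.1.1.1.2 i hinv)
    exact ⟨rQ j, pair_of_four hi (plane_data hj).1 h ha⟩

/-- The fields are invariant under injective homomorphisms. -/
theorem Data.mapHom {H : Type*} [Group H] {G : Type u} [Group G] (f : H →* G)
    (hf : Function.Injective f) {S A : Subgroup H} (D : Data S A) :
    Data (S.map f) (A.map f) := by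
  have hmem : ∀ {K : Subgroup H} {x : H}, f x ∈ K.map f ↔ x ∈ K := fun {K x} =>
    Subgroup.mem_map_iff_mem hf
  have hcom : ∀ x y : H, Commute (f x) (f y) ↔ Commute x y := fun x y =>
    ⟨fun h => hf (by rw [map_mul, map_mul]; exact h), fun h => h.map f⟩
  have hcent : ∀ (T : Subgroup H) (s : H), T.map f ⊓ Subgroup.centralizer ({f s} : Set G) =
      (T ⊓ Subgroup.centralizer ({s} : Set H)).map f := by
    intro T s
    ext y
    constructor
    · rintro ⟨⟨x, hx, rfl⟩, hy⟩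
      exact ⟨x, ⟨hx, Subgroup.mem_centralizer_singleton_iff.2
        ((hcom x s).1 (Subgroup.mem_centralizer_singleton_iff.1 hy))⟩, rfl⟩
    · rintro ⟨x, ⟨hx, hc⟩, rfl⟩
      exact ⟨⟨x, hx, rfl⟩, Subgroup.mem_centralizer_singleton_iff.2
        ((hcom x s).2 (Subgroup.mem_centralizer_singleton_iff.1 hc))⟩
  have hcset : ∀ s : H, cset (A.map f) (f s) = f '' cset A s := by
    intro s
    ext c
    constructor
    · rintro ⟨_, ⟨a, ha, rfl⟩, rfl⟩
      exact ⟨a * s * a⁻¹ * s⁻¹, ⟨a, ha, rfl⟩, by simp⟩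
    · rintro ⟨_, ⟨a, ha, rfl⟩, rfl⟩
      exact ⟨f a, hmem.2 ha, by simp⟩
  have hpairmap : ∀ {s t : H}, FourPair S A s t → FourPair (S.map f) (A.map f) (f s) (f t) :=
    fun {s t} h => ⟨hmem.2 h.sS, hmem.2 h.tS, fun e => h.sA (hmem.1 e),
      fun e => h.tA (hmem.1 e), fun e => h.stA (hmem.1 (by rw [map_mul]; exact e)),
      by rw [← map_mul]; exact hmem.2 h.ssA, by rw [← map_mul]; exact hmem.2 h.ttA,
      by rw [← map_inv, ← map_inv, ← map_mul, ← map_mul, ← map_mul]; exact hmem.2 h.commA⟩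
  have hpairback : ∀ {s t : G}, FourPair (S.map f) (A.map f) s t →
      ∃ s' t', FourPair S A s' t' ∧ f s' = s ∧ f t' = t := by
    intro s t h
    obtain ⟨s', hs', rfl⟩ := h.sS
    obtain ⟨t', ht', rfl⟩ := h.tS
    refine ⟨s', t', ⟨hs', ht', fun e => h.sA (hmem.2 e), fun e => h.tA (hmem.2 e),
      fun e => h.stA (by rw [← map_mul]; exact hmem.2 e),
      hmem.1 (by rw [map_mul]; exact h.ssA), hmem.1 (by rw [map_mul]; exact h.ttA),
      hmem.1 (by rw [map_mul, map_mul, map_mul, map_inv, map_inv]; exact h.commA)⟩, rfl, rfl⟩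
  have hlinemap : ∀ {s t e : H}, IsLine A s t e → IsLine (A.map f) (f s) (f t) (f e) := by
    intro s t e h
    refine ⟨fun he => h.1 (hf (he.trans (map_one f).symm)), fun c => ?_⟩
    rw [hcset, hcset]
    constructor
    · rintro ⟨⟨x, hx, rfl⟩, ⟨y, hy, hyx⟩⟩
      rw [hf hyx] at hy
      rcases (h.2 x).1 ⟨hx, hy⟩ with rfl | rfl
      · exact Or.inl (map_one f)
      · exact Or.inr rfl
    · rintro (rfl | rfl)
      · obtain ⟨h1, h2⟩ := (h.2 1).2 (Or.inl rfl)
        exact ⟨⟨1, h1, map_one f⟩, ⟨1, h2, map_one f⟩⟩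
      · obtain ⟨h1, h2⟩ := (h.2 e).2 (Or.inr rfl)
        exact ⟨⟨e, h1, rfl⟩, ⟨e, h2, rfl⟩⟩
  refine ⟨Subgroup.map_mono D.le, by rw [Subgroup.card_map_of_injective hf, D.cardA], ?_,
    by rw [Subgroup.card_map_of_injective hf, D.cardS], ?_, ?_, ?_, ?_, ?_, ?_, ?_, ?_, ?_, ?_, ?_,
    ?_⟩
  · rintro _ ⟨a, ha, rfl⟩
    rw [← map_mul, D.sqA a ha, map_one]
  · intro B hB hBc hB64
    have hBr : B ≤ f.range := hB.trans (Subgroup.map_le_range f S)
    have hBe : (B.comap f).map f = B := Subgroup.map_comap_eq_self hBr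
    have hcomm : IsMulCommutative ↥(B.comap f) := ⟨⟨fun a b => by
      refine Subtype.ext (hf ?_)
      show f ((a : H) * b) = f ((b : H) * a)
      rw [map_mul, map_mul]
      exact congrArg Subtype.val (hBc.is_comm.comm ⟨f a, a.2⟩ ⟨f b, b.2⟩)⟩⟩
    have hcard : Nat.card ↥(B.comap f) = 64 := by
      rw [← Subgroup.card_map_of_injective (K := B.comap f) hf, hBe, hB64]
    rw [← hBe, D.uniq (B.comap f) (fun x hx => hmem.1 (hB hx)) hcomm hcard]
  · rintro _ ⟨s, hs, rfl⟩ hsA hss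
    obtain ⟨a, ha, e⟩ := D.split s hs (fun h => hsA (hmem.2 h))
      (hmem.1 (by rw [map_mul]; exact hss))
    exact ⟨f a, hmem.2 ha, by rw [← map_mul, ← map_mul, e, map_one]⟩
  · rintro _ ⟨s, hs, rfl⟩ hsA hss
    rw [hcent, Subgroup.card_map_of_injective hf]
    exact D.cent16 s hs (fun h => hsA (hmem.2 h)) (hmem.1 (by rw [map_mul]; exact hss))
  · rintro _ ⟨s, hs, rfl⟩ hss
    rw [hcent, Subgroup.card_map_of_injective hf]
    exact D.cent4 s hs (fun h => hss (by rw [← map_mul]; exact hmem.2 h))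
  · refine le_trans (le_of_eq ?_) D.centS
    rw [← Subgroup.card_map_of_injective (K := A ⊓ Subgroup.centralizer (S : Set H)) hf]
    congr 2
    ext y
    constructor
    · rintro ⟨⟨x, hx, rfl⟩, hy⟩
      exact ⟨x, ⟨hx, fun s hs => ((hcom s x).1 (Subgroup.mem_centralizer_iff.1 hy (f s)
        (hmem.2 hs)))⟩, rfl⟩
    · rintro ⟨x, ⟨hx, hc⟩, rfl⟩
      refine ⟨⟨x, hx, rfl⟩, Subgroup.mem_centralizer_iff.2 ?_⟩
      rintro _ ⟨s, hs, rfl⟩
      exact (hcom s x).2 (Subgroup.mem_centralizer_iff.1 hc s hs)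
  · obtain ⟨u, hu, hu2⟩ := D.square
    exact ⟨f u, hmem.2 hu, fun h => hu2 (hmem.1 (by rw [map_mul]; exact h))⟩
  · intro s t h
    obtain ⟨s', t', h', rfl, rfl⟩ := hpairback h
    rw [hcent, hcent, Subgroup.card_map_of_injective hf]
    exact D.fourCent s' t' h'
  · intro s t h c hc
    obtain ⟨s', t', h', rfl, rfl⟩ := hpairback h
    rw [hcset] at hc
    obtain ⟨x, hx, rfl⟩ := hc
    exact (hcom _ _).2 (D.fourComm s' t' h' x hx)
  · intro s t h c hc hcs
    obtain ⟨s', t', h', rfl, rfl⟩ := hpairback h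
    obtain ⟨a, ha, rfl⟩ := hc
    rw [hcset]
    exact ⟨_, D.fourMid s' t' h' a ha ((hcom a s').1 hcs), by simp⟩
  · intro s t h
    obtain ⟨s', t', h', rfl, rfl⟩ := hpairback h
    obtain ⟨e, he⟩ := D.fourLine s' t' h'
    exact ⟨f e, hlinemap he⟩
  · obtain ⟨s, t, s', t', e, e', h, h', he, he', hne⟩ := D.twoFours
    exact ⟨f s, f t, f s', f t', f e, f e', hpairmap h, hpairmap h', hlinemap he, hlinemap he',
      fun h => hne (hf h)⟩
  · rintro _ ⟨s, hs, rfl⟩ hsA hss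
    obtain ⟨t, ht⟩ := D.covered s hs (fun h => hsA (hmem.2 h))
      (hmem.1 (by rw [map_mul]; exact hss))
    exact ⟨f t, hpairmap ht⟩

/-- The Sylow quotient of `M24` is the model. -/
theorem exists_model_equiv (P : Sylow 2 ↥Cfsg.M24) :
    Nonempty ((↥(P : Subgroup ↥Cfsg.M24) ⧸ Subgroup.center ↥(P : Subgroup ↥Cfsg.M24)) ≃* Q) := by
  have : Fact (Nat.Prime 2) := ⟨Nat.prime_two⟩
  have hPG : tabGroup s24Pc ≤ Cfsg.M24 :=
    tabGroup_le_of fun g hg => tabPerm_mem (by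
      have h := Cfsg.Agent.Golay.SylowTwo.s24_list
      simp only [listOK, Bool.and_eq_true, List.all_eq_true] at h
      exact h.1.1.1.1 g hg)
  have hcard : Nat.card ((tabGroup s24Pc).subgroupOf Cfsg.M24) =
      2 ^ (Nat.card Cfsg.M24).factorization 2 := by
    rw [Nat.card_congr (Subgroup.subgroupOfEquivOfLe hPG).toEquiv, card_P0,
      Cfsg.Agent.Golay.M24.card_M24, Nat.factorization_def _ Nat.prime_two,
      show (244823040 : ℕ) = 2 ^ 10 * 239085 by norm_num,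
      padicValNat.mul (pow_ne_zero _ two_ne_zero) (by norm_num), padicValNat.prime_pow,
      padicValNat.eq_zero_of_not_dvd (by norm_num)]
    norm_num
  let e : ↥(P : Subgroup ↥Cfsg.M24) ≃* P0 :=
    (P.equiv (Sylow.ofCard _ hcard)).trans (Subgroup.subgroupOfEquivOfLe hPG)
  refine ⟨QuotientGroup.congr _ _ e ?_⟩
  ext x
  simp only [Subgroup.mem_map, Subgroup.mem_center_iff]
  constructor
  · rintro ⟨y, hy, rfl⟩ g
    obtain ⟨h, rfl⟩ := e.surjective g
    show e h * e y = e y * e h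
    rw [← map_mul, ← map_mul, hy h]
  · intro hx
    obtain ⟨y, rfl⟩ := e.surjective x
    refine ⟨y, fun g => e.injective ?_, rfl⟩
    rw [map_mul, map_mul]
    exact hx (e g)

/-- **The data part.** -/
theorem dataFact : DataFact.{u} := by
  intro G _ _ S P A hiso hA hAc hA64
  obtain ⟨e⟩ := hiso
  obtain ⟨e'⟩ := exists_model_equiv P
  let f : Q →* G := ((S : Subgroup G).subtype).comp (e.trans e').symm.toMonoidHom
  have hf : Function.Injective f :=
    (S : Subgroup G).subtype_injective.comp (e.trans e').symm.injective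
  have hrange : (⊤ : Subgroup Q).map f = (S : Subgroup G) := by
    ext x
    constructor
    · rintro ⟨y, -, rfl⟩
      exact ((e.trans e').symm y).2
    · intro hx
      exact ⟨(e.trans e') ⟨x, hx⟩, Subgroup.mem_top _,
        congrArg Subtype.val ((e.trans e').symm_apply_apply ⟨x, hx⟩)⟩
  have D := data_model.mapHom f hf
  rw [hrange] at D
  rwa [D.uniq A hA hAc hA64]

end Cfsg.Agent.M24Type
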