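import Cfsg.Agent.Lib.M24Type.Tools
import Cfsg.Agent.Lib.PGroups.MaximalClass

/-!
# No proper subgroup contains the local subgroups of `A`

With `B = A ∩ Z(Y)` of index at least eight in `A`: if `M < Y` contains `N_Y(A)` and the centralizers in `Y` of the
elements of `A - B` and `A O(M)` is normal in `M`, then `M` is strongly embedded modulo `B`, against one class of
involutions.
-/

set_option autoImplicit false
set_option linter.style.haveILetI false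
set_option linter.unusedSectionVars false

open Subgroup
open Cfsg.Agent.Walter.Core (coreOf coreOf_le odd_coreOf le_normalizer_coreOf le_coreOf)

universe u

namespace Cfsg.Agent.M24Type

variable {G : Type u} [Group G] [Finite G]

/-- A 2-group fixes a coset of `B` in an invariant subset `D - B`. -/
theorem exists_fixed_mod {T B : Subgroup G} (hT : IsPGroup 2 T) {D : Set G} (hDT : D ⊆ T)
    (hD : ∃ f ∈ D, f ∉ B) (hinv : ∀ f ∈ D, ∀ t ∈ T, f * t * f⁻¹ * t⁻¹ ∈ D) :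
    ∃ f ∈ D, f ∉ B ∧ ∀ t ∈ T, f * t * f⁻¹ * t⁻¹ ∈ B := by
  haveI : Fact (Nat.Prime 2) := ⟨Nat.prime_two⟩
  haveI := hT.isNilpotent
  by_contra hcon
  push Not at hcon
  obtain ⟨N, hN⟩ := (Subgroup.nilpotent_iff_lowerCentralSeries (G := ↥T)).1 inferInstance
  have key : ∀ j, ∃ f : ↥T, (f : G) ∈ D ∧ (f : G) ∉ B ∧ f ∈ PGroups.MaximalClass.lcs ↥T j := by
    intro j
    induction j with
    | zero =>
      obtain ⟨f, hf, hfB⟩ := hD
      exact ⟨⟨f, hDT hf⟩, hf, hfB, by simp [PGroups.MaximalClass.lcs]⟩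
    | succ j ih =>
      obtain ⟨f, hf, hfB, hfj⟩ := ih
      obtain ⟨t, ht, htB⟩ := hcon f hf hfB
      refine ⟨f * ⟨t, ht⟩ * f⁻¹ * (⟨t, ht⟩ : ↥T)⁻¹, hinv f hf t ht, htB, ?_⟩
      rw [PGroups.MaximalClass.lcs_succ]
      exact commutator_mem_commutator hfj (mem_top _)
  obtain ⟨f, hf, hfB, hfN⟩ := key N
  rw [show PGroups.MaximalClass.lcs ↥T N = ⊥ from hN, mem_bot] at hfN
  exact hfB (by rw [hfN]; exact one_mem B)

/-- A fourth part of a set of commutators lies in a subgroup of index two. -/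
theorem exists_ne_one_mem {S A : Subgroup G} (d : Data S A) {s : G} (hs : s ∈ S) (hsA : s ∉ A)
    (hss : s * s ∈ A) {B L : Subgroup G} (hBL : B ≤ L) (h2 : Nat.card ↥L = 2 * Nat.card ↥B)
    (hL : ∀ c ∈ cset A s, c ∈ L) : ∃ c ∈ cset A s, c ∈ B ∧ c ≠ 1 := by
  classical
  by_contra hcon
  push Not at hcon
  have hinj : Function.Injective (fun z : {z // z ∈ cset A s} => decide ((z : G) = 1)) := by
    rintro ⟨z, hz⟩ ⟨z', hz'⟩ hzz
    have hzz' : z = 1 ↔ z' = 1 := decide_eq_decide.1 hzz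
    refine Subtype.ext ?_
    show z = z'
    by_cases e1 : z = 1
    · rw [e1, hzz'.1 e1]
    have e2 : z' ≠ 1 := fun e => e1 (hzz'.2 e)
    rcases d.mem_or_of_card hBL h2 (hL z' hz') (fun h => e2 (hcon z' hz' h)) (hL z hz) with h | h
    · exact absurd (hcon z hz h) e1
    · rw [← d.inv_eq (d.cset_le hs hz')]
      exact eq_inv_of_mul_eq_one_left (hcon _ (d.cset_mul hs hz hz') h)
  have h := Nat.card_le_card_of_injective _ hinj
  rw [d.card_cset hs hsA hss] at h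
  simp at h

/-- The hypotheses on a proper subgroup `M` of `Y`. -/
structure Trap (A Y M B : Subgroup G) : Prop where
  hAM : A ≤ M
  hMY : M ≤ Y
  ne : M ≠ Y
  norm : Y ⊓ normalizer (A : Set G) ≤ M
  cent : ∀ f ∈ A, f ∉ B → Y ⊓ centralizer ({f} : Set G) ≤ M
  core : NormCore A M
  hBA : B ≤ A
  central : ∀ b ∈ B, ∀ y ∈ Y, y * b = b * y
  index : 8 * Nat.card ↥B ≤ 64

namespace Trap

variable {S : Sylow 2 G} {A Y M B : Subgroup G} (d : Data (S : Subgroup G) A)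
  (hAut : ∀ S' : Sylow 2 G, Data (S' : Subgroup G) A → AutProps (S' : Subgroup G) A) (h : Trap A Y M B)

include h

theorem hAY : A ≤ Y := h.hAM.trans h.hMY

theorem hBM : B ≤ M := h.hBA.trans h.hAM

theorem fix_B {y b : G} (hy : y ∈ Y) (hb : b ∈ B) : y * b * y⁻¹ = b := conj_eq_iff.2 (h.central b hb y hy)

theorem bad {f b : G} (hf : f ∈ A ∧ f ∉ B) (hb : b ∈ B) : b * f ∈ A ∧ b * f ∉ B :=
  ⟨mul_mem (h.hBA hb) hf.1, fun hc => hf.2 (by simpa using mul_mem (inv_mem hb) hc)⟩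

include d

/-- A conjugate of an element of `A - B` lies in `M` only trivially. -/
theorem fix {f : G} (hf : f ∈ A ∧ f ∉ B) {g : G} (hg : g ∈ Y) (hgf : g * f * g⁻¹ ∈ M) : g ∈ M := by
  have hff := d.sqA f hf.1
  haveI : Fact (Nat.Prime 2) := ⟨Nat.prime_two⟩
  obtain ⟨R, hAR, hR⟩ := exists_isSylIn h.hAM d.isP_A
  obtain ⟨S', hRS, d'⟩ := d.exists_data_self hR.isP hAR
  have h2 : (g * f * g⁻¹) ^ 2 ^ 1 = 1 := by
    rw [pow_one, conj_pow, pow_two, hff]; simp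
  obtain ⟨m, hm, hmR⟩ := hR.exists_conj (Q := zpowers (g * f * g⁻¹)) (zpowers_le.2 hgf)
    (Agent.SEAbelian.isPGroup_zpowers h2)
  have hA' : m * g * f * (m * g)⁻¹ ∈ A := closure_fact G S' A d' f hf.1 (m * g) (hRS (by
    have := hmR _ (mem_zpowers _)
    rwa [show m * (g * f * g⁻¹) * m⁻¹ = m * g * f * (m * g)⁻¹ by group] at this))
  have hmY := h.hMY hm
  obtain ⟨n, hnY, hnA, hne⟩ := d.fusion h.hAY (Y.mul_mem hmY hg) hf.1 hA'
  have hc : n⁻¹ * (m * g) ∈ M := h.cent f hf.1 hf.2 ⟨Y.mul_mem (Y.inv_mem hnY) (Y.mul_mem hmY hg),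
    mem_centralizer_one.2 (by
      calc f * (n⁻¹ * (m * g)) = n⁻¹ * (n * f * n⁻¹) * (m * g) := by group
        _ = n⁻¹ * (m * g) * f := by rw [hne]; group)⟩
  have := mul_mem (mul_mem (inv_mem hm) (h.norm ⟨hnY, hnA⟩)) hc
  rwa [show m⁻¹ * n * (n⁻¹ * (m * g)) = g by group] at this

theorem mem_of_comm {f : G} (hf : f ∈ A ∧ f ∉ B) {g : G} (hg : g ∈ Y) (hgf : g * f * g⁻¹ * f⁻¹ ∈ B) :
    g ∈ M := by
  refine h.fix d hf hg ?_
  have := mul_mem (h.hBM hgf) (h.hAM hf.1)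
  rwa [inv_mul_cancel_right] at this

/-- Two conjugates of elements of `A - B` at different points are conjugate modulo `B`. -/
theorem conj_pair {f f' : G} (hf : f ∈ A ∧ f ∉ B) (hf' : f' ∈ A ∧ f' ∉ B) {y : G} (hy : y ∈ Y)
    (hyM : y ∉ M) :
    ∃ k : G, (∀ K : Subgroup G, f ∈ K → y * f' * y⁻¹ ∈ K → k ∈ K) ∧
      k * f * k⁻¹ * (y * f' * y⁻¹)⁻¹ ∈ B := by
  set z := y * f' * y⁻¹ with hzdef
  have hzY : z ∈ Y := Y.mul_mem (Y.mul_mem hy (h.hAY hf'.1)) (Y.inv_mem hy)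
  have hff := d.sqA f hf.1
  have hzz : z * z = 1 := by
    rw [hzdef, show y * f' * y⁻¹ * (y * f' * y⁻¹) = y * (f' * f') * y⁻¹ by group, d.sqA f' hf'.1]; group
  rcases dihedral (B := B) hff hzz with hk | ⟨i, hiK, hiB, hii, hif, hiz, hfi, k, hkK, hk⟩
  · exact hk
  exfalso
  have hiY : i ∈ Y := hiK Y (h.hAY hf.1) hzY
  have hiM : i ∈ M := h.mem_of_comm d hf hiY hif
  have hyiy : y⁻¹ * i * y ∈ M := by
    refine h.mem_of_comm d hf' (Y.mul_mem (Y.mul_mem (Y.inv_mem hy) hiY) hy) ?_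
    rw [show y⁻¹ * i * y * f' * (y⁻¹ * i * y)⁻¹ * f'⁻¹ = y⁻¹ * (i * z * i⁻¹ * z⁻¹) * y⁻¹⁻¹ by
      rw [hzdef]; group, h.fix_B (Y.inv_mem hy) hiz]
    exact hiz
  -- `i f` is a conjugate of an element of `A - B` in `M`
  obtain ⟨g, f'', hf'', hg, hgf⟩ : ∃ g f'', (f'' ∈ A ∧ f'' ∉ B) ∧ g ∈ Y ∧ i * f = g * f'' * g⁻¹ := by
    have hkY : k ∈ Y := hkK Y (h.hAY hf.1) hzY
    rcases hk with e | e
    · exact ⟨k, f, hf, hkY, e⟩
    · exact ⟨k * y, f', hf', Y.mul_mem hkY hy, by rw [e, hzdef]; group⟩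
  have hgM : g ∈ M := h.fix d hf'' hg (hgf ▸ M.mul_mem hiM (h.hAM hf.1))
  obtain ⟨o, ho, n, hn, hnA, rfl⟩ := d.frattini h.hAM h.core hgM
  have ha0 : n * f'' * n⁻¹ ∈ A := conj_mem hnA hf''.1
  set a0 := n * f'' * n⁻¹ with ha0def
  set o1 := o * (a0 * o⁻¹ * a0⁻¹) with ho1def
  have ho1 : o1 ∈ coreOf M := mul_mem ho (conj_mem_core (h.hAM ha0) (inv_mem ho))
  have e1 : i * f = o1 * a0 := by rw [hgf, ho1def, ha0def]; group
  set c := f * a0 with hcdef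
  have hc : c ∈ A := mul_mem hf.1 ha0
  set o2 := f * o1 * f⁻¹ with ho2def
  have ho2 : o2 ∈ coreOf M := conj_mem_core (h.hAM hf.1) ho1
  have e2 : i⁻¹ = o2 * c := by
    rw [← hfi, ho2def, hcdef, mul_assoc f i f, e1]; group
  have hc2 : c * c = 1 := d.sqA c hc
  have h1 : i⁻¹ * i⁻¹ ∈ coreOf M := by
    rw [e2, show o2 * c * (o2 * c) = o2 * (c * o2 * c⁻¹) * (c * c) by group, hc2, mul_one]
    exact mul_mem ho2 (conj_mem_core (h.hAM hc) ho2)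
  have hii1 : i * i = 1 := by
    refine eq_one_of_odd (odd_coreOf M) ?_ ?_
    · rw [show i * i = (i⁻¹ * i⁻¹)⁻¹ by simp]; exact inv_mem h1
    · exact d.sqA _ (h.hBA hii)
  have hinv : i⁻¹ = i := inv_eq_of_mul_eq_one_right hii1
  have hcinv : c * o2 * c⁻¹ = o2⁻¹ := by
    refine eq_inv_of_mul_eq_one_right ?_
    have : o2 * (c * o2 * c⁻¹) * (c * c) = i⁻¹ * i⁻¹ := by rw [e2]; group
    rw [hc2, mul_one, hinv, hii1] at this
    exact this
  obtain ⟨l, hl⟩ := (odd_coreOf M).of_dvd_nat ((coreOf M).orderOf_dvd_natCard ho2)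
  set w := o2 ^ (l + 1) with hwdef
  have hw2 : w * w = o2 := by
    rw [hwdef, ← pow_add, show l + 1 + (l + 1) = 2 * l + 1 + 1 by omega, pow_succ, ← hl, pow_orderOf_eq_one,
      one_mul]
  have hcw : c * w * c⁻¹ = w⁻¹ := by rw [hwdef, ← conj_pow, hcinv, inv_pow]
  have hwc : w * c * w⁻¹ = i := by
    rw [show w * c * w⁻¹ = w * (c * w * c⁻¹)⁻¹ * c by group, hcw, inv_inv, hw2, ← e2, hinv]
  have hwM : w ∈ M := coreOf_le M (pow_mem ho2 _)
  have hcB : c ∉ B := fun hc' => hiB (by rw [← hwc, h.fix_B (h.hMY hwM) hc']; exact hc')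
  have hyw : y⁻¹ * w ∈ M := by
    refine h.fix d ⟨hc, hcB⟩ (Y.mul_mem (Y.inv_mem hy) (h.hMY hwM)) ?_
    rwa [show y⁻¹ * w * c * (y⁻¹ * w)⁻¹ = y⁻¹ * (w * c * w⁻¹) * y by group, hwc]
  exact hyM (by simpa using inv_mem (mul_mem hyw (inv_mem hwM)))

include hAut

/-- The centralizers modulo `B` of the involutions of `M` outside `A` lie in `M`. -/
theorem cent_out {S' : Sylow 2 G} (d' : Data (S' : Subgroup G) A) {x : G} (hxS : x ∈ (S' : Subgroup G))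
    (hxA : x ∉ A) (hx : x ∈ M) (hxx : x * x ∈ B) {g : G} (hg : g ∈ Y) (hgx : g * x * g⁻¹ * x⁻¹ ∈ B) :
    g ∈ M := by
  by_contra hgM
  haveI : Fact (Nat.Prime 2) := ⟨Nat.prime_two⟩
  have hxxA := h.hBA hxx
  have hxY := h.hMY hx
  set W := A ⊓ centralizer ({x} : Set G)
  have hW16 : Nat.card ↥W = 16 := d'.cent16 x hxS hxA hxxA
  let C : Subgroup G :=
    { carrier := {k | k ∈ Y ∧ k * x * k⁻¹ * x⁻¹ ∈ B}
      mul_mem' := by
        rintro a b ⟨ha, ha'⟩ ⟨hb, hb'⟩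
        refine ⟨mul_mem ha hb, ?_⟩
        rw [show a * b * x * (a * b)⁻¹ * x⁻¹ = a * (b * x * b⁻¹ * x⁻¹) * a⁻¹ * (a * x * a⁻¹ * x⁻¹) by group,
          h.fix_B ha hb']
        exact mul_mem hb' ha'
      one_mem' := ⟨one_mem Y, by simp⟩
      inv_mem' := by
        rintro a ⟨ha, ha'⟩
        refine ⟨inv_mem ha, ?_⟩
        rw [show a⁻¹ * x * a⁻¹⁻¹ * x⁻¹ = a⁻¹ * (a * x * a⁻¹ * x⁻¹)⁻¹ * a⁻¹⁻¹ by group,
          h.fix_B (inv_mem ha) (inv_mem ha')]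
        exact inv_mem ha' }
  set D := A ⊓ C
  have hgC : g ∈ C := ⟨hg, hgx⟩
  have hBD : B ≤ D := fun b hb => ⟨h.hBA hb, h.hAY (h.hBA hb), by
    rw [conj_eq_iff.2 (h.central b hb x hxY).symm, mul_inv_cancel]; exact one_mem B⟩
  have hWD : W ≤ D := fun a ha => ⟨(mem_cent.1 ha).1, h.hAY (mem_cent.1 ha).1, by
    rw [conj_eq_iff.2 (mem_cent.1 ha).2.symm, mul_inv_cancel]; exact one_mem B⟩
  have hB8 := h.index
  have hD16 : 16 ≤ Nat.card ↥D := hW16 ▸ card_le_of_le hWD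
  have hBW : B ≤ W := fun b hb => mem_cent.2 ⟨h.hBA hb, h.central b hb x hxY⟩
  have hDne : ∃ f ∈ D, f ∉ B := by
    by_contra hc
    push Not at hc
    have := card_le_of_le (show D ≤ B from hc)
    omega
  -- `N_M(A) ∩ C(x)` is transitive on `(D/B)#`
  let H : Subgroup G :=
    { carrier := {n | n ∈ M ∧ n ∈ normalizer (A : Set G) ∧
        n * x * n⁻¹ * x⁻¹ ∈ centralizer (A : Set G)}
      mul_mem' := by
        rintro a b ⟨ha, ha', ha''⟩ ⟨hb, hb', hb''⟩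
        refine ⟨mul_mem ha hb, mul_mem ha' hb', ?_⟩
        rw [show a * b * x * (a * b)⁻¹ * x⁻¹ = a * (b * x * b⁻¹ * x⁻¹) * a⁻¹ * (a * x * a⁻¹ * x⁻¹) by group]
        refine mul_mem ?_ ha''
        refine mem_centralizer_iff.2 fun e he => ?_
        have h1 := mem_centralizer_iff.1 hb'' _ (conj_mem (inv_mem ha') he)
        calc e * (a * (b * x * b⁻¹ * x⁻¹) * a⁻¹) = a * (a⁻¹ * e * a⁻¹⁻¹ * (b * x * b⁻¹ * x⁻¹)) * a⁻¹ := by
              group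
          _ = a * (b * x * b⁻¹ * x⁻¹) * a⁻¹ * e := by rw [h1]; group
      one_mem' := ⟨one_mem M, one_mem _, by simp⟩
      inv_mem' := by
        rintro a ⟨ha, ha', ha''⟩
        refine ⟨inv_mem ha, inv_mem ha', ?_⟩
        rw [show a⁻¹ * x * a⁻¹⁻¹ * x⁻¹ = a⁻¹ * (a * x * a⁻¹ * x⁻¹)⁻¹ * a by group]
        refine mem_centralizer_iff.2 fun e he => ?_
        have h1 := mem_centralizer_iff.1 (inv_mem ha'') _ (conj_mem ha' he)
        calc e * (a⁻¹ * (a * x * a⁻¹ * x⁻¹)⁻¹ * a) = a⁻¹ * (a * e * a⁻¹ * (a * x * a⁻¹ * x⁻¹)⁻¹) * a := by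
              group
          _ = a⁻¹ * (a * x * a⁻¹ * x⁻¹)⁻¹ * a * e := by rw [h1]; group }
  have hAH : A ≤ H := fun a ha => ⟨h.hAM ha, le_normalizer ha, mem_centralizer_iff.2 fun e he =>
    d'.comm he (d'.cset_le hxS ⟨a, ha, rfl⟩)⟩
  have htrans : ∀ f ∈ D, f ∉ B → ∀ f' ∈ D, f' ∉ B → ∃ n ∈ H, n * f * n⁻¹ * f'⁻¹ ∈ B := by
    intro f hf hfB f' hf' hf'B
    obtain ⟨k, hkK, hk⟩ := h.conj_pair d ⟨hf.1, hfB⟩ ⟨hf'.1, hf'B⟩ hg hgM
    have hkC : k ∈ C := hkK C hf.2 (mul_mem (mul_mem hgC hf'.2) (inv_mem hgC))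
    set l := g⁻¹ * k with hldef
    have hlC : l ∈ C := mul_mem (inv_mem hgC) hkC
    have hlB : l * f * l⁻¹ * f'⁻¹ ∈ B := by
      rw [show l * f * l⁻¹ * f'⁻¹ = g⁻¹ * (k * f * k⁻¹ * (g * f' * g⁻¹)⁻¹) * g⁻¹⁻¹ by rw [hldef]; group,
        h.fix_B (Y.inv_mem hg) hk]
      exact hk
    have hlM : l ∈ M := by
      refine h.fix d ⟨hf.1, hfB⟩ hlC.1 ?_
      have := mul_mem (h.hBM hlB) (h.hAM hf'.1)
      rwa [inv_mul_cancel_right] at this
    obtain ⟨o, ho, n, hn, hnA, hlon⟩ := d.frattini h.hAM h.core hlM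
    have hf'' : n * f * n⁻¹ ∈ A := conj_mem hnA hf.1
    refine ⟨n, ⟨hn, hnA, ?_⟩, ?_⟩
    · -- modulo `O(M)` the element `n` acts as `l`
      set b0 := l * x * l⁻¹ * x⁻¹ with hb0
      have hb0B : b0 ∈ B := hlC.2
      set q := n * x * n⁻¹ * x⁻¹ with hqdef
      have hxnA := d'.normal hxS
      have hq : q = o⁻¹ * b0 * (x * o * x⁻¹) := by rw [hqdef, hb0, hlon]; group
      have hqO : b0⁻¹ * q ∈ coreOf M := by
        rw [hq, show b0⁻¹ * (o⁻¹ * b0 * (x * o * x⁻¹)) = b0⁻¹ * o⁻¹ * b0⁻¹⁻¹ * (x * o * x⁻¹) by group]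
        exact mul_mem (conj_mem_core (inv_mem (h.hBM hb0B)) (inv_mem ho)) (conj_mem_core hx ho)
      have hqN : b0⁻¹ * q ∈ normalizer (A : Set G) := mul_mem (inv_mem (le_normalizer (h.hBA hb0B)))
        (mul_mem (mul_mem (mul_mem hnA hxnA) (inv_mem hnA)) (inv_mem hxnA))
      have hqc := cent_of_odd d.sqA (odd_coreOf M) (h.hAM.trans (le_normalizer_coreOf M)) hqO hqN
      have hb0c : b0 ∈ centralizer (A : Set G) :=
        mem_centralizer_iff.2 fun e he => d.comm he (h.hBA hb0B)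
      simpa using mul_mem hb0c hqc
    · have hcA : (n * f * n⁻¹)⁻¹ * (l * f * l⁻¹ * f'⁻¹) * f' ∈ A :=
        mul_mem (mul_mem (inv_mem hf'') (h.hBA hlB)) hf'.1
      have hcO : (n * f * n⁻¹)⁻¹ * (l * f * l⁻¹ * f'⁻¹) * f' ∈ coreOf M := by
        rw [show (n * f * n⁻¹)⁻¹ * (l * f * l⁻¹ * f'⁻¹) * f' =
          (n * f * n⁻¹)⁻¹ * o * (n * f * n⁻¹)⁻¹⁻¹ * o⁻¹ by rw [hlon]; group]
        exact mul_mem (conj_mem_core (inv_mem (h.hAM hf'')) ho) (inv_mem ho)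
      have h1 := eq_one_of_odd (odd_coreOf M) hcO (d.sqA _ hcA)
      have e : n * f * n⁻¹ * f'⁻¹ = l * f * l⁻¹ * f'⁻¹ := by
        rw [mul_assoc _ (l * f * l⁻¹ * f'⁻¹) f', inv_mul_eq_one] at h1
        rw [h1, inv_mul_cancel_right, mul_inv_eq_iff_eq_mul]; simp
      exact e ▸ hlB
  -- a 2-subgroup of `H` has the same action
  obtain ⟨T, hAT, hT⟩ := exists_isSylIn hAH d.isP_A
  have hmemC : ∀ k ∈ H, Odd (orderOf k) → k ∈ centralizer (A : Set G) := fun k hk ho =>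
    (hAut S' d').cent x hxS hxA hxxA k hk.2.1 ho hk.2.2
  have hpow : ∀ k ∈ H, ∃ j : ℕ, k ^ 2 ^ j ∈ H ⊓ centralizer (A : Set G) := fun k hk => by
    obtain ⟨j, m, hm, hjm⟩ := Agent.SEAbelian.exists_parts k
    exact ⟨j, pow_mem hk _, hmemC _ (pow_mem hk _)
      (Agent.SEAbelian.odd_orderOf_of_pow hm (by rw [← pow_mul, hjm]))⟩
  have hNn : H ≤ normalizer ((H ⊓ centralizer (A : Set G) : Subgroup G) : Set G) := fun k hk =>
    mem_normalizer_of_conj fun c hc => by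
      refine ⟨H.mul_mem (H.mul_mem hk hc.1) (H.inv_mem hk), mem_centralizer_iff.2 fun e he => ?_⟩
      have h1 := mem_centralizer_iff.1 hc.2 _ (conj_mem (inv_mem hk.2.1) he)
      calc e * (k * c * k⁻¹) = k * (k⁻¹ * e * k⁻¹⁻¹ * c) * k⁻¹ := by group
        _ = k * c * k⁻¹ * e := by rw [h1]; group
  have hDinv : ∀ f ∈ (D : Set G), ∀ t ∈ T, f * t * f⁻¹ * t⁻¹ ∈ (D : Set G) := by
    intro f hf t ht
    obtain ⟨htM, htA, htq⟩ := hT.le ht
    have hct : t * f⁻¹ * t⁻¹ ∈ D := by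
      have hfi : f⁻¹ ∈ D := inv_mem hf
      have hft : t * f⁻¹ * t⁻¹ ∈ A := conj_mem htA hfi.1
      refine ⟨hft, h.hAY hft, ?_⟩
      set q := t * x * t⁻¹ * x⁻¹ with hqdef
      set e := t * f⁻¹ * t⁻¹ with hedef
      have hqe : q⁻¹ * e = e * q⁻¹ := ((mem_centralizer_iff.1 (inv_mem htq)) e hft).symm
      have e1 : e * x * e⁻¹ * x⁻¹ = q⁻¹ * (t * (f⁻¹ * x * f⁻¹⁻¹ * x⁻¹) * t⁻¹) * q := by
        calc e * x * e⁻¹ * x⁻¹ = e * q⁻¹ * (t * x * t⁻¹) * e⁻¹ * x⁻¹ := by rw [hqdef]; group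
          _ = q⁻¹ * e * (t * x * t⁻¹) * e⁻¹ * x⁻¹ := by rw [hqe]
          _ = _ := by rw [hedef, hqdef]; group
      rw [e1, h.fix_B (h.hMY htM) hfi.2.2]
      rw [mul_assoc, show (f⁻¹ * x * f⁻¹⁻¹ * x⁻¹) * q = q * (f⁻¹ * x * f⁻¹⁻¹ * x⁻¹) from
        mem_centralizer_iff.1 htq _ (h.hBA hfi.2.2), inv_mul_cancel_left]
      exact hfi.2.2
    have := D.mul_mem hf hct
    rwa [show f * (t * f⁻¹ * t⁻¹) = f * t * f⁻¹ * t⁻¹ by group] at this
  obtain ⟨f0, hf0, hf0B, hfix⟩ := exists_fixed_mod hT.isP (D := (D : Set G))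
    (fun a ha => hAT ha.1) hDne hDinv
  have hcos : ∀ a ∈ D, a ∈ B ∨ a * f0 ∈ B := fun a ha => by
    by_cases haB : a ∈ B
    · exact Or.inl haB
    refine Or.inr ?_
    obtain ⟨n, hn, hnB⟩ := htrans f0 hf0 hf0B a ha haB
    obtain ⟨t, ht, c, hc, rfl⟩ := exists_mul_of_pow inf_le_left hNn hpow hT _ hn
    have e : c * t * f0 * (c * t)⁻¹ = t * f0 * t⁻¹ := by
      rw [show c * t * f0 * (c * t)⁻¹ = c * (t * f0 * t⁻¹) * c⁻¹ by group]
      exact conj_eq_iff.2 (mem_centralizer_iff.1 hc.2 _ (conj_mem (hT.le ht).2.1 hf0.1)).symm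
    rw [e] at hnB
    have h1 := mul_mem (hfix t ht) hnB
    rw [show f0 * t * f0⁻¹ * t⁻¹ * (t * f0 * t⁻¹ * a⁻¹) = f0 * a⁻¹ by group, d.inv_eq ha.1,
      d.comm hf0.1 ha.1] at h1
    exact h1
  have hD2 : Nat.card ↥D = 2 * Nat.card ↥B := card_two_mul hBD hf0 hf0B hcos
  have hWeq : W = D := eq_of_le_of_card_ge hWD (by omega)
  obtain ⟨c, hc, hcB, hc1⟩ := exists_ne_one_mem d' hxS hxA hxxA hBW (by omega)
    (fun c hc => mem_cent.2 ⟨d'.cset_le hxS hc, d'.cset_comm hxS hxxA hc⟩)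
  obtain ⟨a, ha, rfl⟩ := hc
  have haW : a ∈ W := hWeq ▸ ⟨ha, h.hAY ha, hcB⟩
  exact hc1 (by rw [conj_eq_iff.2 (mem_cent.1 haW).2.symm, mul_inv_cancel])

/-- The centralizer modulo `B` of an involution of `M` lies in `M`. -/
theorem cent_in {x : G} (hx : x ∈ M) (hxx : x * x ∈ B) (hxB : x ∉ B) {g : G} (hg : g ∈ Y)
    (hgx : g * x * g⁻¹ * x⁻¹ ∈ B) : g ∈ M := by
  haveI : Fact (Nat.Prime 2) := ⟨Nat.prime_two⟩
  obtain ⟨R, hAR, hR⟩ := exists_isSylIn h.hAM d.isP_A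
  obtain ⟨S', hRS, d'⟩ := d.exists_data_self hR.isP hAR
  have h4 : x ^ 2 ^ 2 = 1 := by
    rw [show x ^ 2 ^ 2 = x * x * (x * x) by simp [pow_succ, mul_assoc]]
    exact d.sqA _ (h.hBA hxx)
  obtain ⟨m, hm, hmR⟩ := hR.exists_conj (Q := zpowers x) (zpowers_le.2 hx) (Agent.SEAbelian.isPGroup_zpowers h4)
  have hmY := h.hMY hm
  set x1 := m * x * m⁻¹ with hx1
  have hx1B : x1 ∉ B := fun hc => hxB (by
    have := h.fix_B (Y.inv_mem hmY) hc
    rw [hx1, show m⁻¹ * (m * x * m⁻¹) * m⁻¹⁻¹ = x by group] at this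
    exact this ▸ hc)
  have hxx1 : x1 * x1 ∈ B := by
    rw [hx1, show m * x * m⁻¹ * (m * x * m⁻¹) = m * (x * x) * m⁻¹ by group, h.fix_B hmY hxx]
    exact hxx
  have hg1 : m * g * m⁻¹ * x1 * (m * g * m⁻¹)⁻¹ * x1⁻¹ ∈ B := by
    rw [show m * g * m⁻¹ * x1 * (m * g * m⁻¹)⁻¹ * x1⁻¹ = m * (g * x * g⁻¹ * x⁻¹) * m⁻¹ by rw [hx1]; group,
      h.fix_B hmY hgx]
    exact hgx
  have hgY : m * g * m⁻¹ ∈ Y := Y.mul_mem (Y.mul_mem hmY hg) (Y.inv_mem hmY)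
  have hmg : m * g * m⁻¹ ∈ M := by
    by_cases hxA : x1 ∈ A
    · exact h.mem_of_comm d ⟨hxA, hx1B⟩ hgY hg1
    · exact h.cent_out d hAut d' (hRS (hmR x (mem_zpowers x))) hxA
        (M.mul_mem (M.mul_mem hm hx) (M.inv_mem hm)) hxx1 hgY hg1
  simpa [mul_assoc] using mul_mem (mul_mem (inv_mem hm) hmg) hm

/-- There is no such `M`. -/
theorem false : False := by
  haveI : Fact (Nat.Prime 2) := ⟨Nat.prime_two⟩
  obtain ⟨y, hy, hyM⟩ := SetLike.not_le_iff_exists.1 fun hle => h.ne (le_antisymm h.hMY hle)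
  obtain ⟨f, hf, hfB⟩ : ∃ f ∈ A, f ∉ B := by
    by_contra hc
    push Not at hc
    have := card_le_of_le (show A ≤ B from hc)
    have := h.index
    rw [d.cardA] at *
    omega
  set z := y * f * y⁻¹ with hzdef
  have hzY : z ∈ Y := Y.mul_mem (Y.mul_mem hy (h.hAY hf)) (Y.inv_mem hy)
  have hzM : z ∉ M := fun hz => hyM (h.fix d ⟨hf, hfB⟩ hy hz)
  have hzz : z * z = 1 := by
    rw [hzdef, show y * f * y⁻¹ * (y * f * y⁻¹) = y * (f * f) * y⁻¹ by group, d.sqA f hf]; group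
  -- one class of involutions
  have hone : ∀ x ∈ M, x * x = 1 → x ∉ B → ∃ g ∈ Y, ∃ b ∈ B, x = g * (b * f) * g⁻¹ := by
    intro x hx hxx hxB
    rcases dihedral (B := B) hxx hzz with ⟨k, hkK, hk⟩ | ⟨i, hiK, hiB, hii, hix, hiz, -, -⟩
    · have hkY : k ∈ Y := hkK Y (h.hMY hx) hzY
      refine ⟨k⁻¹ * y, Y.mul_mem (Y.inv_mem hkY) hy, _, hk, ?_⟩
      set b := k * x * k⁻¹ * z⁻¹ with hbdef
      have hb : y⁻¹ * b * y⁻¹⁻¹ = b := h.fix_B (Y.inv_mem hy) hk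
      calc x = k⁻¹ * (b * z) * k := by rw [hbdef]; group
        _ = k⁻¹ * y * (y⁻¹ * b * y⁻¹⁻¹ * f) * (k⁻¹ * y)⁻¹ := by rw [hzdef]; group
        _ = _ := by rw [hb]
    · exfalso
      have hiY : i ∈ Y := hiK Y (h.hMY hx) hzY
      have hiM : i ∈ M := h.cent_in d hAut hx (by rw [hxx]; exact one_mem B) hxB hiY hix
      refine hzM (h.cent_in d hAut hiM hii hiB hzY ?_)
      rw [show z * i * z⁻¹ * i⁻¹ = (i * z * i⁻¹ * z⁻¹)⁻¹ by group]
      exact inv_mem hiz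
  obtain ⟨R, hAR, hR⟩ := exists_isSylIn h.hAM d.isP_A
  obtain ⟨S', hRS, d'⟩ := d.exists_data_self hR.isP hAR
  by_cases hRA : R ≤ A
  · have hA : IsSylIn A M := le_antisymm hRA hAR ▸ hR
    set J := Y ⊓ normalizer (A : Set G)
    have hJ : Odd ((centralizer (A : Set G)).relIndex J) :=
      (hA.mono (le_inf h.hAY le_normalizer) h.norm).odd.of_dvd_nat
        (relIndex_dvd_of_le_left J fun a ha => mem_centralizer_iff.2 fun e he => d.comm he ha)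
    refine (hAut S' d').trans J inf_le_right hJ B h.hBA (by have := h.index; omega)
      (fun k hk b hb => h.fix_B hk.1 hb) ?_
    intro a ha haB a' ha' ha'B
    obtain ⟨g, hg, b, hb, e⟩ := hone a (h.hAM ha) (d.sqA a ha) haB
    obtain ⟨g', hg', b', hb', e'⟩ := hone a' (h.hAM ha') (d.sqA a' ha') ha'B
    set u := g' * g⁻¹
    have hu : u ∈ Y := Y.mul_mem hg' (Y.inv_mem hg)
    have hua : u * a * u⁻¹ = b * b'⁻¹ * a' := by
      calc u * a * u⁻¹ = g' * (b * f) * g'⁻¹ := by rw [show u = g' * g⁻¹ from rfl, e]; group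
        _ = g' * (b * b'⁻¹) * g'⁻¹ * (g' * (b' * f) * g'⁻¹) := by group
        _ = b * b'⁻¹ * a' := by rw [h.fix_B hg' (mul_mem hb (inv_mem hb')), ← e']
    have hbb : b * b'⁻¹ ∈ B := mul_mem hb (inv_mem hb')
    obtain ⟨n, hn, hnA, hna⟩ := d.fusion h.hAY hu ha (hua ▸ mul_mem (h.hBA hbb) ha')
    exact ⟨n, ⟨hn, hnA⟩, by rw [hna, hua, mul_inv_cancel_right]; exact hbb⟩
  · obtain ⟨s, hs, hsA⟩ := SetLike.not_le_iff_exists.1 hRA
    obtain ⟨t, ht, htA, htt⟩ : ∃ t ∈ R, t ∉ A ∧ t * t ∈ A := by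
      obtain ⟨j, hj⟩ := hR.isP ⟨s, hs⟩
      classical
      have hex : ∃ i : ℕ, s ^ 2 ^ i ∈ A := ⟨j, by
        rw [show s ^ 2 ^ j = 1 from congrArg Subtype.val hj]; exact one_mem A⟩
      obtain ⟨k, hk⟩ := Nat.exists_eq_succ_of_ne_zero (n := Nat.find hex) fun h0 => hsA (by
        have := Nat.find_spec hex
        rwa [h0, pow_zero, pow_one] at this)
      exact ⟨s ^ 2 ^ k, pow_mem hs _, Nat.find_min hex (by omega), by
        rw [← pow_add, ← two_mul, ← pow_succ']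
        have h1 := Nat.find_spec hex
        rwa [hk] at h1⟩
    obtain ⟨a, ha, hta⟩ := d'.split t (hRS ht) htA htt
    have hxA : t * a ∉ A := fun hc => htA (by simpa using mul_mem hc (inv_mem ha))
    have hxR : t * a ∈ R := mul_mem ht (hAR ha)
    obtain ⟨g, hg, b, hb, e⟩ := hone (t * a) (hR.le hxR) hta fun hc => hxA (h.hBA hc)
    exact hxA (e ▸ closure_fact G S' A d' (b * f) (mul_mem (h.hBA hb) hf) g (e ▸ hRS hxR))

end Trap

end Cfsg.Agent.M24Type
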