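import Cfsg.Agent.Lib.M24Type.Final
import Cfsg.Agent.Lib.SolvableSignalizer.Main
import Cfsg.Agent.Lib.Coprime.Generation
import Cfsg.Agent.Lib.StronglyClosedFour.Basic

/-!
# `A O(Y)` is normal in every subgroup `Y` containing `A`

Induction on `Y`: small index of `B = A ∩ Z(Y)` in `A` is settled by transfer, otherwise the cores of the
centralizers of the elements outside `B` form a solvable signalizer functor and `Trap.false` applies.
-/

set_option autoImplicit false
set_option linter.style.haveILetI false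
set_option linter.unusedSectionVars false

open Subgroup
open Cfsg.Agent.Walter.Core (coreOf coreOf_le odd_coreOf le_normalizer_coreOf le_coreOf)

universe u

namespace Cfsg.Agent.M24Type

variable {G : Type u} [Group G] [Finite G] {S : Sylow 2 G} {A : Subgroup G}

/-- `A` is a Sylow subgroup of its centralizer. -/
theorem Data.isSylIn_cent (d : Data (S : Subgroup G) A) {Y : Subgroup G} (hAY : A ≤ Y) :
    IsSylIn A (Y ⊓ centralizer (A : Set G)) := by
  have hle : A ≤ Y ⊓ centralizer (A : Set G) :=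
    le_inf hAY fun a ha => mem_centralizer_iff.2 fun e he => d.comm he ha
  obtain ⟨P, hAP, hP⟩ := exists_isSylIn hle d.isP_A
  obtain ⟨S', hPS, d'⟩ := d.exists_data_self hP.isP hAP
  have hPA : P ≤ A := fun p hp => d'.mem_of_centralizes (hPS hp) fun a ha =>
    (mem_centralizer_iff.1 (hP.le hp).2 a ha).symm
  exact le_antisymm hPA hAP ▸ hP

/-- An element of odd order of `A O(Y)` lies in `O(Y)`. -/
theorem Data.odd_mem_core (d : Data (S : Subgroup G) A) {Y : Subgroup G} (hAY : A ≤ Y) {c : G}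
    (hc : c ∈ coreOf Y ⊔ A) (hodd : Odd (orderOf c)) : c ∈ coreOf Y := by
  refine Agent.SEAbelian.mem_of_parts (j := 1) hodd ?_ (by rw [pow_orderOf_eq_one]; exact one_mem _)
  obtain ⟨o, ho, a, ha, rfl⟩ := (mem_core_sup hAY).1 hc
  rw [pow_one, pow_two, show o * a * (o * a) = o * (a * o * a⁻¹) * (a * a) by group, d.sqA a ha, mul_one]
  exact mul_mem ho (conj_mem_core (hAY ha) ho)

/-- Index at most two. -/
theorem normCore_two (d : Data (S : Subgroup G) A) {Y : Subgroup G} (hAY : A ≤ Y) {B : Subgroup G}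
    (hB : B = A ⊓ centralizer (Y : Set G)) (hB32 : 64 ≤ 2 * Nat.card ↥B) : NormCore A Y := by
  haveI : Fact (Nat.Prime 2) := ⟨Nat.prime_two⟩
  subst hB
  set B := A ⊓ centralizer (Y : Set G)
  have hBY : ∀ b ∈ B, ∀ y ∈ Y, y * b = b * y := fun b hb y hy => mem_centralizer_iff.1 hb.2 y hy
  obtain ⟨P, hAP, hP⟩ := exists_isSylIn hAY d.isP_A
  obtain ⟨S', hPS, d'⟩ := d.exists_data_self hP.isP hAP
  have hPA : P = A := by
    refine le_antisymm (fun p hp => ?_) hAP
    by_contra hpA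
    have h1 := d'.sq_mem_of_centralizes (B := B) inf_le_left (by omega) (hPS hp)
      fun b hb => hBY b hb p (hP.le hp)
    have h2 := card_le_of_le (show B ≤ A ⊓ centralizer ({p} : Set G) from
      fun b hb => mem_cent.2 ⟨hb.1, hBY b hb p (hP.le hp)⟩)
    rw [d'.cent16 p (hPS hp) hpA h1] at h2
    omega
  rw [hPA] at hP
  have hfix : ∀ n ∈ Y, n ∈ normalizer (A : Set G) → n ∈ centralizer (A : Set G) := by
    intro n hn hnA
    obtain ⟨j, m, hm, hjm⟩ := Agent.SEAbelian.exists_parts n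
    have hn2 : n * n ∈ centralizer (A : Set G) := by
      refine mem_centralizer_iff.2 fun a ha => (conj_eq_iff.1 ?_).symm
      have hBfix : ∀ b ∈ B, n * b * n⁻¹ = b := fun b hb => conj_eq_iff.2 (hBY b hb n hn)
      have h1 : n * n * a * (n * n)⁻¹ = n * (n * a * n⁻¹) * n⁻¹ := by group
      rw [h1]
      by_cases haB : a ∈ B
      · rw [hBfix a haB, hBfix a haB]
      have hna : n * a * n⁻¹ ∉ B := fun h => haB (by
        have := (MulAut.conj n).injective (hBfix _ h)
        exact this ▸ h)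
      have hc : Nat.card ↥A = 2 * Nat.card ↥B := by
        have h64 := d.cardA
        have hle := card_le_of_le (show B ≤ A from inf_le_left)
        have hne : Nat.card ↥B ≠ Nat.card ↥A := fun e =>
          haB ((eq_of_le_of_card_ge (show B ≤ A from inf_le_left) e.ge).ge ha)
        obtain ⟨i, hi, e⟩ := (Nat.dvd_prime_pow Nat.prime_two).1
          (show Nat.card ↥B ∣ 2 ^ 6 by simpa [d.cardA] using card_dvd_of_le (show B ≤ A from inf_le_left))
        interval_cases i <;> omega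
      rcases d.mem_or_of_card (show B ≤ A from inf_le_left) hc ha haB (conj_mem hnA ha) with h | h
      · exact absurd h hna
      · calc n * (n * a * n⁻¹) * n⁻¹ = n * (n * a * n⁻¹ * a) * n⁻¹ * (n * a * n⁻¹)⁻¹ := by group
          _ = n * a * n⁻¹ * a * (n * a * n⁻¹)⁻¹ := by rw [hBfix _ h]
          _ = a := d.fix (conj_mem hnA ha) ha
    refine Agent.SEAbelian.mem_of_parts (j := j + 1) hm ?_ ?_
    · rw [pow_succ', pow_mul, pow_two]
      exact pow_mem hn2 _
    · exact mem_centralizer_iff.2 fun a ha => d.comm ha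
        (hP.mem_of_normalizer (pow_mem hn m) (pow_mem hnA m) (pow_two_mem hjm))
  intro y hy a ha
  obtain ⟨o, ho, p, hp, rfl⟩ := burnside hP
    (fun n hn hnA p hp => (mem_centralizer_iff.1 (hfix n hn hnA) p hp).symm) hy
  refine mul_mem (mul_mem (mul_mem ?_ ?_) (mem_sup_right ha)) (inv_mem (mul_mem ?_ ?_))
  all_goals first | exact mem_sup_left ho | exact mem_sup_right hp

/-- Index four. -/
theorem normCore_four (d : Data (S : Subgroup G) A)
    (hAut : ∀ S' : Sylow 2 G, Data (S' : Subgroup G) A → AutProps (S' : Subgroup G) A)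
    {Y : Subgroup G} (hAY : A ≤ Y) {B : Subgroup G} (hBA : B ≤ A)
    (hBY : ∀ b ∈ B, ∀ y ∈ Y, y * b = b * y) (hB16 : Nat.card ↥B = 16) : NormCore A Y := by
  haveI : Fact (Nat.Prime 2) := ⟨Nat.prime_two⟩
  have hBY' : B ≤ Y := hBA.trans hAY
  obtain ⟨P, hAP, hP⟩ := exists_isSylIn hAY d.isP_A
  obtain ⟨S', hPS, d'⟩ := d.exists_data_self hP.isP hAP
  have hfixB : ∀ y ∈ Y, ∀ b ∈ B, y * b * y⁻¹ = b := fun y hy b hb => conj_eq_iff.2 (hBY b hb y hy)
  have hcA : ∀ p ∈ P, p ∉ A → p * p ∈ A ∧ B = A ⊓ centralizer ({p} : Set G) := by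
    intro p hp hpA
    have h1 := d'.sq_mem_of_centralizes hBA (by omega) (hPS hp) fun b hb => hBY b hb p (hP.le hp)
    refine ⟨h1, eq_of_le_of_card_ge (fun b hb => mem_cent.2 ⟨hBA hb, hBY b hb p (hP.le hp)⟩) ?_⟩
    rw [d'.cent16 p (hPS hp) hpA h1, hB16]
  have hcomm : ∀ p ∈ P, ∀ q ∈ P, p * q * p⁻¹ * q⁻¹ ∈ B := by
    -- `P` is covered by `A` and one involution
    have hAx : ∀ a ∈ A, ∀ p ∈ P, a * p * a⁻¹ * p⁻¹ ∈ B := fun a ha p hp => by
      by_cases hpA : p ∈ A
      · rw [d.fix ha hpA, mul_inv_cancel]; exact one_mem B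
      · obtain ⟨h1, h2⟩ := hcA p hp hpA
        rw [h2]
        exact mem_cent.2 ⟨d'.cset_le (hPS hp) ⟨a, ha, rfl⟩, d'.cset_comm (hPS hp) h1 ⟨a, ha, rfl⟩⟩
    intro p hp q hq
    by_cases hpA : p ∈ A
    · exact hAx p hpA q hq
    by_cases hqA : q ∈ A
    · rw [show p * q * p⁻¹ * q⁻¹ = (q * p * q⁻¹ * p⁻¹)⁻¹ by group]
      exact inv_mem (hAx q hqA p hp)
    obtain ⟨h1, h2⟩ := hcA p hp hpA
    have h3 := d'.mem_or_mul_mem hBA (by omega) (hPS hp) hpA (fun b hb => hBY b hb p (hP.le hp))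
      (fun s hs hsB => by
        have h4 := d'.fourCent p s hs
        have h5 := card_le_of_le (show B ≤ A ⊓ centralizer ({p} : Set G) ⊓ centralizer ({s} : Set G) from
          fun b hb => mem_inf.2 ⟨mem_cent.2 ⟨hBA hb, hBY b hb p (hP.le hp)⟩,
            mem_centralizer_one.2 (hsB b hb)⟩)
        omega)
      (hPS hq) (fun b hb => hBY b hb q (hP.le hq))
    rcases h3 with h | h
    · exact absurd h hqA
    rw [show p * q * p⁻¹ * q⁻¹ = ((q * p) * p * (q * p)⁻¹ * p⁻¹)⁻¹ by group]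
    exact inv_mem (hAx _ h p hp)
  -- an element of odd order of `N_Y(P)` centralizes `P` modulo `B`
  have hodd : ∀ n ∈ Y, n ∈ normalizer (P : Set G) → Odd (orderOf n) → ∀ p ∈ P, n * p * n⁻¹ * p⁻¹ ∈ B := by
    intro n hn hnP hon
    have hnA := d.normalizer_le hP.isP hAP hnP
    by_cases hPA : P ≤ A
    · intro a ha
      by_contra hcon
      have haA : a ∈ A := hPA ha
      set a1 := n * a * n⁻¹ with ha1def
      have ha1 : a1 ∈ A := conj_mem hnA haA
      have haB : a ∉ B := fun h => hcon (by rw [ha1def, hfixB n hn a h, mul_inv_cancel]; exact one_mem B)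
      have hinv : ∀ e ∈ A, e⁻¹ = e := fun e he => d.inv_eq he
      have ha1B : a1 ∉ B := fun h => haB (by
        have := hfixB _ (inv_mem hn) _ h
        rw [ha1def, show n⁻¹ * (n * a * n⁻¹) * n⁻¹⁻¹ = a by group] at this
        exact this ▸ h)
      have haa : a * a1 ∉ B := fun h => hcon (by
        rw [hinv a haA, d.comm ha1 haA]
        exact h)
      have hw : ∀ e ∈ A, ∀ K : Subgroup G, K ≤ A → e * e ∈ K ∧ e ∈ normalizer (K : Set G) :=
        fun e he K hK => ⟨by rw [d.sqA e he]; exact one_mem K,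
          mem_normalizer_of_conj fun k hk => by rw [d.fix he (hK hk)]; exact hk⟩
      set T1 := adj B a (hw a haA B hBA).1 (hw a haA B hBA).2
      have hT1A : T1 ≤ A := fun k hk => hk.elim (fun h => hBA h) fun h => by
        simpa using mul_mem (hBA h) (inv_mem haA)
      have ha1T : a1 ∉ T1 := fun h => h.elim ha1B fun h' => haa (by rwa [d.comm haA ha1])
      set T2 := adj T1 a1 (hw a1 ha1 T1 hT1A).1 (hw a1 ha1 T1 hT1A).2
      have hT2 : T2 = A := eq_of_le_of_card_ge (fun k hk => hk.elim (fun h => hT1A h) fun h => by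
        simpa using mul_mem (hT1A h) (inv_mem ha1)) (by
          rw [d.cardA, card_adj ha1T, card_adj haB, hB16])
      -- the three cosets
      have hthree : ∀ e ∈ A, e ∉ B → e * a ∈ B ∨ e * a1 ∈ B ∨ e * (a * a1) ∈ B := by
        intro e he heB
        rcases (show e ∈ T2 from hT2.symm ▸ he) with (h | h) | (h | h)
        · exact absurd h heB
        · exact Or.inl h
        · exact Or.inr (Or.inl h)
        · exact Or.inr (Or.inr (by rwa [d.comm haA ha1, ← mul_assoc]))
      set J := Y ⊓ normalizer (A : Set G)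
      have hnJ : n ∈ J := ⟨hn, hnA⟩
      have hAsyl : IsSylIn A Y := le_antisymm hPA hAP ▸ hP
      have hJ : Odd ((centralizer (A : Set G)).relIndex J) :=
        (hAsyl.mono (le_inf hAY le_normalizer) inf_le_left).odd.of_dvd_nat
          (relIndex_dvd_of_le_left J fun b hb => mem_centralizer_iff.2 fun e he => d.comm he hb)
      -- the second image
      set a2 := n * a1 * n⁻¹ with ha2def
      have ha2 : a2 ∈ A := conj_mem hnA ha1
      have ha2B : a2 ∉ B := fun h => ha1B (by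
        have := hfixB _ (inv_mem hn) _ h
        rw [ha2def, show n⁻¹ * (n * a1 * n⁻¹) * n⁻¹⁻¹ = a1 by group] at this
        exact this ▸ h)
      have h2a : a2 * (a * a1) ∈ B := by
        rcases hthree a2 ha2 ha2B with h | h | h
        · exfalso
          -- `n²` fixes `a` modulo `B`, hence `n` does
          obtain ⟨k, hk⟩ := hon
          let Z : Subgroup G :=
            { carrier := {g | g ∈ Y ∧ g * a * g⁻¹ * a⁻¹ ∈ B}
              mul_mem' := by
                rintro g g' ⟨hg, hg'⟩ ⟨hh, hh'⟩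
                refine ⟨mul_mem hg hh, ?_⟩
                rw [show g * g' * a * (g * g')⁻¹ * a⁻¹ =
                  g * (g' * a * g'⁻¹ * a⁻¹) * g⁻¹ * (g * a * g⁻¹ * a⁻¹) by group, hfixB g hg _ hh']
                exact mul_mem hh' hg'
              one_mem' := ⟨one_mem Y, by simp⟩
              inv_mem' := by
                rintro g ⟨hg, hg'⟩
                refine ⟨inv_mem hg, ?_⟩
                rw [show g⁻¹ * a * g⁻¹⁻¹ * a⁻¹ = g⁻¹ * (g * a * g⁻¹ * a⁻¹)⁻¹ * g⁻¹⁻¹ by group,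
                  hfixB _ (inv_mem hg) _ (inv_mem hg')]
                exact inv_mem hg' }
          have hn2 : n ^ 2 ∈ Z := by
            refine ⟨pow_mem hn 2, ?_⟩
            rwa [hinv a haA, show n ^ 2 * a * (n ^ 2)⁻¹ = a2 by rw [ha2def, ha1def, pow_two]; group]
          have : n ∈ Z := Agent.SEAbelian.mem_of_parts (j := 1) (m := orderOf n) ⟨k, hk⟩
            (by rwa [pow_one]) (by rw [pow_orderOf_eq_one]; exact one_mem Z)
          exact hcon this.2
        · exfalso
          have h1 := hfixB _ (inv_mem hn) _ h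
          rw [ha2def, ha1def] at h1
          have e : n⁻¹ * (n * (n * a * n⁻¹) * n⁻¹ * (n * a * n⁻¹)) * n⁻¹⁻¹ = n * a * n⁻¹ * a := by group
          rw [e] at h1
          exact haa (by rw [d.comm haA ha1, ha1def, h1]; exact (ha1def ▸ ha2def ▸ h))
        · exact h
      -- `n` permutes the three cosets transitively
      have hmove : ∀ e ∈ A, e ∉ B → ∃ k ∈ J, k * a * k⁻¹ * e⁻¹ ∈ B := by
        intro e he heB
        rcases hthree e he heB with h | h | h
        · exact ⟨1, one_mem J, by simpa [hinv e he, d.comm haA he] using h⟩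
        · exact ⟨n, hnJ, by rw [← ha1def, hinv e he, d.comm ha1 he]; exact h⟩
        · refine ⟨n * n, mul_mem hnJ hnJ, ?_⟩
          rw [show n * n * a * (n * n)⁻¹ = a2 by rw [ha2def, ha1def]; group, hinv e he]
          have h' := mul_mem h2a h
          rwa [show a2 * (a * a1) * (e * (a * a1)) = a2 * e by
            rw [mul_assoc a2, ← mul_assoc (a * a1) e, d.comm (mul_mem haA ha1) he, mul_assoc e,
              d.sqA _ (mul_mem haA ha1), mul_one]] at h'
      refine (hAut S' d').trans J inf_le_right hJ B hBA (by omega) (fun k hk b hb => hfixB k hk.1 b hb) ?_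
      intro e he heB e' he' he'B
      obtain ⟨k, hk, hkB⟩ := hmove e he heB
      obtain ⟨k', hk', hkB'⟩ := hmove e' he' he'B
      refine ⟨k' * k⁻¹, mul_mem hk' (inv_mem hk), ?_⟩
      have h1 := hfixB (k' * k⁻¹) (Y.mul_mem hk'.1 (Y.inv_mem hk.1)) _ (inv_mem hkB)
      have h2 : k' * k⁻¹ * e * (k' * k⁻¹)⁻¹ * e'⁻¹ =
          k' * k⁻¹ * (k * a * k⁻¹ * e⁻¹)⁻¹ * (k' * k⁻¹)⁻¹ * (k' * a * k'⁻¹ * e'⁻¹) := by group
      rw [h2, h1]
      exact mul_mem (inv_mem hkB) hkB'
    · -- the coset outside `A`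
      obtain ⟨x, hx, hxA⟩ := SetLike.not_le_iff_exists.1 hPA
      obtain ⟨hxx, -⟩ := hcA x hx hxA
      obtain ⟨a0, ha0, hxa⟩ := d'.split x (hPS hx) hxA hxx
      set t := x * a0 with htdef
      have ht : t ∈ P := mul_mem hx (hAP ha0)
      have htA : t ∉ A := fun h => hxA (by simpa [htdef] using mul_mem h (inv_mem ha0))
      have hti : t⁻¹ = t := inv_eq_of_mul_eq_one_right hxa
      have hcov : ∀ p ∈ P, p ∈ A ∨ p * t ∈ A := by
        intro p hp
        refine d'.mem_or_mul_mem hBA (by omega) (hPS ht) htA (fun b hb => hBY b hb t (hP.le ht))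
          (fun s hs hsB => ?_) (hPS hp) (fun b hb => hBY b hb p (hP.le hp))
        have h4 := d'.fourCent t s hs
        have h5 := card_le_of_le (show B ≤ A ⊓ centralizer ({t} : Set G) ⊓ centralizer ({s} : Set G) from
          fun b hb => mem_inf.2 ⟨mem_cent.2 ⟨hBA hb, hBY b hb t (hP.le ht)⟩,
            mem_centralizer_one.2 (hsB b hb)⟩)
        omega
      have hnt : n * t * n⁻¹ * t⁻¹ ∈ A := by
        rw [hti]
        refine (hcov _ (conj_mem hnP ht)).resolve_left fun h => htA ?_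
        exact (mem_normalizer_iff.1 hnA t).2 h
      have hnc := (hAut S' d').cent t (hPS ht) htA (by rw [hxa]; exact one_mem A) n hnA hon
        (mem_centralizer_iff.2 fun e he => d.comm he hnt)
      have hfixA : ∀ e ∈ A, n * e * n⁻¹ = e := fun e he =>
        conj_eq_iff.2 (mem_centralizer_iff.1 hnc e he).symm
      -- so `n` fixes `t`
      set e0 := n * t * n⁻¹ * t⁻¹ with he0
      have hiter : ∀ i : ℕ, n ^ i * t * (n ^ i)⁻¹ = e0 ^ i * t := by
        intro i
        induction i with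
        | zero => simp
        | succ i ih =>
          rw [show n ^ (i + 1) * t * (n ^ (i + 1))⁻¹ = n * (n ^ i * t * (n ^ i)⁻¹) * n⁻¹ by
            rw [pow_succ']; group, ih,
            show n * (e0 ^ i * t) * n⁻¹ = n * e0 ^ i * n⁻¹ * (n * t * n⁻¹) by group,
            hfixA _ (pow_mem hnt i), pow_succ, mul_assoc (e0 ^ i) e0 t]
          congr 1
          rw [he0]; group
      have he1 : e0 = 1 := by
        have h := hiter (orderOf n)
        obtain ⟨k, hk⟩ := hon
        rw [pow_orderOf_eq_one, hk, pow_succ, pow_mul, pow_two, d.sqA _ hnt, one_pow, one_mul, one_mul,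
          inv_one, mul_one] at h
        exact mul_eq_right.1 h.symm
      intro p hp
      rcases hcov p hp with h | h
      · rw [hfixA p h, mul_inv_cancel]; exact one_mem B
      · have e : n * p * n⁻¹ * p⁻¹ = n * (p * t) * n⁻¹ * (n * t * n⁻¹ * t⁻¹ * t)⁻¹ * p⁻¹ := by group
        rw [e, hfixA _ h, ← he0, he1]
        simp
  -- transfer in `Y / B`
  haveI hBn : (B.subgroupOf Y).Normal := ⟨fun b hb g => by
    rw [mem_subgroupOf] at hb ⊢
    simpa [hfixB g g.2 _ hb] using hb⟩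
  set π := QuotientGroup.mk' (B.subgroupOf Y)
  have hπ : ∀ u v : ↥Y, π u = π v ↔ (u : G) * (v : G)⁻¹ ∈ B := fun u v => by
    rw [← mul_inv_eq_one, ← map_inv, ← map_mul, ← MonoidHom.mem_ker, QuotientGroup.ker_mk', mem_subgroupOf]
    simp
  set Pb := (P.subgroupOf Y).map π
  have hPb : IsSylIn Pb ⊤ := by
    refine ⟨le_top, (hP.isP.comap_of_injective _ Y.subtype_injective).map _, ?_⟩
    rw [relIndex_top_right]
    exact hP.odd.of_dvd_nat (index_map_dvd _ (QuotientGroup.mk'_surjective _))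
  have hN : ∀ q ∈ (⊤ : Subgroup (↥Y ⧸ B.subgroupOf Y)), q ∈ normalizer (Pb : Set _) →
      ∀ p ∈ Pb, q * p = p * q := by
    intro q _ hq
    obtain ⟨n, rfl⟩ := QuotientGroup.mk'_surjective _ q
    have hnP : (n : G) ∈ normalizer (P : Set G) := mem_normalizer_of_conj fun p hp => by
      obtain ⟨p', hp', he⟩ := conj_mem hq (mem_map_of_mem π (show (⟨p, hP.le hp⟩ : ↥Y) ∈ P.subgroupOf Y from hp))
      have h1 := (hπ _ _).1 (show π p' = π (n * ⟨p, hP.le hp⟩ * n⁻¹) by rw [map_mul, map_mul, map_inv]; exact he)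
      have h2 := mul_mem (inv_mem (hAP (hBA h1))) (mem_subgroupOf.1 hp')
      simpa [mul_assoc] using h2
    obtain ⟨j, m, hm, hjm⟩ := Agent.SEAbelian.exists_parts (n : G)
    suffices h : π n ∈ centralizer (Pb : Set _) from fun p hp => ((mem_centralizer_iff.1 h) p hp).symm
    refine Agent.SEAbelian.mem_of_parts (j := j) hm ?_ ?_ <;> rw [← map_pow] <;>
      refine mem_centralizer_iff.2 ?_ <;> rintro _ ⟨p, hp, rfl⟩ <;> rw [← map_mul, ← map_mul] <;>
      refine ((hπ _ _).2 ?_).symm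
    · have h := hodd _ (pow_mem n.2 (2 ^ j)) (pow_mem hnP _)
        (Agent.SEAbelian.odd_orderOf_of_pow hm (by rw [← pow_mul, hjm])) p hp
      simpa [mul_assoc] using h
    · have h := hcomm _ (hP.mem_of_normalizer (pow_mem n.2 m) (pow_mem hnP m) (pow_two_mem hjm)) p hp
      simpa [mul_assoc] using h
  set O := coreOf (⊤ : Subgroup (↥Y ⧸ B.subgroupOf Y))
  set K' := O.comap π
  set K := K'.map Y.subtype
  have hBK : B ≤ K := fun b hb => ⟨⟨b, hBY' hb⟩, by
    show π ⟨b, hBY' hb⟩ ∈ O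
    rw [show π ⟨b, hBY' hb⟩ = 1 from (QuotientGroup.eq_one_iff _).2 (by simpa [mem_subgroupOf] using hb)]
    exact one_mem O, rfl⟩
  have hKY : K ≤ Y := map_subtype_le _
  have hBsyl : IsSylIn B K := by
    refine ⟨hBK, d.isP_A.to_le hBA, ?_⟩
    rw [show B = (B.subgroupOf Y).map Y.subtype from (map_subgroupOf_eq_of_le hBY').symm,
      relIndex_map_map_of_injective _ _ Y.subtype_injective,
      show B.subgroupOf Y = (⊥ : Subgroup (↥Y ⧸ B.subgroupOf Y)).comap π by
        rw [MonoidHom.comap_bot, QuotientGroup.ker_mk'],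
      relIndex_comap, map_comap_eq_self_of_surjective (QuotientGroup.mk'_surjective _), relIndex_bot_left]
    exact odd_coreOf _
  haveI : O.Normal := normalizer_eq_top_iff.1 (top_le_iff.1 (le_normalizer_coreOf ⊤))
  have hKn : ∀ y ∈ Y, ∀ k ∈ K, y * k * y⁻¹ ∈ K := by
    rintro y hy _ ⟨k, hk, rfl⟩
    exact ⟨⟨y, hy⟩ * k * ⟨y, hy⟩⁻¹, Subgroup.Normal.conj_mem (inferInstance : K'.Normal) k hk _, rfl⟩
  have hcoreK : coreOf K ≤ coreOf Y := by
    refine le_coreOf ((coreOf_le K).trans hKY) (fun y hy => mem_normalizer_of_conj ?_) (odd_coreOf K)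
    refine conj_core_le fun k => ⟨hKn y hy k, fun h => ?_⟩
    have := hKn _ (inv_mem hy) _ h
    rwa [show y⁻¹ * (y * k * y⁻¹) * y⁻¹⁻¹ = k by group] at this
  intro y hy a ha
  obtain ⟨o, ho, pb, hpb, he⟩ := burnside hPb hN (mem_top (π ⟨y, hy⟩))
  obtain ⟨p, hp, rfl⟩ := hpb
  have hk : y * (p : G)⁻¹ ∈ K := by
    refine ⟨⟨y, hy⟩ * p⁻¹, ?_, rfl⟩
    show π (⟨y, hy⟩ * p⁻¹) ∈ O
    rw [map_mul, map_inv, he, mul_inv_cancel_right]
    exact ho
  obtain ⟨o', ho', b, hb, hob⟩ := burnside hBsyl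
    (fun k hk _ b hb => hBY b hb k (hKY hk)) hk
  have hy' : y = o' * b * p := by rw [← hob]; group
  have hpa : (p : G) * a * (p : G)⁻¹ ∈ A := conj_mem (d'.normal (hPS hp)) ha
  rw [hy', show o' * b * (p : G) * a * (o' * b * (p : G))⁻¹ = o' * (b * ((p : G) * a * (p : G)⁻¹) * b⁻¹) * o'⁻¹ by
    group, d.fix (hBA hb) hpa]
  exact mul_mem (mul_mem (mem_sup_left (hcoreK ho')) (mem_sup_right hpa)) (inv_mem (mem_sup_left (hcoreK ho')))

/-- The core of the centralizer of `f` in `Y`. -/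
def sig (Y : Subgroup G) (f : G) : Subgroup G := coreOf (Y ⊓ centralizer ({f} : Set G))

theorem sig_le (Y : Subgroup G) (f : G) : sig Y f ≤ Y ⊓ centralizer ({f} : Set G) := coreOf_le _

/-- `A O(Y)` is normal in every subgroup above `A`. -/
theorem normCore (d : Data (S : Subgroup G) A)
    (hAut : ∀ S' : Sylow 2 G, Data (S' : Subgroup G) A → AutProps (S' : Subgroup G) A) :
    ∀ (N : ℕ) (Y : Subgroup G), Nat.card ↥Y = N → A ≤ Y → NormCore A Y := by
  intro N
  induction N using Nat.strong_induction_on with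
  | _ N ih =>
  intro Y hN hAY
  haveI : Fact (Nat.Prime 2) := ⟨Nat.prime_two⟩
  set B := A ⊓ centralizer (Y : Set G) with hBdef
  have hBY : ∀ b ∈ B, ∀ y ∈ Y, y * b = b * y := fun b hb y hy => mem_centralizer_iff.1 hb.2 y hy
  have hBA : B ≤ A := inf_le_left
  obtain ⟨i, hi, hBc⟩ := (Nat.dvd_prime_pow Nat.prime_two).1
    (show Nat.card ↥B ∣ 2 ^ 6 by simpa [d.cardA] using card_dvd_of_le hBA)
  rcases (by omega : 5 ≤ i ∨ i = 4 ∨ i ≤ 3) with hi5 | rfl | hi3
  · exact normCore_two d hAY hBdef (by interval_cases i <;> omega)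
  · exact normCore_four d hAut hAY hBA hBY (by omega)
  have h8 : 8 * Nat.card ↥B ≤ 64 := by interval_cases i <;> omega
  have hAc : ∀ f ∈ A, A ≤ Y ⊓ centralizer ({f} : Set G) := fun f hf a ha =>
    ⟨hAY ha, mem_centralizer_one.2 (d.comm hf ha)⟩
  have hsmall : ∀ f ∈ A, f ∉ B → NormCore A (Y ⊓ centralizer ({f} : Set G)) := by
    intro f hf hfB
    refine ih _ ?_ _ rfl (hAc f hf)
    refine hN ▸ lt_of_le_of_ne (card_le_of_le inf_le_left) fun e => hfB ⟨hf, mem_centralizer_iff.2 fun y hy => ?_⟩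
    exact (mem_centralizer_one.1 ((eq_of_le_of_card_ge inf_le_left e.ge).ge hy).2).symm
  have hsodd : ∀ f, Odd (Nat.card ↥(sig Y f)) := fun f => odd_coreOf _
  have hsA : ∀ f ∈ A, A ≤ normalizer (sig Y f : Set G) := fun f hf =>
    (hAc f hf).trans (le_normalizer_coreOf _)
  -- `N_Y(A)` acts on the cores
  have hsconj : ∀ n ∈ Y, ∀ f, ∀ z ∈ sig Y f, n * z * n⁻¹ ∈ sig Y (n * f * n⁻¹) := by
    intro n hn f
    refine conj_core_le fun x => ?_
    simp only [mem_inf, mem_centralizer_one]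
    refine and_congr ⟨fun h => Y.mul_mem (Y.mul_mem hn h) (Y.inv_mem hn), fun h => ?_⟩ ⟨fun h => ?_, fun h => ?_⟩
    · have := Y.mul_mem (Y.mul_mem (Y.inv_mem hn) h) hn
      rwa [show n⁻¹ * (n * x * n⁻¹) * n = x by group] at this
    · calc n * f * n⁻¹ * (n * x * n⁻¹) = n * (f * x) * n⁻¹ := by group
        _ = n * x * n⁻¹ * (n * f * n⁻¹) := by rw [h]; group
    · refine (MulAut.conj n).injective ?_
      simp only [map_mul, MulAut.conj_apply]
      exact h
  -- balance
  have hbal : ∀ f ∈ A, ∀ f' ∈ A, f' ∉ B → sig Y f ⊓ centralizer ({f'} : Set G) ≤ sig Y f' := by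
    intro f hf f' hf' hf'B x hx
    have hxY' : x ∈ Y ⊓ centralizer ({f'} : Set G) := ⟨(sig_le Y f hx.1).1, hx.2⟩
    have hAY' := hAc f' hf'
    obtain ⟨o, ho, n, hn, hnA, hxon⟩ := d.frattini hAY' (hsmall f' hf' hf'B) hxY'
    have hnc : n ∈ centralizer (A : Set G) := by
      refine mem_centralizer_iff.2 fun a ha => (conj_eq_iff.1 (mul_inv_eq_one.1 ?_)).symm
      refine eq_one_of_odd (odd_coreOf (Y ⊓ centralizer ({f'} : Set G))) ?_
        (d.sqA _ (mul_mem (conj_mem hnA ha) (inv_mem ha)))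
      have hc1 : x * a * x⁻¹ * a⁻¹ ∈ sig Y f := by
        rw [show x * a * x⁻¹ * a⁻¹ = x * (a * x⁻¹ * a⁻¹) by group]
        exact mul_mem hx.1 (conj_mem (hsA f hf ha) (inv_mem hx.1))
      have hc2 : x * a * x⁻¹ * a⁻¹ ∈ coreOf (Y ⊓ centralizer ({f'} : Set G)) :=
        d.odd_mem_core hAY'
          (mul_mem (hsmall f' hf' hf'B x hxY' a ha) (mem_sup_right (inv_mem ha)))
          ((hsodd f).of_dvd_nat ((sig Y f).orderOf_dvd_natCard hc1))
      have e : n * a * n⁻¹ * a⁻¹ =
          o⁻¹ * (x * a * x⁻¹ * a⁻¹) * (a * o * a⁻¹) := by rw [hxon]; group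
      rw [e]
      exact mul_mem (mul_mem (inv_mem ho) hc2) (conj_mem_core (hAY' ha) ho)
    set X := (Y ⊓ centralizer ({f'} : Set G)) ⊓ centralizer (A : Set G)
    obtain ⟨o', ho', a', ha', hna⟩ := burnside (d.isSylIn_cent hAY')
      (fun k hk _ a ha => (mem_centralizer_iff.1 hk.2 a ha).symm) (show n ∈ X from ⟨hn, hnc⟩)
    have hXO : coreOf X ≤ sig Y f' := by
      set O := sig Y f'
      have hnorm : coreOf X ≤ normalizer (O : Set G) :=
        (coreOf_le X).trans (inf_le_left.trans (le_normalizer_coreOf _))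
      refine le_sup_left.trans (le_coreOf (N := coreOf X ⊔ O) ?_ ?_ ?_)
      · exact sup_le ((coreOf_le X).trans inf_le_left) (coreOf_le _)
      · intro k hk
        obtain ⟨q, hq, l, hl, hlA, rfl⟩ := d.frattini hAY' (hsmall f' hf' hf'B) hk
        refine mul_mem (le_normalizer (mem_sup_right hq)) (mem_normalizer_of_conj fun z hz => ?_)
        obtain ⟨w, hw, c, hc, rfl⟩ := (Coprime.mem_sup_of_le_normalizer hnorm).1 (sup_comm (coreOf X) O ▸ hz)
        rw [show l * (w * c) * l⁻¹ = l * w * l⁻¹ * (l * c * l⁻¹) by group]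
        refine mul_mem (mem_sup_right (conj_mem_core hl hw)) (mem_sup_left ?_)
        refine conj_core_le (fun z => ?_) c hc
        have hlc : ∀ g ∈ normalizer (A : Set G), ∀ z ∈ centralizer (A : Set G),
            g * z * g⁻¹ ∈ centralizer (A : Set G) := by
          intro g hg z hz
          refine mem_centralizer_iff.2 fun e he => ?_
          have h1 := mem_centralizer_iff.1 hz _ (conj_mem (inv_mem hg) he)
          calc e * (g * z * g⁻¹) = g * (g⁻¹ * e * g⁻¹⁻¹ * z) * g⁻¹ := by group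
            _ = g * z * g⁻¹ * e := by rw [h1]; group
        refine ⟨fun h => ⟨Subgroup.mul_mem _ (Subgroup.mul_mem _ hl h.1) (Subgroup.inv_mem _ hl), hlc l hlA z h.2⟩, fun h => ?_⟩
        have h1 := mul_mem (mul_mem (inv_mem hl) h.1) hl
        have h2 := hlc l⁻¹ (inv_mem hlA) _ h.2
        rw [show l⁻¹ * (l * z * l⁻¹) * l = z by group] at h1
        rw [show l⁻¹ * (l * z * l⁻¹) * l⁻¹⁻¹ = z by group] at h2
        exact ⟨h1, h2⟩
      · exact StronglyClosedFour.odd_sup hnorm (odd_coreOf _) (odd_coreOf _)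
    refine d.odd_mem_core hAY' ?_ ((hsodd f).of_dvd_nat ((sig Y f).orderOf_dvd_natCard hx.1))
    rw [hxon, hna, ← mul_assoc]
    exact (mem_core_sup hAY').2 ⟨o * o', mul_mem ho (hXO ho'), a', ha', rfl⟩
  -- a complement of `B` in `A`
  haveI : Nonempty {E : Subgroup G // E ≤ A ∧ E ⊓ B = ⊥} := ⟨⟨⊥, bot_le, bot_inf_eq _⟩⟩
  obtain ⟨⟨E, hEA, hEB⟩, hmax⟩ :=
    Finite.exists_max (fun E : {E : Subgroup G // E ≤ A ∧ E ⊓ B = ⊥} => Nat.card ↥(E : Subgroup G))
  have hBnE : B ≤ normalizer (E : Set G) := fun b hb => mem_normalizer_of_conj fun e he => by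
    rw [d.fix (hBA hb) (hEA he)]; exact he
  have hdec : ∀ a ∈ A, ∃ e ∈ E, ∃ b ∈ B, e * b = a := by
    intro a ha
    by_contra hcon
    push Not at hcon
    have haE : a ∉ E := fun h => hcon a h 1 (one_mem B) (mul_one a)
    set E' := adj E a (by rw [d.sqA a ha]; exact one_mem E)
      (mem_normalizer_of_conj fun e he => by rw [d.fix ha (hEA he)]; exact he)
    have hE'A : E' ≤ A := fun k hk => hk.elim (fun h => hEA h) fun h => by
      simpa using mul_mem (hEA h) (inv_mem ha)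
    have hE'B : E' ⊓ B = ⊥ := by
      refine (eq_bot_iff_forall _).2 fun k hk => ?_
      rcases hk.1 with h | h
      · exact (eq_bot_iff_forall _).1 hEB k ⟨h, hk.2⟩
      · refine absurd ?_ (hcon _ h k hk.2)
        rw [mul_assoc, d.comm ha (hBA hk.2), ← mul_assoc, d.sqA k (hBA hk.2), one_mul]
    have := hmax ⟨E', hE'A, hE'B⟩
    simp only at this
    rw [card_adj haE] at this
    have : 0 < Nat.card ↥E := Nat.card_pos
    omega
  have hEc : 8 ≤ Nat.card ↥E := by
    have h1 : A = E ⊔ B := le_antisymm (fun a ha => by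
      obtain ⟨e, he, b, hb, rfl⟩ := hdec a ha
      exact mul_mem_sup he hb) (sup_le hEA hBA)
    have h2 := Coprime.card_sup_of_disjoint hBnE (disjoint_iff.2 hEB)
    rw [← h1, d.cardA] at h2
    have : 0 < Nat.card ↥B := Nat.card_pos
    nlinarith
  have hne : ∀ e ∈ E, e ≠ 1 → e ∉ B := fun e he he1 h => he1 ((eq_bot_iff_forall _).1 hEB e ⟨he, h⟩)
  have hEel : Cfsg.IsElementaryAbelian 2 E :=
    ⟨⟨⟨fun a b => Subtype.ext (d.comm (hEA a.2) (hEA b.2))⟩⟩,
      fun e he => by rw [pow_two]; exact d.sqA e (hEA he)⟩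
  have hfun : Cfsg.IsSolvableSignalizerFunctor 2 E (sig Y) :=
    ⟨⟨fun e _ _ x hx => (sig_le Y e hx).2,
      fun e _ _ => Nat.two_dvd_ne_zero.2 (Nat.odd_iff.1 (hsodd e)),
      fun e he _ v hv x hx => conj_mem (hsA e (hEA he) (hEA hv)) hx,
      fun e he _ e' he' he'1 => hbal e (hEA he) e' (hEA he') (hne e' he' he'1)⟩,
      fun e _ _ => S0205.result (hsodd e)⟩
  obtain ⟨hU1, hU2, hU3, hU4⟩ := SolvableSignalizer.iSup_mem Nat.prime_two hEel (by omega) hfun
  set Ω := ⨆ e : {e : G // e ∈ E ∧ e ≠ 1}, sig Y (e : G)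
  have hΩY : Ω ≤ Y := iSup_le fun e => (sig_le Y e).trans inf_le_left
  have hΩodd : Odd (Nat.card ↥Ω) := Nat.odd_iff.2 (Nat.two_dvd_ne_zero.1 hU2)
  have hsigΩ : ∀ f ∈ A, f ∉ B → sig Y f ≤ Ω := by
    intro f hf hfB
    obtain ⟨e, he, b, hb, rfl⟩ := hdec f hf
    have he1 : e ≠ 1 := fun h => hfB (by rw [h, one_mul]; exact hb)
    have hcc : Y ⊓ centralizer ({e * b} : Set G) = Y ⊓ centralizer ({e} : Set G) := by
      ext y
      simp only [mem_inf, mem_centralizer_one]
      refine and_congr_right fun hy => ?_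
      have h1 : y * b = b * y := hBY b hb y hy
      rw [mul_assoc e b y, ← h1, ← mul_assoc e y b, ← mul_assoc y e b]
      exact mul_left_inj b
    rw [sig, hcc]
    exact le_iSup (fun e : {e : G // e ∈ E ∧ e ≠ 1} => sig Y (e : G)) ⟨e, he, he1⟩
  have hΩinv : ∀ n ∈ Y, n ∈ normalizer (A : Set G) → n ∈ normalizer (Ω : Set G) := by
    intro n hn hnA
    refine mem_normalizer_of_conj ?_
    have hle : Ω ≤ Ω.comap (MulAut.conj n).toMonoidHom := iSup_le fun e x hx => by
      refine hsigΩ _ (conj_mem hnA (hEA e.2.1)) (fun h => hne e e.2.1 e.2.2 ?_) (hsconj n hn e x hx)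
      have h1 := conj_eq_iff.2 (hBY _ h n⁻¹ (inv_mem hn))
      rw [show n⁻¹ * (n * (e : G) * n⁻¹) * n⁻¹⁻¹ = e by group] at h1
      exact h1 ▸ h
    exact fun x hx => hle hx
  have hfrat : ∀ f ∈ A, f ∉ B → ∀ y ∈ Y ⊓ centralizer ({f} : Set G),
      ∃ o ∈ Ω, ∃ n ∈ Y, n ∈ normalizer (A : Set G) ∧ y = o * n := by
    intro f hf hfB y hy
    obtain ⟨o, ho, n, hn, hnA, rfl⟩ := d.frattini (hAc f hf) (hsmall f hf hfB) hy
    exact ⟨o, hsigΩ f hf hfB ho, n, hn.1, hnA, rfl⟩
  -- `Ω` is normal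
  have hΩn : Y ≤ normalizer (Ω : Set G) := by
    by_contra hnot
    set M := Y ⊓ normalizer (Ω : Set G)
    have hAM : A ≤ M := le_inf hAY fun a ha => hΩinv a (hAY ha) (le_normalizer ha)
    have hMY : M ≠ Y := fun e => hnot (e ▸ (inf_le_right : M ≤ normalizer (Ω : Set G)))
    have hlt : Nat.card ↥M < N := hN ▸ lt_of_le_of_ne (card_le_of_le inf_le_left)
      fun e => hMY (eq_of_le_of_card_ge inf_le_left e.ge)
    exact Trap.false d hAut (M := M) (Y := Y) (B := B)
      ⟨hAM, inf_le_left, hMY, fun n hn => ⟨hn.1, hΩinv n hn.1 hn.2⟩, fun f hf hfB y hy => by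
        obtain ⟨o, ho, n, hn, hnA, rfl⟩ := hfrat f hf hfB y hy
        exact ⟨hy.1, mul_mem (le_normalizer ho) (hΩinv n hn hnA)⟩,
      ih _ hlt _ rfl hAM, hBA, hBY, h8⟩
  have hΩO : Ω ≤ coreOf Y := le_coreOf hΩY hΩn hΩodd
  -- `M = O(Y) N_Y(A)`
  set M := coreOf Y ⊔ (Y ⊓ normalizer (A : Set G))
  have hMY : M ≤ Y := sup_le (coreOf_le Y) inf_le_left
  have hAM : A ≤ M := (le_inf hAY le_normalizer).trans le_sup_right
  have hmem : ∀ m ∈ M, ∀ a ∈ A, m * a * m⁻¹ ∈ coreOf Y ⊔ A := by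
    intro m hm a ha
    obtain ⟨o, ho, n, hn, rfl⟩ :=
      (Coprime.mem_sup_of_le_normalizer (inf_le_left.trans (le_normalizer_coreOf Y))).1 hm
    rw [show o * n * a * (o * n)⁻¹ = o * (n * a * n⁻¹) * o⁻¹ by group]
    exact mul_mem (mul_mem (mem_sup_left ho) (mem_sup_right (conj_mem hn.2 ha))) (inv_mem (mem_sup_left ho))
  by_cases hMeq : M = Y
  · exact fun y hy => hmem y (hMeq.symm ▸ hy)
  exfalso
  refine Trap.false d hAut (M := M) (Y := Y) (B := B)
    ⟨hAM, hMY, hMeq, le_sup_right, fun f hf hfB y hy => ?_, ?_, hBA, hBY, h8⟩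
  · obtain ⟨o, ho, n, hn, hnA, rfl⟩ := hfrat f hf hfB y hy
    exact mul_mem (mem_sup_left (hΩO ho)) (mem_sup_right ⟨hn, hnA⟩)
  · intro m hm a ha
    exact sup_le_sup_right (le_coreOf le_sup_left (hMY.trans (le_normalizer_coreOf Y)) (odd_coreOf Y)) A
      (hmem m hm a ha)

/-- If `O(G) = 1` then `A` is normal in `G`. -/
theorem normal_of_core (hAut : AutFact.{u}) (d : Data (S : Subgroup G) A) (hO : Cfsg.oddCore G = ⊥) :
    A.Normal := by
  refine ⟨fun a ha g => ?_⟩
  have h := normCore d (fun S' d' => hAut G S' A d') _ ⊤ rfl le_top g (mem_top g) a ha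
  have hbot : coreOf (⊤ : Subgroup G) = ⊥ := by
    rw [eq_bot_iff, ← hO]
    haveI : (coreOf (⊤ : Subgroup G)).Normal := normalizer_eq_top_iff.1 (top_le_iff.1 (le_normalizer_coreOf ⊤))
    exact Agent.Cores.le_oddCore (odd_coreOf ⊤)
  rwa [hbot, bot_sup_eq] at h

end Cfsg.Agent.M24Type
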