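import Cfsg.Agent.Lib.M24Type.Main
import Cfsg.Agent.Lib.M24Sylow.Structure
import Cfsg.Agent.Lib.Golay.M24
import Cfsg.Prelude.Def_Transfer

/-!
# S3169 and S3170 from the data and automiser parts
-/

set_option autoImplicit false
set_option linter.style.haveILetI false

open Subgroup
open Cfsg.Agent.Walter.Core (coreOf coreOf_le odd_coreOf le_normalizer_coreOf le_coreOf)
open scoped commutatorElement

universe u

namespace Cfsg.Agent.M24Type

/-- A Sylow 2-subgroup of `M₂₄` is the listed group of order 1024. -/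
theorem exists_equiv_P0 (P : Sylow 2 ↥Cfsg.M24) :
    Nonempty (↥(P : Subgroup ↥Cfsg.M24) ≃* Cfsg.Agent.M24Sylow.P0) := by
  haveI : Fact (Nat.Prime 2) := ⟨Nat.prime_two⟩
  have hPG : Cfsg.Agent.Golay.Cert.tabGroup Cfsg.Agent.Golay.SylowTwoData.s24Pc ≤ Cfsg.M24 :=
    Cfsg.Agent.Golay.Cert.tabGroup_le_of fun g hg => Cfsg.Agent.Golay.Cert.tabPerm_mem (by
      have h := Cfsg.Agent.Golay.SylowTwo.s24_list
      simp only [Cfsg.Agent.Golay.TabList.listOK, Bool.and_eq_true, List.all_eq_true] at h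
      exact h.1.1.1.1 g hg)
  have hcard : Nat.card ((Cfsg.Agent.Golay.Cert.tabGroup
      Cfsg.Agent.Golay.SylowTwoData.s24Pc).subgroupOf Cfsg.M24) =
      2 ^ (Nat.card Cfsg.M24).factorization 2 := by
    rw [Nat.card_congr (Subgroup.subgroupOfEquivOfLe hPG).toEquiv, Cfsg.Agent.M24Sylow.card_P0,
      Cfsg.Agent.Golay.M24.card_M24, Nat.factorization_def _ Nat.prime_two,
      show (244823040 : ℕ) = 2 ^ 10 * 239085 by norm_num,
      padicValNat.mul (pow_ne_zero _ two_ne_zero) (by norm_num), padicValNat.prime_pow,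
      padicValNat.eq_zero_of_not_dvd (by norm_num)]
    norm_num
  exact ⟨(P.equiv (Sylow.ofCard _ hcard)).trans (Subgroup.subgroupOfEquivOfLe hPG)⟩

variable {G : Type u} [Group G] [Finite G]

/-- The statement of S3169 from the two remaining parts. -/
theorem abelian_normal (hD : DataFact.{u}) (hAut : AutFact.{u}) (hO : Cfsg.oddCore G = ⊥) (S : Sylow 2 G)
    (P : Sylow 2 ↥Cfsg.M24)
    (hS : Nonempty (↥(S : Subgroup G) ≃*
      (↥(P : Subgroup ↥Cfsg.M24) ⧸ Subgroup.center ↥(P : Subgroup ↥Cfsg.M24))))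
    (A : Subgroup G) (hA : A ≤ (S : Subgroup G)) (hAc : IsMulCommutative ↥A) (hA64 : Nat.card ↥A = 64) :
    A.Normal :=
  normal_of_core hAut (hD G S P A hS hA hAc hA64) hO

/-- The statement of S3170 from the two remaining parts. -/
theorem extraspecial_normal (hD : DataFact.{u}) (hAut : AutFact.{u}) (hO : Cfsg.oddCore G = ⊥) (T : Sylow 2 G)
    (P : Sylow 2 ↥Cfsg.M24) (hT : Nonempty (↥(T : Subgroup G) ≃* ↥(P : Subgroup ↥Cfsg.M24)))
    (hZ : ∀ z ∈ (T : Subgroup G), (∀ t ∈ (T : Subgroup G), z * t = t * z) → z ∈ Subgroup.center G)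
    (E : Subgroup G) (hE : E ≤ (T : Subgroup G)) (hEn : (E.subgroupOf (T : Subgroup G)).Normal)
    (hEx : Cfsg.IsExtraspecial 2 ↥E) (hE7 : Nat.card ↥E = 2 ^ 7) : E.Normal := by
  haveI : Fact (Nat.Prime 2) := ⟨Nat.prime_two⟩
  obtain ⟨e⟩ := hT
  obtain ⟨e0⟩ := exists_equiv_P0 P
  set Z := (center ↥(T : Subgroup G)).map (T : Subgroup G).subtype with hZdef
  have hZc : Z ≤ center G := by
    rintro _ ⟨z, hz, rfl⟩
    exact hZ z z.2 fun t ht => (congrArg Subtype.val (mem_center_iff.1 hz ⟨t, ht⟩)).symm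
  have hZT : Z ≤ (T : Subgroup G) := map_subtype_le _
  haveI hZn : Z.Normal := ⟨fun z hz g => by
    rw [mem_center_iff.1 (hZc hz) g, mul_inv_cancel_right]; exact hz⟩
  have hZ2 : Nat.card ↥Z = 2 := by
    rw [hZdef, card_subtype]
    exact (Nat.card_congr (Subgroup.centerCongr (e.trans e0)).toEquiv).trans Cfsg.Agent.M24Sylow.card_center
  obtain ⟨⟨hEp, -, hEd⟩, hEz⟩ := hEx
  set ZE := (center ↥E).map E.subtype with hZEdef
  have hZE : ZE = Z := by
    refine eq_of_le_of_card_ge ?_ (hZ2.trans ((card_subtype _ _).trans hEz).symm).le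
    rintro _ ⟨c, hc, rfl⟩
    refine ⟨⟨c, hE c.2⟩, mem_center_iff.2 fun t => Subtype.ext ?_, rfl⟩
    by_cases hc1 : c = 1
    · subst hc1; simp
    obtain ⟨t, ht⟩ := t
    have htE : ∀ x ∈ E, t * x * t⁻¹ ∈ E := fun x hx => hEn.conj_mem ⟨x, hE hx⟩ hx ⟨t, ht⟩
    have htc : (⟨t * (c : G) * t⁻¹, htE c c.2⟩ : ↥E) ∈ center ↥E := by
      refine mem_center_iff.2 fun x => Subtype.ext ?_
      have hx' : t⁻¹ * (x : G) * t⁻¹⁻¹ ∈ E := hEn.conj_mem ⟨x, hE x.2⟩ x.2 ⟨t⁻¹, inv_mem ht⟩
      have h := congrArg Subtype.val (mem_center_iff.1 hc ⟨_, hx'⟩)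
      simp only [Subgroup.coe_mul] at h ⊢
      calc (x : G) * (t * c * t⁻¹) = t * (t⁻¹ * x * t⁻¹⁻¹ * c) * t⁻¹ := by group
        _ = t * c * t⁻¹ * x := by rw [h]; group
    obtain ⟨u, v, -, huv⟩ := Nat.card_eq_two_iff.1 hEz
    have hall : ∀ a b : ↥(center ↥E), a ≠ 1 → b ≠ 1 → a = b := by
      intro a b ha hb
      have h1 := huv ▸ Set.mem_univ a
      have h2 := huv ▸ Set.mem_univ b
      have h3 := huv ▸ Set.mem_univ (1 : ↥(center ↥E))
      rcases h1 with rfl | rfl <;> rcases h2 with rfl | rfl <;> first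
        | rfl
        | (rcases h3 with h3 | h3 <;> first | exact absurd h3.symm ha | exact absurd h3.symm hb)
    have h1 := hall ⟨_, htc⟩ ⟨c, hc⟩ (fun h => hc1 (by
      have h' : t * (c : G) * t⁻¹ = 1 := congrArg (fun z : ↥(center ↥E) => ((z : ↥E) : G)) h
      exact Subtype.ext (by simpa using h'))) (fun h => hc1 (congrArg Subtype.val h))
    have h' : t * (c : G) * t⁻¹ = c := congrArg (fun z : ↥(center ↥E) => ((z : ↥E) : G)) h1
    simpa using conj_eq_iff.1 h'
  have hZleE : Z ≤ E := hZE ▸ map_subtype_le _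
  set π := QuotientGroup.mk' Z
  have hker : π.ker = Z := QuotientGroup.ker_mk' Z
  have hπ : Function.Surjective π := QuotientGroup.mk'_surjective Z
  set Tb := T.mapSurjective hπ
  set Eb := E.map π
  have hEbc : IsMulCommutative ↥Eb := ⟨⟨by
    rintro ⟨_, a, ha, rfl⟩ ⟨_, b, hb, rfl⟩
    refine Subtype.ext ?_
    have hc : ⁅(⟨a, ha⟩ : ↥E), ⟨b, hb⟩⁆ ∈ center ↥E :=
      hEd ▸ commutator_mem_commutator (mem_top _) (mem_top _)
    have h1 : π ⁅a, b⁆ = 1 := by
      rw [← MonoidHom.mem_ker, hker, ← hZE]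
      exact ⟨_, hc, by simp [commutatorElement_def]⟩
    rw [map_commutatorElement, commutatorElement_eq_one_iff_mul_comm] at h1
    simpa using h1⟩⟩
  have hEb : Eb.comap π = E := by
    rw [comap_map_eq_self (hker.symm ▸ hZleE)]
  have hEb64 : Nat.card ↥Eb = 64 := by
    have h := Agent.Cores.card_comap_mk' Z Eb
    rw [show Eb.comap (QuotientGroup.mk' Z) = E from hEb, hE7, hZ2] at h
    omega
  -- the Sylow subgroup of the quotient
  let φ : ↥(T : Subgroup G) →* G ⧸ Z := π.comp (T : Subgroup G).subtype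
  have hφk : φ.ker = center ↥(T : Subgroup G) := by
    rw [show φ.ker = π.ker.comap (T : Subgroup G).subtype from (MonoidHom.comap_ker π _).symm, hker, hZdef,
      comap_map_eq_self_of_injective (T : Subgroup G).subtype_injective]
  have hφr : φ.range = (Tb : Subgroup (G ⧸ Z)) := by
    rw [show φ.range = (T : Subgroup G).subtype.range.map π from MonoidHom.range_comp _ _, range_subtype,
      Sylow.coe_mapSurjective]
  have hcen : (center ↥(T : Subgroup G)).map e.toMonoidHom = center ↥(P : Subgroup ↥Cfsg.M24) := by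
    ext x
    rw [Subgroup.mem_map_equiv, mem_center_iff, mem_center_iff]
    exact ⟨fun h g => e.symm.injective (by simpa using h (e.symm g)),
      fun h g => e.injective (by simpa using h (e g))⟩
  have hiso : Nonempty (↥(Tb : Subgroup (G ⧸ Z)) ≃*
      (↥(P : Subgroup ↥Cfsg.M24) ⧸ Subgroup.center ↥(P : Subgroup ↥Cfsg.M24))) :=
    ⟨(MulEquiv.subgroupCongr hφr.symm).trans ((QuotientGroup.quotientKerEquivRange φ).symm.trans
      ((QuotientGroup.quotientMulEquivOfEq hφk).trans (QuotientGroup.congr _ _ e hcen)))⟩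
  have hObot : Cfsg.oddCore (G ⧸ Z) = ⊥ := by
    set O := Cfsg.oddCore (G ⧸ Z)
    set K := O.comap π
    have hZK : Z ≤ K := hker ▸ (MonoidHom.comap_bot π).symm.le.trans (comap_mono bot_le)
    have hsyl : IsSylIn Z K := by
      refine ⟨hZK, T.2.to_le hZT, ?_⟩
      rw [show Z = (⊥ : Subgroup (G ⧸ Z)).comap π by rw [MonoidHom.comap_bot, hker], relIndex_comap,
        map_comap_eq_self_of_surjective hπ, relIndex_bot_left]
      exact Agent.Cores.oddCore_odd
    haveI : (coreOf K).Normal := ⟨fun o ho g => conj_core_le (X := K) (X' := K) (fun k => by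
      refine ⟨fun h => (inferInstance : K.Normal).conj_mem k h g, fun h => ?_⟩
      have := (inferInstance : K.Normal).conj_mem _ h g⁻¹
      simpa [mul_assoc] using this) o ho⟩
    have hcore : coreOf K = ⊥ := le_bot_iff.1 (hO ▸ Agent.Cores.le_oddCore (odd_coreOf K))
    have hKZ : K ≤ Z := fun k hk => by
      obtain ⟨o, ho, z, hz, rfl⟩ := burnside hsyl (fun n _ _ z hz => mem_center_iff.1 (hZc hz) n) hk
      rw [hcore, mem_bot] at ho
      simpa [ho] using hz
    refine le_bot_iff.1 fun x hx => ?_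
    obtain ⟨k, rfl⟩ := hπ x
    exact mem_bot.2 ((QuotientGroup.eq_one_iff k).2 (hKZ hx))
  haveI := abelian_normal hD hAut hObot Tb P hiso Eb (map_mono hE) hEbc hEb64
  rw [← hEb]
  infer_instance

end Cfsg.Agent.M24Type
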