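import Cfsg.Agent.Lib.M24Type.Closure
import Cfsg.Agent.Lib.Walter.Core.Setting

/-!
# Tools for the normality of `A`

Burnside's transfer, the core of a subgroup above `A`, and the dihedral group of two involutions modulo a central
subgroup.
-/

set_option autoImplicit false
set_option linter.style.haveILetI false
set_option linter.unusedSectionVars false

open Subgroup
open Cfsg.Agent.Walter.Core (coreOf coreOf_le odd_coreOf le_normalizer_coreOf le_coreOf)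

universe u

namespace Cfsg.Agent.M24Type

variable {G : Type u} [Group G] [Finite G]

/-- Burnside: if the normalizer of a Sylow 2-subgroup `P` of `Y` centralizes it, then `Y = O(Y) P`. -/
theorem burnside {P Y : Subgroup G} (hP : IsSylIn P Y)
    (hN : ∀ n ∈ Y, n ∈ normalizer (P : Set G) → ∀ p ∈ P, n * p = p * n) {y : G} (hy : y ∈ Y) :
    ∃ o ∈ coreOf Y, ∃ p ∈ P, y = o * p := by
  haveI : Fact (Nat.Prime 2) := ⟨Nat.prime_two⟩
  have hPY : IsPGroup 2 ↥(P.subgroupOf Y) := hP.isP.comap_of_injective _ Y.subtype_injective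
  let T : Sylow 2 ↥Y := hPY.toSylow (Nat.two_dvd_ne_zero.2 (Nat.odd_iff.1 hP.odd))
  have hT : (T : Subgroup ↥Y) = P.subgroupOf Y := rfl
  have hNT : normalizer ((T : Subgroup ↥Y) : Set ↥Y) ≤ centralizer ((T : Subgroup ↥Y) : Set ↥Y) := by
    intro n hn
    refine mem_centralizer_iff.2 fun t ht => Subtype.ext ?_
    have hn' : (n : G) ∈ normalizer (P : Set G) := mem_normalizer_of_conj fun q hq => by
      have := conj_mem hn (show (⟨q, hP.le hq⟩ : ↥Y) ∈ (T : Subgroup ↥Y) from hq)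
      exact this
    exact (hN n n.2 hn' _ ht).symm
  have hc := MonoidHom.ker_transferSylow_isComplement' T hNT
  set K := (MonoidHom.transferSylow T hNT).ker
  have hKodd : Odd (Nat.card ↥K) := by
    rw [← hc.index_eq_card, hT]
    exact hP.odd
  have hK : K.map Y.subtype ≤ coreOf Y :=
    map_mono (Agent.Cores.le_oddCore hKodd)
  obtain ⟨⟨⟨k, hk⟩, ⟨t, ht⟩⟩, he⟩ := hc.2 (⟨y, hy⟩ : ↥Y)
  exact ⟨k, hK (mem_map_of_mem _ hk), t, ht, congrArg Subtype.val he.symm⟩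

theorem eq_one_of_odd {K : Subgroup G} (hK : Odd (Nat.card ↥K)) {x : G} (hx : x ∈ K) (h2 : x * x = 1) :
    x = 1 := by
  have h1 : orderOf x ∣ 2 := orderOf_dvd_of_pow_eq_one (by rw [pow_two, h2])
  rcases (Nat.dvd_prime Nat.prime_two).1 h1 with h | h
  · exact orderOf_eq_one_iff.1 h
  · have := hK.of_dvd_nat (K.orderOf_dvd_natCard hx)
    rw [h] at this
    exact absurd this (by decide)

/-- A power of two kills it only if it is trivial, in a group of odd order. -/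
theorem pow_two_mem {x : G} {j m : ℕ} (h : x ^ (2 ^ j * m) = 1) : (x ^ m) ^ 2 ^ j = 1 := by
  rw [← pow_mul, mul_comm, h]

/-- A 2-element normalizing a Sylow 2-subgroup of `Y` lies in it. -/
theorem IsSylIn.mem_of_normalizer {P Y : Subgroup G} (hP : IsSylIn P Y) {n : G} (hn : n ∈ Y)
    (hnP : n ∈ normalizer (P : Set G)) {j : ℕ} (h2 : n ^ 2 ^ j = 1) : n ∈ P := by
  have hP' : IsSylIn P (Y ⊓ normalizer (P : Set G)) :=
    hP.mono (le_inf hP.le le_normalizer) inf_le_left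
  obtain ⟨y, hy, h⟩ := hP'.exists_conj (Q := zpowers n) (zpowers_le.2 ⟨hn, hnP⟩)
    (Agent.SEAbelian.isPGroup_zpowers h2)
  exact (mem_normalizer_iff.1 hy.2 n).2 (h n (mem_zpowers n))

/-- A member of `coreOf Y ⊔ A` is a product. -/
theorem mem_core_sup {A Y : Subgroup G} (hAY : A ≤ Y) {x : G} :
    x ∈ coreOf Y ⊔ A ↔ ∃ o ∈ coreOf Y, ∃ a ∈ A, o * a = x :=
  Coprime.mem_sup_of_le_normalizer (hAY.trans (le_normalizer_coreOf Y))

theorem conj_mem_core {Y : Subgroup G} {y o : G} (hy : y ∈ Y) (ho : o ∈ coreOf Y) :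
    y * o * y⁻¹ ∈ coreOf Y :=
  conj_mem (le_normalizer_coreOf Y hy) ho

/-- The core of a subgroup is mapped into the core of the image. -/
theorem conj_core_le {X X' : Subgroup G} {g : G} (h : ∀ x, x ∈ X ↔ g * x * g⁻¹ ∈ X') :
    ∀ o ∈ coreOf X, g * o * g⁻¹ ∈ coreOf X' := by
  intro o ho
  refine le_coreOf (N := cj g (coreOf X)) ?_ ?_ ?_ (conj_mem_cj ho)
  · rintro _ ⟨z, hz, rfl⟩
    exact (h z).1 (coreOf_le X hz)
  · refine fun x hx => mem_normalizer_of_conj fun z hz => ?_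
    rw [mem_cj] at hz ⊢
    have hx' : g⁻¹ * x * g ∈ X := (h _).2 (by simpa [mul_assoc] using hx)
    rw [show g⁻¹ * (x * z * x⁻¹) * g = g⁻¹ * x * g * (g⁻¹ * z * g) * (g⁻¹ * x * g)⁻¹ by group]
    exact conj_mem_core hx' hz
  · rw [card_cj]
    exact odd_coreOf X

/-- `A O(Y)` is normal in `Y`. -/
def NormCore (A Y : Subgroup G) : Prop := ∀ y ∈ Y, ∀ a ∈ A, y * a * y⁻¹ ∈ coreOf Y ⊔ A

/-- Frattini: then `Y = O(Y) N_Y(A)`. -/
theorem Data.frattini {S : Sylow 2 G} {A : Subgroup G} (d : Data (S : Subgroup G) A) {Y : Subgroup G}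
    (hAY : A ≤ Y) (hY : NormCore A Y) {y : G} (hy : y ∈ Y) :
    ∃ o ∈ coreOf Y, ∃ n ∈ Y, n ∈ normalizer (A : Set G) ∧ y = o * n := by
  have hle : cj y A ≤ coreOf Y ⊔ A := by
    rintro _ ⟨a, ha, rfl⟩
    exact hY y hy a ha
  obtain ⟨z, hz, he⟩ := d.exists_conj_onto le_sup_right hle
  obtain ⟨o, ho, a, ha, rfl⟩ := (mem_core_sup hAY).1 hz
  have hn : o * a * y ∈ normalizer (A : Set G) := mem_normalizer_of_conj fun b hb => by
    have := conj_mem_cj (g := o * a * y) hb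
    rwa [he] at this
  refine ⟨a⁻¹ * o⁻¹ * a, ?_, a⁻¹ * (o * a * y),
    Y.mul_mem (Y.inv_mem (hAY ha)) (Y.mul_mem (Y.mul_mem (coreOf_le Y ho) (hAY ha)) hy),
    mul_mem (inv_mem (le_normalizer ha)) hn, by group⟩
  simpa using conj_mem_core (inv_mem (hAY ha)) (inv_mem ho)

/-- An element of `N(A)` in an odd subgroup normalized by `A` centralizes `A`. -/
theorem cent_of_odd {A K : Subgroup G} (hA2 : ∀ a ∈ A, a * a = 1) (hK : Odd (Nat.card ↥K))
    (hAK : A ≤ normalizer (K : Set G)) {o : G} (ho : o ∈ K) (hoA : o ∈ normalizer (A : Set G)) :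
    o ∈ centralizer (A : Set G) := by
  refine mem_centralizer_iff.2 fun a ha => ?_
  have hc : o * a * o⁻¹ * a⁻¹ ∈ A := mul_mem (conj_mem hoA ha) (inv_mem ha)
  have hc' : o * a * o⁻¹ * a⁻¹ ∈ K := by
    rw [show o * a * o⁻¹ * a⁻¹ = o * (a * o⁻¹ * a⁻¹) by group]
    exact mul_mem ho (conj_mem (hAK ha) (inv_mem ho))
  exact (conj_eq_iff.1 (mul_inv_eq_one.1 (eq_one_of_odd hK hc' (hA2 _ hc)))).symm

/-- Two involutions are conjugate modulo a central subgroup by an element of the group they generate, or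
centralize a common involution `i` such that `i f` is conjugate to one of them. -/
theorem dihedral {B : Subgroup G} {f z : G} (hf : f * f = 1) (hz : z * z = 1) :
    (∃ h : G, (∀ K : Subgroup G, f ∈ K → z ∈ K → h ∈ K) ∧ h * f * h⁻¹ * z⁻¹ ∈ B) ∨
      ∃ i : G, (∀ K : Subgroup G, f ∈ K → z ∈ K → i ∈ K) ∧ i ∉ B ∧ i * i ∈ B ∧
        i * f * i⁻¹ * f⁻¹ ∈ B ∧ i * z * i⁻¹ * z⁻¹ ∈ B ∧ f * i * f = i⁻¹ ∧
        ∃ h : G, (∀ K : Subgroup G, f ∈ K → z ∈ K → h ∈ K) ∧ (i * f = h * f * h⁻¹ ∨ i * f = h * z * h⁻¹) := by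
  classical
  have hfi : f⁻¹ = f := inv_eq_of_mul_eq_one_right hf
  have hzi : z⁻¹ = z := inv_eq_of_mul_eq_one_right hz
  set d := f * z with hd
  have hdK : ∀ (m : ℕ) (K : Subgroup G), f ∈ K → z ∈ K → d ^ m ∈ K := fun m K h1 h2 =>
    pow_mem (mul_mem h1 h2) m
  have hdi : d⁻¹ = z * f := by rw [hd, mul_inv_rev, hfi, hzi]
  have hfd : f * d * f⁻¹ = d⁻¹ := by
    rw [hdi, hd, hfi, ← mul_assoc, hf, one_mul]
  have hzd : z * d * z⁻¹ = d⁻¹ := by
    rw [hdi, hd, hzi, mul_assoc, mul_assoc, hz, mul_one]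
  have hfp : ∀ m : ℕ, f * d ^ m * f⁻¹ = (d ^ m)⁻¹ := fun m => by rw [← conj_pow, hfd, inv_pow]
  have hzp : ∀ m : ℕ, z * d ^ m * z⁻¹ = (d ^ m)⁻¹ := fun m => by rw [← conj_pow, hzd, inv_pow]
  -- conjugating `f` by a power of `d`
  have hconj : ∀ m : ℕ, d ^ m * f * (d ^ m)⁻¹ = d ^ (m + m) * f := fun m => by
    calc d ^ m * f * (d ^ m)⁻¹ = d ^ m * f * (f * d ^ m * f⁻¹) := by rw [hfp]
      _ = d ^ m * (f * f) * d ^ m * f⁻¹ := by group
      _ = d ^ (m + m) * f := by rw [hf, mul_one, hfi, pow_add]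
  have hex : ∃ n, 0 < n ∧ d ^ n ∈ B := ⟨orderOf d, orderOf_pos d, by rw [pow_orderOf_eq_one]; exact one_mem B⟩
  set n := Nat.find hex with hn
  obtain ⟨hn0, hnB⟩ := Nat.find_spec hex
  rcases Nat.even_or_odd n with ⟨k, hk⟩ | ⟨k, hk⟩
  · right
    have hk0 : 0 < k := by omega
    have hkB : d ^ k ∉ B := fun h => Nat.find_min hex (show k < Nat.find hex by rw [← hn]; omega) ⟨hk0, h⟩
    have hkk : d ^ k * d ^ k ∈ B := by rw [← pow_add, ← hk]; exact hnB
    refine ⟨d ^ k, hdK k, hkB, hkk, ?_, ?_, ?_, ?_⟩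
    · rw [show d ^ k * f * (d ^ k)⁻¹ * f⁻¹ = d ^ k * (f * (d ^ k)⁻¹ * f⁻¹) by group,
        show f * (d ^ k)⁻¹ * f⁻¹ = (f * d ^ k * f⁻¹)⁻¹ by group, hfp, inv_inv]
      exact hkk
    · rw [show d ^ k * z * (d ^ k)⁻¹ * z⁻¹ = d ^ k * (z * (d ^ k)⁻¹ * z⁻¹) by group,
        show z * (d ^ k)⁻¹ * z⁻¹ = (z * d ^ k * z⁻¹)⁻¹ by group, hzp, inv_inv]
      exact hkk
    · rw [← hfp k, hfi]
    · rcases Nat.even_or_odd k with ⟨j, hj⟩ | ⟨j, hj⟩
      · exact ⟨d ^ j, hdK j, Or.inl (by rw [hconj, hj])⟩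
      · refine ⟨d ^ j * f, fun K h1 h2 => mul_mem (hdK j K h1 h2) h1, Or.inr ?_⟩
        have h1 : d * f = f * z * f⁻¹ := by rw [hd, hfi]
        calc d ^ k * f = d * (d ^ (j + j) * f) := by
              rw [hj, show 2 * j + 1 = j + j + 1 by omega, pow_succ', mul_assoc]
          _ = d * (d ^ j * f * (d ^ j)⁻¹) := by rw [hconj]
          _ = d ^ j * (d * f) * (d ^ j)⁻¹ := by
              rw [← mul_assoc, ← mul_assoc, ← pow_succ', pow_succ, mul_assoc (d ^ j) d f]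
          _ = d ^ j * f * z * (d ^ j * f)⁻¹ := by rw [h1]; group
  · left
    refine ⟨d ^ k, hdK k, ?_⟩
    rw [hconj, hzi]
    have e : d ^ n = d ^ (k + k) * d := by rw [← pow_succ, hk]; congr 1; omega
    rw [e, hd, ← mul_assoc] at hnB
    rwa [← hd] at hnB

end Cfsg.Agent.M24Type
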